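import Cfsg.Agent.Lib.Invol.PushNorm.Struct

/-!
# The pair `W`, `W' = gWg⁻¹` inside `J = T ∩ K`
-/

set_option autoImplicit false
set_option linter.style.haveILetI false
set_option linter.unusedSectionVars false

namespace Cfsg.Agent.Invol.PushNorm

open Subgroup Matrix
open Cfsg.Agent.Grp.SL2 (up)
open Cfsg.Agent.Invol.Nat2 (dg dg_up mulVec_up mulVec_dg)

universe u

variable {G : Type u} [Group G] [Finite G] {F : Type} [Field F] [Finite F] [CharP F 2]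

theorem sq_of_pGroup {X : Subgroup G} (hX : IsPGroup 2 X) {x : G} (hx : x ∈ X) : IsPGroup 2 (zpowers x) :=
  hX.to_le (zpowers_le.mpr hx)

theorem zpowers_invol {x : G} (hx : x * x = 1) : IsPGroup 2 (zpowers x) := fun y => by
  obtain ⟨i, hi⟩ := mem_zpowers_iff.mp y.2
  refine ⟨1, Subtype.ext ?_⟩
  rw [Subgroup.coe_pow, ← hi, pow_one, pow_two, ← (Commute.refl x).mul_zpow i, hx, _root_.one_zpow,
    OneMemClass.coe_one]

namespace Fr

variable {H K M Q T W : Subgroup G} (R : Fr H K M Q T W F)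
include R

/-- The conjugate module. -/
def W' (R : Fr H K M Q T W F) : Subgroup G := cjS R.g W

/-- The fixed points of the conjugate block. -/
def Z' (R : Fr H K M Q T W F) : Subgroup G := cjS R.g R.Z

/-- The common subgroup. -/
def Y (R : Fr H K M Q T W F) : Subgroup G := W ⊓ R.W'

/-- The Sylow subgroup of the block. -/
def J (_ : Fr H K M Q T W F) : Subgroup G := T ⊓ K

theorem Bor_eq : R.Bor = M ⊓ normalizer (R.J : Set G) := rfl

theorem W_le_J : W ≤ R.J := le_inf (R.hyp.W_le_T R.mdl) R.W_le_K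

theorem cjQ : cjS R.g Q = R.W' := congrArg (cjS R.g) R.Q_eq

theorem W'_le_J : R.W' ≤ R.J := fun b hb => by
  obtain ⟨k, hk, hq⟩ := R.lin_mem (R.W'_T hb) (R.counts.2.2.1 b hb)
  simpa using (R.J).mul_mem (show k ∈ R.J from hk) (R.W_le_J (R.Q_eq.le hq))

theorem J_eq : R.J = W ⊔ R.W' :=
  le_antisymm (R.PK_le_J0.trans (sup_le (R.Q_eq.le.trans le_sup_left) le_sup_right))
    (sup_le R.W_le_J R.W'_le_J)

theorem J_le_T : R.J ≤ T := inf_le_left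

theorem J_le_K : R.J ≤ K := inf_le_right

theorem J_p : IsPGroup 2 R.J := R.hyp.T_p.to_le R.J_le_T

theorem cjW' : cjS R.g R.W' = W := R.cjS_W'

theorem cjJ : cjS R.g R.J = R.J := by
  rw [R.J_eq, cjS_sup, R.cjW', sup_comm]
  rfl

theorem g_norm_J : R.g ∈ normalizer (R.J : Set G) := cjS_eq_iff.mp R.cjJ

theorem W'_exp' : ∀ a ∈ R.W', a * a = 1 := R.W'_exp

theorem W'_comm {a b : G} (ha : a ∈ R.W') (hb : b ∈ R.W') : a * b = b * a := comm_of_exp R.W'_exp' ha hb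

theorem T_norm_W' : T ≤ normalizer (R.W' : Set G) := by
  show T ≤ normalizer (cjS R.g W : Set G)
  rw [normalizer_cjS]
  exact R.cjT.ge.trans (cjS_mono (R.T_le_M.trans R.M_W))

theorem exists_mul {x : G} (hx : x ∈ R.J) : ∃ a ∈ W, ∃ b ∈ R.W', x = a * b :=
  mem_mul_of_sup (R.W'_le_J.trans (R.J_le_T.trans (R.T_le_M.trans R.M_W))) (R.J_eq.le hx)

theorem J_le_J0 : R.J ≤ R.J0 := R.PK_le_J0

theorem mem_W_or {x : G} (hx : x ∈ R.J) (h2 : x * x = 1) : x ∈ W ∨ x ∈ R.W' :=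
  (R.mem_or_mem (R.J_le_J0 hx) h2).imp (fun h => R.Q_eq.le h) fun h => R.cjQ.le h

theorem le_W_or {E : Subgroup G} (hE : E ≤ R.J) (h2 : ∀ x ∈ E, x * x = 1) : E ≤ W ∨ E ≤ R.W' :=
  (R.le_or_le (hE.trans R.J_le_J0) h2).imp (fun h => h.trans R.Q_eq.le) fun h => h.trans R.cjQ.le

theorem mem_W'_iff {w : G} (hw : w ∈ W) : w ∈ R.W' ↔ R.co w 1 = 0 := by
  rw [← R.W_Q'_iff hw]
  exact ⟨fun h => R.cjQ.ge h, fun h => R.cjQ.le h⟩

theorem Y_iff {w : G} : w ∈ R.Y ↔ w ∈ W ∧ R.co w 1 = 0 :=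
  ⟨fun h => ⟨h.1, (R.mem_W'_iff h.1).mp h.2⟩, fun h => ⟨h.1, (R.mem_W'_iff h.1).mpr h.2⟩⟩

theorem Y_central {y x : G} (hy : y ∈ R.Y) (hx : x ∈ R.J) : x * y = y * x := by
  obtain ⟨a, ha, b, hb, rfl⟩ := R.exists_mul hx
  calc a * b * y = a * (b * y) := mul_assoc _ _ _
    _ = a * (y * b) := by rw [R.W'_comm hb hy.2]
    _ = (a * y) * b := (mul_assoc _ _ _).symm
    _ = (y * a) * b := by rw [R.mdl.comm a ha y hy.1]
    _ = y * (a * b) := mul_assoc _ _ _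

/-- An element of `J` outside `W` moves every vector off the axis. -/
theorem comm_iff {x a : G} (hx : x ∈ R.J) (hxW : x ∉ W) (ha : a ∈ W) (hc : x * a = a * x) : a ∈ R.W' :=
  (R.mem_W'_iff ha).mpr (R.fix_lin (R.J_le_T hx) (R.sig_K ⟨x, hx.2⟩) (fun h => hxW (R.Q_eq.le h)) (by
    rw [← R.co_mov (R.T_le_M (R.J_le_T hx)) ha, hc, mul_inv_cancel_right]))

theorem N_W : normalizer (W : Set G) = M := by
  refine le_antisymm ?_ R.M_W
  have h := R.hyp.le_M R.mdl.isPGroup R.mdl.ne (R.hyp.W_norm R.mdl)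
  exact h

theorem W_ne_W' : R.W' ≠ W := fun h => R.gM (R.N_W.le (cjS_eq_iff.mp h))

theorem Z_disj : R.Z ⊓ R.Z' = ⊥ := by
  have h : R.Z ≤ Q ⊓ centralizer (K : Set G) := inf_le_inf_right _ (R.hyp.W_le_Q R.mdl)
  exact le_bot_iff.mp ((inf_le_inf h (cjS_mono h)).trans R.C_disj.le)

theorem Z'_le_W : R.Z' ≤ W :=
  (cjS_mono (inf_le_inf_right _ (R.hyp.W_le_Q R.mdl))).trans R.C'_le_W

theorem cjZ' : cjS R.g R.Z' = R.Z := by
  rw [Z', cjS_cjS]
  exact cjS_eq_iff.mpr (R.M_Z R.gg_M)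

theorem Z'_le_Y : R.Z' ≤ R.Y := le_inf R.Z'_le_W (cjS_mono inf_le_left)

theorem Z_le_Y : R.Z ≤ R.Y := by
  refine le_inf inf_le_left ?_
  have h := cjS_mono (g := R.g) R.Z'_le_W
  rwa [R.cjZ'] at h

/-- `Y` is the preimage of the axis. -/
theorem card_Y : Nat.card R.Y = Nat.card R.Z * Nat.card F := by
  rw [← Nat.card_prod]
  refine Nat.card_congr (Equiv.ofBijective
    (fun y : ↥R.Y => ((R.coZ ⟨y, y.2.1⟩).1, R.co y 0)) ⟨fun a b h => ?_, fun p => ?_⟩)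
  · obtain ⟨h1, h2⟩ := Prod.mk.inj h
    refine Subtype.ext (congrArg (fun w : ↥W => (w : G)) (R.coZ_bij.1 (Prod.ext h1 ?_)) :)
    funext i
    fin_cases i
    · exact h2
    · exact ((R.Y_iff).mp a.2).2.trans ((R.Y_iff).mp b.2).2.symm
  · obtain ⟨⟨w, hw⟩, e⟩ := R.coZ_bij.2 (p.1, ![p.2, 0])
    obtain ⟨e1, e2⟩ := Prod.mk.inj e
    have e2' : R.co w = ![p.2, 0] := e2
    exact ⟨⟨w, (R.Y_iff).mpr ⟨hw, by rw [e2']; rfl⟩⟩, Prod.ext e1 (by show R.co w 0 = p.2; rw [e2']; rfl)⟩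

theorem co_Z'_inj {a b : G} (ha : a ∈ R.Z') (hb : b ∈ R.Z') (h : R.co a 0 = R.co b 0) : a = b := by
  have e : R.co a = R.co b := by
    funext i
    fin_cases i
    · exact h
    · exact ((R.Y_iff).mp (R.Z'_le_Y ha)).2.trans ((R.Y_iff).mp (R.Z'_le_Y hb)).2.symm
  have hm : a * b ∈ R.Z ⊓ R.Z' := ⟨(R.co_eq_iff (R.Z'_le_W ha) (R.Z'_le_W hb)).mp e, R.Z'.mul_mem ha hb⟩
  rw [R.Z_disj, mem_bot] at hm
  rw [eq_inv_of_mul_eq_one_left hm, R.mdl.inv_eq (R.Z'_le_W hb)]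

theorem card_Z : R.Z = ⊥ ∨ Nat.card R.Z = Nat.card F := by
  refine or_iff_not_imp_left.mpr fun hne => ?_
  have hc : Nat.card R.Z' = Nat.card R.Z := card_cjS _ _
  rw [← hc]
  refine Nat.card_congr (Equiv.ofBijective (fun a : ↥R.Z' => R.co a 0)
    ⟨fun a b h => Subtype.ext (R.co_Z'_inj a.2 b.2 h), fun c => ?_⟩)
  by_cases hc0 : c = 0
  · exact ⟨1, by show R.co 1 0 = c; rw [R.co_one, hc0]; rfl⟩
  obtain ⟨x, hx, hx1⟩ := (bot_or_exists_ne_one R.Z').resolve_left (cjS_ne_bot hne)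
  have hx0 : R.co x 0 ≠ 0 := fun e => hx1 (R.co_Z'_inj hx R.Z'.one_mem (by rw [e, R.co_one]; rfl))
  obtain ⟨d, hd, -, hdQ', hdK'⟩ := R.exists_torus (div_ne_zero hc0 hx0)
  have hdZ' : (d : G) ∈ normalizer (R.Z' : Set G) := by
    have e : R.Z' = cjS R.g Q ⊓ centralizer (cjS R.g K : Set G) := by
      rw [Z', Fr.Z, cjS_inf, centralizer_cjS, congrArg (cjS R.g) R.Q_eq]
    rw [e]
    exact norm_inf (Y := zpowers (d : G)) (zpowers_le.mpr hdQ') (norm_cent (zpowers_le.mpr hdK')) (mem_zpowers _)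
  refine ⟨⟨_, (mem_normalizer_iff.mp hdZ' x).mp hx⟩, ?_⟩
  show R.co ((d : G) * x * (d : G)⁻¹) 0 = c
  rw [R.co_conj d (R.Z'_le_W hx), hd, mulVec_dg]
  simp [hx0]

/-- In the second type `Y` is the product of the two fixed subgroups. -/
theorem Y_split (hZ : R.Z ≠ ⊥) {y : G} (hy : y ∈ R.Y) : ∃ a ∈ R.Z, ∃ b ∈ R.Z', y = a * b := by
  have hzn : R.Z' ≤ normalizer (R.Z : Set G) :=
    R.Z'_le_W.trans (R.W_le_K.trans (R.K_le_M.trans R.M_Z))
  refine mem_mul_of_sup hzn ?_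
  have h : R.Z ⊔ R.Z' = R.Y := by
    refine eq_of_le_of_card_ge (sup_le R.Z_le_Y R.Z'_le_Y) ?_
    have hd := R.Z_disj
    rw [R.card_Y, ← (R.card_Z).resolve_left hZ]
    nth_rewrite 2 [← card_cjS R.g R.Z]
    rw [← Nat.card_prod]
    refine Nat.card_le_card_of_injective
      (fun p : ↥R.Z × ↥R.Z' => (⟨(p.1 : G) * p.2, Subgroup.mul_mem_sup p.1.2 p.2.2⟩ : ↥(R.Z ⊔ R.Z'))) ?_
    rintro ⟨a, b⟩ ⟨a', b'⟩ e
    have e' : (a : G) * b = a' * b' := congrArg Subtype.val e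
    have hm : (a' : G)⁻¹ * a ∈ R.Z ⊓ R.Z' := ⟨R.Z.mul_mem (R.Z.inv_mem a'.2) a.2, by
      rw [show (a' : G)⁻¹ * a = b' * (b : G)⁻¹ by rw [eq_mul_inv_iff_mul_eq, mul_assoc, e']; group]
      exact R.Z'.mul_mem b'.2 (R.Z'.inv_mem b.2)⟩
    rw [hd, mem_bot, inv_mul_eq_one] at hm
    rw [hm] at e'
    exact Prod.ext (Subtype.ext hm.symm) (Subtype.ext (mul_left_cancel e'))
  exact h.ge hy

theorem Bor_norm_W' : R.Bor ≤ normalizer (R.W' : Set G) := fun n hn => by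
  refine cjS_eq_iff.mp ?_
  have hle : cjS n R.W' ≤ R.J := (cjS_mono R.W'_le_J).trans (cjS_eq_iff.mpr hn.2).le
  have hexp : ∀ a ∈ cjS n R.W', a * a = 1 := fun a ha => by
    have h := R.W'_exp' _ (mem_cjS.mp ha)
    calc a * a = n * (n⁻¹ * a * n * (n⁻¹ * a * n)) * n⁻¹ := by group
      _ = 1 := by rw [h]; group
  have hc : Nat.card (cjS n R.W') = Nat.card W := by rw [card_cjS]; exact card_cjS _ _
  rcases R.le_W_or hle hexp with h | h
  · refine absurd (cjS_inj (g := n) ?_) R.W_ne_W'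
    rw [cjS_eq_iff.mpr (R.M_W hn.1)]
    exact eq_of_le_of_card_ge h hc.ge
  · exact eq_of_le_of_card_ge h (card_cjS _ _).ge

theorem Bor_le_M' : R.Bor ≤ cjS R.g M := by
  refine R.Bor_norm_W'.trans ?_
  show normalizer (cjS R.g W : Set G) ≤ _
  rw [normalizer_cjS]
  exact cjS_mono R.N_W.le

theorem Bor_norm_K' : R.Bor ≤ normalizer (cjS R.g K : Set G) := by
  rw [normalizer_cjS]
  exact R.Bor_le_M'.trans (cjS_mono R.hyp.M_norm)

theorem Bor_norm_Z' : R.Bor ≤ normalizer (R.Z' : Set G) := by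
  show R.Bor ≤ normalizer (cjS R.g R.Z : Set G)
  rw [normalizer_cjS]
  exact R.Bor_le_M'.trans (cjS_mono R.M_Z)

theorem Bor_norm_Y : R.Bor ≤ normalizer (R.Y : Set G) :=
  norm_inf (inf_le_left.trans R.M_W) R.Bor_norm_W'

theorem J_le_Bor : R.J ≤ R.Bor := R.J_le_T.trans R.T_le_Bor

theorem g_conj_Bor {n : G} (hn : n ∈ R.Bor) : R.g⁻¹ * n * R.g ∈ R.Bor :=
  ⟨mem_cjS.mp (R.Bor_le_M' hn), (normalizer (R.J : Set G)).mul_mem
    ((normalizer (R.J : Set G)).mul_mem ((normalizer (R.J : Set G)).inv_mem R.g_norm_J) hn.2) R.g_norm_J⟩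

/-- An element of `N(J)` outside `M` is `g` followed by an element fixing both modules. -/
theorem swap_mem {r : G} (hr : r ∈ normalizer (R.J : Set G)) (hrM : r ∉ M) : R.g⁻¹ * r ∈ R.Bor := by
  refine ⟨R.N_W.le (cjS_eq_iff.mp ?_),
    (normalizer (R.J : Set G)).mul_mem ((normalizer (R.J : Set G)).inv_mem R.g_norm_J) hr⟩
  have hle : cjS r W ≤ R.J := (cjS_mono R.W_le_J).trans (cjS_eq_iff.mpr hr).le
  have hexp : ∀ a ∈ cjS r W, a * a = 1 := fun a ha => by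
    have h := R.mdl.exp _ (mem_cjS.mp ha)
    calc a * a = r * (r⁻¹ * a * r * (r⁻¹ * a * r)) * r⁻¹ := by group
      _ = 1 := by rw [h]; group
  rcases R.le_W_or hle hexp with h | h
  · exact absurd (R.N_W.le (cjS_eq_iff.mp (eq_of_le_of_card_ge h (card_cjS r W).ge))) hrM
  · rw [← cjS_cjS, eq_of_le_of_card_ge h (by rw [card_cjS]; exact (card_cjS _ _).le)]
    exact cjS_cancel _ _

variable {r : G} (hr : r ∈ normalizer (R.J : Set G)) (hrM : r ∉ M)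
include hr hrM

theorem swap_W : cjS r W = R.W' := by
  have h := cjS_eq_iff.mpr (R.M_W (R.swap_mem hr hrM).1)
  have h' := congrArg (cjS R.g) h
  rwa [cjS_cjS, mul_inv_cancel_left] at h'

theorem swap_W' : cjS r R.W' = W := by
  have h := congrArg (cjS R.g) (cjS_eq_iff.mpr (R.Bor_norm_W' (R.swap_mem hr hrM)))
  rw [cjS_cjS, mul_inv_cancel_left] at h
  exact h.trans R.cjW'

theorem swap_Z : cjS r R.Z = R.Z' := by
  have h' := congrArg (cjS R.g) (cjS_eq_iff.mpr (R.M_Z (R.swap_mem hr hrM).1))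
  rwa [cjS_cjS, mul_inv_cancel_left] at h'

theorem swap_Z' : cjS r R.Z' = R.Z := by
  have h := congrArg (cjS R.g) (cjS_eq_iff.mpr (R.Bor_norm_Z' (R.swap_mem hr hrM)))
  rw [cjS_cjS, mul_inv_cancel_left] at h
  exact h.trans R.cjZ'

theorem swap_Y : cjS r R.Y = R.Y := by
  show cjS r (W ⊓ R.W') = W ⊓ R.W'
  rw [cjS_inf, R.swap_W hr hrM, R.swap_W' hr hrM, inf_comm]

omit hr hrM

theorem swap_pair {a b : G} (ha : a ∈ normalizer (R.J : Set G)) (hb : b ∈ normalizer (R.J : Set G))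
    (haM : a ∉ M) (hbM : b ∉ M) : a * b ∈ R.Bor := by
  refine ⟨R.N_W.le (cjS_eq_iff.mp ?_), mul_mem ha hb⟩
  rw [← cjS_cjS, R.swap_W hb hbM, R.swap_W' ha haM]

/-- A linear 2-element of the Borel subgroup lies in `J`. -/
theorem lin_J {n : G} (hn : n ∈ R.Bor) (hl : R.Lin n) (h2 : IsPGroup 2 (zpowers n)) : n ∈ R.J := by
  obtain ⟨k, hk⟩ := R.P.surjρ (up (R.be n))
  have hkJ : (k : G) ∈ R.J := ⟨(R.hT k).mpr ⟨_, hk⟩, k.2⟩
  have hp : IsPGroup 2 ↥(R.J ⊔ zpowers n) :=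
    R.J_p.to_sup_of_normal_left' h2 (zpowers_le.mpr hn.2)
  have hm : (k : G)⁻¹ * n ∈ R.J ⊔ zpowers n :=
    mul_mem (inv_mem (mem_sup_left hkJ)) (mem_sup_right (mem_zpowers n))
  have hM : (k : G)⁻¹ * n ∈ M := M.mul_mem (M.inv_mem (R.K_le_M k.2)) hn.1
  have hW : (k : G)⁻¹ * n ∈ W := R.Q_eq.le (R.mem_Q_of_triv hM (sq_of_pGroup hp hm)
    (by rw [R.Q_eq]; exact R.M_W hM) fun x => R.mov_inj (R.K_le_M k.2) (by
      rw [← R.mov_mul (R.K_le_M k.2) hM, mul_inv_cancel_left, R.mov_unip hn hl h2, R.mov_K, hk, mulVec_up]))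
  simpa using (R.J).mul_mem hkJ (R.W_le_J hW)

theorem lin_of_J {n : G} (hn : n ∈ R.J) : R.Lin n := R.sig_K ⟨n, hn.2⟩

theorem lin_mul_invol {a b : G} (ha : a ∈ M) (hb : b ∈ M) (ha2 : a * a = 1) (hb2 : b * b = 1)
    (hla : ¬ R.Lin a) (hlb : ¬ R.Lin b) : R.Lin (a * b) := by
  obtain ⟨c, hc⟩ := R.exists_sig_ne hla
  obtain ⟨c', hc'⟩ := R.exists_sig_ne hlb
  have hinv : ∀ {n : G} (hn : n ∈ M), n * n = 1 → ∀ x : F, R.sig n (R.sig n x) = x := fun {n} hn h2 x => by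
    rw [← R.sig_comp hn hn, h2, R.sig_unit]
  have e := NatPair.eq_of_involutive (R.sigHom ha) (R.sigHom hb) (hinv ha ha2) (hinv hb hb2) hc hc'
  intro x
  rw [R.sig_comp ha hb, ← show R.sig a x = R.sig b x from e x, hinv ha ha2]

end Fr

end Cfsg.Agent.Invol.PushNorm
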