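import Cfsg.Agent.Lib.Invol.PushNorm.Elem
import Cfsg.Agent.Lib.Grp.SchurZassenhaus

/-!
# A complement with trivial normalizer in `J`, and the involutions it yields
-/

set_option autoImplicit false
set_option linter.style.haveILetI false
set_option linter.unusedSectionVars false

namespace Cfsg.Agent.Invol.PushNorm

open Subgroup Matrix
open Cfsg.Agent.Grp.SL2 (up)
open Cfsg.Agent.Invol.Nat2 (dg dg_up mulVec_up mulVec_dg)
open scoped Pointwise

universe u

variable {G : Type u} [Group G] [Finite G] {F : Type} [Field F] [Finite F] [CharP F 2]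

theorem smul_eq_cjS (a : G) (X : Subgroup G) : MulAut.conj a • X = cjS a X := rfl

theorem relIndex_sup' {X N : Subgroup G} (h : X ≤ normalizer (N : Set G)) :
    N.relIndex (N ⊔ X) = N.relIndex X := by
  haveI : (N.subgroupOf (N ⊔ X)).Normal :=
    normal_subgroupOf_of_le_normalizer (sup_le le_normalizer h)
  have := Subgroup.relIndex_sup_right (H := X.subgroupOf (N ⊔ X)) (K := N.subgroupOf (N ⊔ X))
  rw [← Subgroup.subgroupOf_sup le_sup_right le_sup_left, sup_comm X N, Subgroup.relIndex_subgroupOf le_rfl,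
    Subgroup.relIndex_subgroupOf le_sup_right] at this
  exact this

theorem up_inv' (c : F) : (up c)⁻¹ = (up c : Matrix.SpecialLinearGroup (Fin 2) F) :=
  inv_eq_of_mul_eq_one_left (by rw [Grp.SL2.up_mul, CharTwo.add_self_eq_zero, Grp.SL2.up_zero])

/-- A nontrivial 2-group has an involution. -/
theorem exists_invol {P : Subgroup G} (hP : IsPGroup 2 P) (hne : P ≠ ⊥) : ∃ x ∈ P, x ≠ 1 ∧ x * x = 1 := by
  haveI : Fact (Nat.Prime 2) := ⟨Nat.prime_two⟩
  haveI : Nontrivial ↥P := (Subgroup.nontrivial_iff_ne_bot P).mpr hne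
  obtain ⟨n, hn, hc⟩ := hP.nontrivial_iff_card.mp inferInstance
  obtain ⟨x, hx⟩ := exists_prime_orderOf_dvd_card' (G := ↥P) 2 (hc ▸ dvd_pow_self 2 (by omega))
  refine ⟨x, x.2, fun e => ?_, ?_⟩
  · rw [show x = 1 from Subtype.ext e, orderOf_one] at hx; norm_num at hx
  · have := congrArg Subtype.val (pow_orderOf_eq_one x)
    rwa [hx, pow_two] at this

namespace Fr

variable {H K M Q T W : Subgroup G} (R : Fr H K M Q T W F)
include R

/-- The group generated by the two Borel subgroups. -/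
def X (R : Fr H K M Q T W F) : Subgroup G := (K ⊓ R.Bor) ⊔ cjS R.g (K ⊓ R.Bor)

theorem J_le_N1 : R.J ≤ K ⊓ R.Bor := le_inf R.J_le_K R.J_le_Bor

theorem cjN2 : cjS R.g (cjS R.g (K ⊓ R.Bor)) = K ⊓ R.Bor := by
  rw [cjS_cjS]
  exact cjS_eq_iff.mpr (norm_inf (inf_le_left.trans R.hyp.M_norm) le_normalizer
    (show R.g * R.g ∈ R.Bor from ⟨R.gg_M, (normalizer (R.J : Set G)).mul_mem R.g_norm_J R.g_norm_J⟩))

theorem Bor_norm_X : R.Bor ≤ normalizer (R.X : Set G) := by
  refine norm_sup (norm_inf (inf_le_left.trans R.hyp.M_norm) le_normalizer) ?_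
  rw [normalizer_cjS]
  intro n hn
  rw [mem_cjS]
  exact norm_inf (inf_le_left.trans R.hyp.M_norm) le_normalizer (R.g_conj_Bor hn)

theorem N_norm_X : normalizer (R.J : Set G) ≤ normalizer (R.X : Set G) := by
  intro r hr
  by_cases hrM : r ∈ M
  · exact R.Bor_norm_X ⟨hrM, hr⟩
  have hg : R.g ∈ normalizer (R.X : Set G) := cjS_eq_iff.mp (by
    rw [X, cjS_sup, R.cjN2, sup_comm])
  simpa using (normalizer (R.X : Set G)).mul_mem hg (R.Bor_norm_X (R.swap_mem hr hrM))

theorem J_norm_K_Bor : R.J.relIndex (K ⊓ R.Bor) ∣ (T ⊓ K).relIndex K :=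
  ⟨(K ⊓ R.Bor).relIndex K, (relIndex_mul_relIndex _ _ _ R.J_le_N1 inf_le_left).symm⟩

theorem X_odd : Odd (R.J.relIndex R.X) := by
  have hn : cjS R.g (K ⊓ R.Bor) ≤ normalizer ((K ⊓ R.Bor : Subgroup G) : Set G) := by
    refine (cjS_mono inf_le_right).trans ?_
    intro x hx
    rw [mem_cjS] at hx
    have := R.g_conj_Bor' hx
    rw [show R.g * (R.g⁻¹ * x * R.g) * R.g⁻¹ = x by group] at this
    exact norm_inf (inf_le_left.trans R.hyp.M_norm) le_normalizer this
  have h1 : Odd (R.J.relIndex (K ⊓ R.Bor)) := R.PK_rel_odd.of_dvd_nat R.J_norm_K_Bor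
  have h2 : Odd ((K ⊓ R.Bor).relIndex (cjS R.g (K ⊓ R.Bor))) := by
    refine Odd.of_dvd_nat ?_ (relIndex_dvd_of_le_left _ R.J_le_N1)
    rw [← R.cjJ]
    rwa [cjS, cjS, relIndex_map_map_of_injective _ _ (MulAut.conj R.g).injective]
  rw [X, ← relIndex_mul_relIndex R.J (K ⊓ R.Bor) _ R.J_le_N1 le_sup_left, relIndex_sup' hn]
  exact h1.mul h2

/-- A complement to `J` in `X` centralizes only fixed points. -/
theorem cent_compl {A : Subgroup G} (hA : A ≤ R.X) (hsup : R.X ≤ R.J ⊔ A) :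
    R.J ⊓ centralizer (A : Set G) ≤ R.Z := by
  obtain ⟨t, ht, ht1⟩ := R.exists_scalar
  obtain ⟨d, hd, hdP, -, -⟩ := R.exists_torus ht
  have hdX : (d : G) ∈ R.X := mem_sup_left ⟨d.2, R.K_le_M d.2, hdP⟩
  have hn : A ≤ normalizer (R.J : Set G) :=
    hA.trans (sup_le (inf_le_right.trans inf_le_right) (by
      refine (cjS_mono (inf_le_right.trans inf_le_right)).trans ?_
      rw [← normalizer_cjS]
      exact le_of_eq (congrArg (fun Y : Subgroup G => normalizer (Y : Set G)) R.cjJ)))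
  obtain ⟨j0, hj0, a, ha, hda⟩ := mem_mul_of_sup hn (hsup hdX)
  have haK : a ∈ K := by
    rw [show a = j0⁻¹ * (d : G) by rw [hda]; group]
    exact K.mul_mem (K.inv_mem hj0.2) d.2
  obtain ⟨c, hc⟩ := (R.hT ⟨j0, hj0.2⟩).mp hj0.1
  have hρa : R.P.ρ ⟨a, haK⟩ = (up c)⁻¹ * dg t ht := by
    rw [← hc, ← hd, ← map_inv, ← map_mul]
    exact congrArg R.P.ρ (Subtype.ext (show a = j0⁻¹ * (d : G) by rw [hda]; group))
  rintro x ⟨hxJ, hxA⟩
  have hxa : a * x = x * a := mem_centralizer_iff.mp hxA a ha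
  obtain ⟨s, hs⟩ := (R.hT ⟨x, hxJ.2⟩).mp hxJ.1
  have hcm : (up c)⁻¹ * dg t ht * up s = up s * ((up c)⁻¹ * dg t ht) := by
    rw [← hρa, ← hs, ← map_mul, ← map_mul]
    exact congrArg R.P.ρ (Subtype.ext hxa)
  have hs0 : s = 0 := by
    have h := congrArg (fun A : Matrix.SpecialLinearGroup (Fin 2) F => (A : Matrix (Fin 2) (Fin 2) F).mulVec ![0, 1])
      hcm
    simp only [Matrix.SpecialLinearGroup.coe_mul, ← Matrix.mulVec_mulVec, up_inv', mulVec_up, mulVec_dg] at h
    have h0 := congrFun h 0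
    simp at h0
    have hmul : s * (t * t + 1) = 0 := by
      field_simp at h0
      linear_combination h0 + s * CharTwo.two_eq_zero (R := F)
    refine (mul_eq_zero.mp hmul).resolve_right fun e => ht1 ?_
    have : (t + 1) * (t + 1) = 0 := by linear_combination e + t * CharTwo.two_eq_zero (R := F)
    exact CharTwo.add_eq_zero.mp (mul_self_eq_zero.mp this)
  have hxW : x ∈ W := (R.P.kerρ ⟨x, hxJ.2⟩).mp (by rw [hs, hs0, Grp.SL2.up_zero])
  refine (R.co_eq_zero hxW).mp ?_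
  have h := R.co_conj ⟨a, haK⟩ hxW
  rw [show ((⟨a, haK⟩ : ↥K) : G) = a from rfl, hxa, mul_inv_cancel_right, hρa,
    Matrix.SpecialLinearGroup.coe_mul, ← Matrix.mulVec_mulVec, mulVec_dg, up_inv', mulVec_up] at h
  have h0 := congrFun h 0
  have h1 := congrFun h 1
  simp at h0 h1
  have e1 : R.co x 1 = 0 := by
    field_simp at h1
    exact (mul_eq_zero.mp (show R.co x 1 * (t - 1) = 0 by linear_combination h1)).resolve_right
      (sub_ne_zero.mpr ht1)
  rw [e1] at h0
  simp at h0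
  ext i
  fin_cases i
  · exact (mul_eq_zero.mp (show R.co x 0 * (t - 1) = 0 by linear_combination -h0)).resolve_right
      (sub_ne_zero.mpr ht1)
  · exact e1

/-- A complement, invariant up to `J`, with trivial normalizer in `J`. -/
theorem exists_compl : ∃ A : Subgroup G, R.J ⊓ normalizer (A : Set G) = ⊥ ∧
    ∀ s ∈ normalizer (R.J : Set G), ∃ j ∈ R.J, j * s ∈ normalizer (A : Set G) := by
  haveI : Fact (Nat.Prime 2) := ⟨Nat.prime_two⟩
  have hJX : R.J ≤ R.X := R.J_le_N1.trans le_sup_left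
  have hXN : R.X ≤ normalizer (R.J : Set G) := sup_le (inf_le_right.trans inf_le_right) (by
    refine (cjS_mono (inf_le_right.trans inf_le_right)).trans ?_
    rw [← normalizer_cjS]
    exact le_of_eq (congrArg (fun Y : Subgroup G => normalizer (Y : Set G)) R.cjJ))
  haveI : (R.J.subgroupOf R.X).Normal := normal_subgroupOf_of_le_normalizer hXN
  obtain ⟨k, hk⟩ := IsPGroup.iff_card.mp R.J_p
  have hcop : (Nat.card (R.J.subgroupOf R.X)).Coprime (R.J.subgroupOf R.X).index := by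
    rw [Nat.card_congr (subgroupOfEquivOfLe hJX).toEquiv, hk]
    exact (Nat.coprime_two_left.mpr R.X_odd).pow_left k
  obtain ⟨B, hB⟩ := Subgroup.exists_right_complement'_of_coprime hcop
  obtain ⟨A, hA⟩ : ∃ A, A = B.map R.X.subtype := ⟨_, rfl⟩
  have hAX : A ≤ R.X := hA ▸ map_subtype_le B
  have hXA : R.X ≤ R.J ⊔ A := by
    intro x hx
    obtain ⟨⟨a, b⟩, e⟩ := hB.2 ⟨x, hx⟩
    have e' : ((a : ↥R.X) : G) * ((b : ↥R.X) : G) = x := congrArg Subtype.val e
    rw [← e']
    exact Subgroup.mul_mem_sup (mem_subgroupOf.mp a.2) (hA ▸ mem_map_of_mem R.X.subtype b.2)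
  have hcA : Nat.card A = R.J.relIndex R.X := by
    rw [hA, card_map_of_injective R.X.subtype_injective]
    have h1 := hB.card_mul_card
    rw [← (R.J.subgroupOf R.X).card_mul_index] at h1
    exact Nat.eq_of_mul_eq_mul_left Nat.card_pos h1
  have hcop' : (Nat.card R.J).Coprime (Nat.card A) := by
    rw [hcA, hk]
    exact (Nat.coprime_two_left.mpr R.X_odd).pow_left k
  have hgX : cjS R.g R.X = R.X := cjS_eq_iff.mpr (R.N_norm_X R.g_norm_J)
  refine ⟨A, ?_, fun s hs => ?_⟩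
  · have hle : R.J ⊓ normalizer (A : Set G) ≤ R.J ⊓ centralizer (A : Set G) := fun j hj =>
      ⟨hj.1, mem_centralizer_iff.mpr fun a ha => by
        have h1 : a * j * a⁻¹ * j⁻¹ ∈ R.J := R.J.mul_mem (conj_mem hXN (hAX ha) hj.1) (R.J.inv_mem hj.1)
        have h2 : a * j * a⁻¹ * j⁻¹ ∈ A := by
          rw [show a * j * a⁻¹ * j⁻¹ = a * (j * a⁻¹ * j⁻¹) by group]
          exact A.mul_mem ha ((mem_normalizer_iff.mp hj.2 _).mp (A.inv_mem ha))
        have h3 : a * j * a⁻¹ * j⁻¹ = 1 := by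
          have hd := Subgroup.inf_eq_bot_of_coprime hcop'
          exact mem_bot.mp (hd.le ⟨h1, h2⟩)
        rwa [mul_inv_eq_one, mul_inv_eq_iff_eq_mul] at h3⟩
    refine le_bot_iff.mp (hle.trans (le_trans (le_inf (R.cent_compl hAX hXA) ?_) R.Z_disj.le))
    -- the conjugate complement gives the other bound
    have h := R.cent_compl (A := cjS R.g A) ((cjS_mono hAX).trans hgX.le)
      (by conv_lhs => rw [← hgX]
          refine (cjS_mono hXA).trans ?_
          rw [cjS_sup, R.cjJ])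
    rw [← R.cjJ, centralizer_cjS, ← cjS_inf] at h
    have h' := cjS_mono (g := R.g) h
    rw [cjS_cjS] at h'
    have hgg : R.g * R.g ∈ M := R.gg_M
    intro x hx
    have h3 : (R.g * R.g) * x * (R.g * R.g)⁻¹ ∈ R.Z' := h' (conj_mem_cjS hx)
    have hgB : R.g * R.g ∈ R.Bor := ⟨hgg, (normalizer (R.J : Set G)).mul_mem R.g_norm_J R.g_norm_J⟩
    exact (mem_normalizer_iff.mp (R.Bor_norm_Z' hgB) x).mpr h3
  · have hsA : cjS s A ≤ R.J ⊔ A := ((cjS_mono hAX).trans
      (cjS_eq_iff.mpr (R.N_norm_X hs)).le).trans hXA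
    haveI : Group.IsNilpotent ↥R.J := R.J_p.isNilpotent
    obtain ⟨n, hn, e⟩ := Grp.exists_conj_of_le_sup (N := R.J) (H := A) (K := cjS s A) (hAX.trans hXN) hsA
      (card_cjS _ _) hcop' (Or.inl inferInstance)
    refine ⟨n⁻¹, R.J.inv_mem hn, cjS_eq_iff.mp ?_⟩
    rw [← cjS_cjS, ← e, smul_eq_cjS, cjS_cancel]

end Fr

end Cfsg.Agent.Invol.PushNorm
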