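import Mathlib

/-!
# Conjugate subgroups
-/

set_option autoImplicit false

namespace Cfsg.Agent.Invol.PushNorm

open Subgroup

variable {G : Type*} [Group G]

/-- The conjugate of `X` by `g`. -/
def cjS (g : G) (X : Subgroup G) : Subgroup G := X.map (MulAut.conj g).toMonoidHom

theorem mem_cjS {g x : G} {X : Subgroup G} : x ∈ cjS g X ↔ g⁻¹ * x * g ∈ X := by
  constructor
  · rintro ⟨y, hy, rfl⟩
    show g⁻¹ * (g * y * g⁻¹) * g ∈ X
    rw [show g⁻¹ * (g * y * g⁻¹) * g = y by group]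
    exact hy
  · intro h
    exact ⟨_, h, show g * (g⁻¹ * x * g) * g⁻¹ = x by group⟩

theorem conj_mem_cjS {g x : G} {X : Subgroup G} (h : x ∈ X) : g * x * g⁻¹ ∈ cjS g X :=
  mem_map_of_mem (MulAut.conj g).toMonoidHom h

theorem cjS_mono {g : G} {X Y : Subgroup G} (h : X ≤ Y) : cjS g X ≤ cjS g Y := map_mono h

theorem cjS_le_iff {g : G} {X Y : Subgroup G} : cjS g X ≤ cjS g Y ↔ X ≤ Y :=
  map_le_map_iff_of_injective (MulAut.conj g).injective

theorem cjS_sup (g : G) (X Y : Subgroup G) : cjS g (X ⊔ Y) = cjS g X ⊔ cjS g Y := map_sup _ _ _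

theorem cjS_inf (g : G) (X Y : Subgroup G) : cjS g (X ⊓ Y) = cjS g X ⊓ cjS g Y :=
  map_inf _ _ _ (MulAut.conj g).injective

theorem cjS_cjS (a b : G) (X : Subgroup G) : cjS a (cjS b X) = cjS (a * b) X := by
  ext x
  simp only [mem_cjS, mul_inv_rev, mul_assoc]

theorem cjS_one (X : Subgroup G) : cjS 1 X = X := by
  ext x
  simp [mem_cjS]

theorem cjS_cancel (g : G) (X : Subgroup G) : cjS g⁻¹ (cjS g X) = X := by rw [cjS_cjS, inv_mul_cancel, cjS_one]

theorem cjS_cancel' (g : G) (X : Subgroup G) : cjS g (cjS g⁻¹ X) = X := by rw [cjS_cjS, mul_inv_cancel, cjS_one]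

theorem cjS_inj {g : G} {X Y : Subgroup G} (h : cjS g X = cjS g Y) : X = Y := by
  rw [← cjS_cancel g X, h, cjS_cancel]

theorem card_cjS (g : G) (X : Subgroup G) : Nat.card (cjS g X) = Nat.card X :=
  card_map_of_injective (MulAut.conj g).injective

theorem isPGroup_cjS {p : ℕ} {g : G} {X : Subgroup G} (h : IsPGroup p X) : IsPGroup p (cjS g X) := h.map _

theorem cjS_ne_bot {g : G} {X : Subgroup G} (h : X ≠ ⊥) : cjS g X ≠ ⊥ := fun e =>
  h (cjS_inj (e.trans (Subgroup.map_bot _).symm))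

theorem normalizer_cjS (g : G) (X : Subgroup G) :
    normalizer (cjS g X : Set G) = cjS g (normalizer (X : Set G)) := by
  rw [cjS, cjS, Subgroup.map_equiv_normalizer_eq]

theorem centralizer_cjS (g : G) (X : Subgroup G) :
    centralizer (cjS g X : Set G) = cjS g (centralizer (X : Set G)) := by
  ext x
  simp only [mem_cjS, mem_centralizer_iff]
  constructor
  · intro h y hy
    have := h (g * y * g⁻¹) (conj_mem_cjS hy)
    calc y * (g⁻¹ * x * g) = g⁻¹ * (g * y * g⁻¹ * x) * g := by group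
      _ = g⁻¹ * (x * (g * y * g⁻¹)) * g := by rw [this]
      _ = g⁻¹ * x * g * y := by group
  · intro h z hz
    have := h (g⁻¹ * z * g) (mem_cjS.mp hz)
    calc z * x = g * (g⁻¹ * z * g * (g⁻¹ * x * g)) * g⁻¹ := by group
      _ = g * (g⁻¹ * x * g * (g⁻¹ * z * g)) * g⁻¹ := by rw [this]
      _ = x * z := by group

theorem cjS_eq_iff [Finite G] {g : G} {X : Subgroup G} : cjS g X = X ↔ g ∈ normalizer (X : Set G) := by
  constructor
  · intro h
    exact mem_normalizer_fintype fun x hx => h.le (conj_mem_cjS hx)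
  · intro h
    refine eq_of_le_of_card_ge ?_ (card_cjS g X).ge
    rintro _ ⟨x, hx, rfl⟩
    exact (mem_normalizer_iff.mp h x).mp hx

theorem cjS_eq_of_le [Finite G] {g : G} {X : Subgroup G} (h : ∀ x ∈ X, g * x * g⁻¹ ∈ X) : cjS g X = X :=
  cjS_eq_iff.mpr (mem_normalizer_fintype h)

/-- `h` normalises `X` if it moves the generators into `X`. -/
theorem mem_norm [Finite G] {g : G} {X : Subgroup G} (h : ∀ x ∈ X, g * x * g⁻¹ ∈ X) :
    g ∈ normalizer (X : Set G) := mem_normalizer_fintype h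

theorem norm_le [Finite G] {Y X : Subgroup G} (h : ∀ g ∈ Y, ∀ x ∈ X, g * x * g⁻¹ ∈ X) :
    Y ≤ normalizer (X : Set G) := fun g hg => mem_normalizer_fintype (h g hg)

theorem conj_mem {Y X : Subgroup G} (h : Y ≤ normalizer (X : Set G)) {g x : G} (hg : g ∈ Y) (hx : x ∈ X) :
    g * x * g⁻¹ ∈ X := (mem_normalizer_iff.mp (h hg) x).mp hx

theorem norm_inf {Y A B : Subgroup G} (hA : Y ≤ normalizer (A : Set G)) (hB : Y ≤ normalizer (B : Set G)) :
    Y ≤ normalizer ((A ⊓ B : Subgroup G) : Set G) := fun g hg => by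
  rw [mem_normalizer_iff]
  intro x
  simp only [mem_inf, mem_normalizer_iff.mp (hA hg) x, mem_normalizer_iff.mp (hB hg) x]

theorem norm_sup [Finite G] {Y A B : Subgroup G} (hA : Y ≤ normalizer (A : Set G))
    (hB : Y ≤ normalizer (B : Set G)) : Y ≤ normalizer ((A ⊔ B : Subgroup G) : Set G) := fun g hg => by
  refine cjS_eq_iff.mp ?_
  rw [cjS_sup, cjS_eq_iff.mpr (hA hg), cjS_eq_iff.mpr (hB hg)]

end Cfsg.Agent.Invol.PushNorm
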