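import Cfsg.Agent.Lib.Invol.PushNorm.Three
import Cfsg.Agent.Lib.Invol.NatPair.Semi

/-!
# Coordinates on a natural module up to fixed points

`Fr` fixes coordinates in which `T ∩ K` induces the upper unitriangular matrices. An element of `M` acts
semilinearly; `sig` is its field automorphism.
-/

set_option autoImplicit false
set_option linter.style.haveILetI false
set_option linter.unusedSectionVars false

namespace Cfsg.Agent.Invol.PushNorm

open Subgroup Matrix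
open Cfsg.Agent.Grp.SL2 (up)
open Cfsg.Agent.Invol.Nat2 (mulVec_up)

universe u

variable {G : Type u} [Group G] [Finite G] {F : Type} [Field F] [Finite F] [CharP F 2]

/-- A block of natural shape with its frame, and an element moving it. -/
structure Fr (H K M Q T W : Subgroup G) (F : Type) [Field F] where
  hyp : Hyp H K M Q T
  mdl : Mdl K W
  q4 : 4 ≤ Nat.card F
  P : NatMod K W F
  hT : ∀ k : ↥K, (k : G) ∈ T ↔ ∃ t, P.ρ k = up t
  g : G
  gT : g ∈ normalizer (T : Set G)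
  gM : g ∉ M

/-- A natural module has a frame. -/
theorem exists_fr {H K M Q T W : Subgroup G} (h : Hyp H K M Q T) (hm : Mdl K W) (P : NatMod K W F)
    (q4 : 4 ≤ Nat.card F) {g : G} (gT : g ∈ normalizer (T : Set G)) (gM : g ∉ M) :
    Nonempty (Fr H K M Q T W F) := by
  classical
  haveI : Fact (Nat.Prime 2) := ⟨Nat.prime_two⟩
  obtain ⟨S, hS⟩ := h.exists_sylow_K
  obtain ⟨x, hx⟩ := Nat2.exists_conj_upG 2 (S.mapSurjective P.surjρ)
  have hx' : (S : Subgroup ↥K).map P.ρ =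
      (Nat2.upG : Subgroup (Matrix.SpecialLinearGroup (Fin 2) F)).map (MulAut.conj x).toMonoidHom := hx
  have hWT : ∀ k : ↥K, (k : G) ∈ W → k ∈ (S : Subgroup ↥K) := fun k hk =>
    hS ▸ mem_subgroupOf.mpr (h.W_le_T hm hk)
  obtain ⟨c, hc⟩ : ∃ c : Multiplicative (Fin 2 → F) →* Multiplicative (Fin 2 → F),
      ∀ v, Multiplicative.toAdd (c v) =
        ((x⁻¹ : Matrix.SpecialLinearGroup (Fin 2) F) : Matrix (Fin 2) (Fin 2) F).mulVec (Multiplicative.toAdd v) :=
    ⟨{ toFun := fun v => Multiplicative.ofAdd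
          (((x⁻¹ : Matrix.SpecialLinearGroup (Fin 2) F) : Matrix (Fin 2) (Fin 2) F).mulVec (Multiplicative.toAdd v))
       map_one' := by simp
       map_mul' := fun a b => by rw [toAdd_mul, Matrix.mulVec_add, ofAdd_add] }, fun _ => rfl⟩
  have hcinj : Function.Injective c := fun a b e => Multiplicative.toAdd.injective (by
    have e' := congrArg (fun v => (x : Matrix (Fin 2) (Fin 2) F).mulVec (Multiplicative.toAdd v)) e
    simpa only [hc, Matrix.mulVec_mulVec, ← Matrix.SpecialLinearGroup.coe_mul, mul_inv_cancel,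
      Matrix.SpecialLinearGroup.coe_one, Matrix.one_mulVec] using e')
  refine ⟨{ hyp := h, mdl := hm, q4 := q4, g := g, gT := gT, gM := gM, hT := ?_,
            P := { ρ := (MulAut.conj x⁻¹).toMonoidHom.comp P.ρ
                   surjρ := (MulAut.conj x⁻¹).surjective.comp P.surjρ
                   kerρ := fun k => ((MulAut.conj x⁻¹).map_eq_one_iff).trans (P.kerρ k)
                   ψ := c.comp P.ψ
                   surjψ := (Finite.injective_iff_surjective.mp hcinj).comp P.surjψ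
                   kerψ := fun u => (map_eq_one_iff c hcinj).trans (P.kerψ u)
                   act := fun k u hm => ?_ } }⟩
  · show Multiplicative.toAdd (c (P.ψ ⟨_, hm⟩)) = ((x⁻¹ * P.ρ k * x⁻¹⁻¹ : Matrix.SpecialLinearGroup (Fin 2) F) :
      Matrix (Fin 2) (Fin 2) F).mulVec (Multiplicative.toAdd (c (P.ψ u)))
    rw [hc, hc, P.act k u hm, Matrix.mulVec_mulVec, Matrix.mulVec_mulVec, ← Matrix.SpecialLinearGroup.coe_mul,
      ← Matrix.SpecialLinearGroup.coe_mul, inv_inv, mul_inv_cancel_right]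
  · intro k
    have hkS : (k : G) ∈ T ↔ k ∈ (S : Subgroup ↥K) := by rw [hS, mem_subgroupOf]
    rw [hkS]
    constructor
    · intro hk
      obtain ⟨u, hu, e⟩ : P.ρ k ∈ Nat2.upG.map (MulAut.conj x).toMonoidHom := hx' ▸ ⟨k, hk, rfl⟩
      obtain ⟨t, ht⟩ := Nat2.mem_upG.mp hu
      refine ⟨t, ?_⟩
      show x⁻¹ * P.ρ k * x⁻¹⁻¹ = up t
      rw [← e, show (MulAut.conj x).toMonoidHom u = x * u * x⁻¹ from rfl, ← ht]
      group
    · rintro ⟨t, ht⟩
      have ht' : x⁻¹ * P.ρ k * x⁻¹⁻¹ = up t := ht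
      have hm' : P.ρ k ∈ (S : Subgroup ↥K).map P.ρ := hx' ▸
        ⟨up t, Nat2.mem_upG.mpr ⟨t, rfl⟩, by show x * up t * x⁻¹ = _; rw [← ht']; group⟩
      obtain ⟨y, hy, ey⟩ := hm'
      have := hWT (y⁻¹ * k) ((P.kerρ _).mp (by rw [map_mul, map_inv, ey, inv_mul_cancel]))
      simpa using (S : Subgroup ↥K).mul_mem hy this

namespace Fr

variable {H K M Q T W : Subgroup G} (R : Fr H K M Q T W F)
include R

/-- The fixed points of `K` in `W`. -/
def Z (_ : Fr H K M Q T W F) : Subgroup G := W ⊓ centralizer (K : Set G)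

theorem W_le_K : W ≤ K := R.mdl.toCore.le_K

theorem K_le_M : K ≤ M := R.hyp.K_le.trans R.hyp.H_le_M

theorem T_le_M : T ≤ M := R.hyp.T_le.trans R.hyp.H_le_M

theorem M_W : M ≤ normalizer (W : Set G) := R.hyp.M_norm_W R.mdl

theorem M_Z : M ≤ normalizer (R.Z : Set G) := norm_inf R.M_W (norm_cent R.hyp.M_norm)

/-- Coordinates of an element of `W`. -/
noncomputable def co (v : G) : Fin 2 → F := by
  classical exact if h : v ∈ W then Multiplicative.toAdd (R.P.ψ ⟨v, h⟩) else 0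

/-- An element with given coordinates. -/
noncomputable def lift (x : Fin 2 → F) : G := (Classical.choose (R.P.surjψ (Multiplicative.ofAdd x)) : W)

theorem co_eq {v : G} (h : v ∈ W) : R.co v = Multiplicative.toAdd (R.P.ψ ⟨v, h⟩) := dif_pos h

theorem lift_mem (x : Fin 2 → F) : R.lift x ∈ W := SetLike.coe_mem _

theorem co_lift (x : Fin 2 → F) : R.co (R.lift x) = x := by
  rw [R.co_eq (R.lift_mem x)]
  exact congrArg Multiplicative.toAdd (Classical.choose_spec (R.P.surjψ (Multiplicative.ofAdd x)))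

theorem co_mul {a b : G} (ha : a ∈ W) (hb : b ∈ W) : R.co (a * b) = R.co a + R.co b := by
  rw [R.co_eq ha, R.co_eq hb, R.co_eq (W.mul_mem ha hb), ← toAdd_mul, ← map_mul]
  rfl

theorem co_eq_zero {v : G} (h : v ∈ W) : R.co v = 0 ↔ v ∈ R.Z := by
  rw [R.co_eq h]
  exact (toAdd_eq_zero).trans ((R.P.kerψ ⟨v, h⟩).trans ⟨fun e => ⟨h, e⟩, fun e => e.2⟩)

theorem co_one : R.co 1 = 0 := (R.co_eq_zero W.one_mem).mpr (R.Z).one_mem

theorem co_inv {a : G} (ha : a ∈ W) : R.co a⁻¹ = R.co a := by rw [R.mdl.inv_eq ha]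

theorem co_eq_iff {a b : G} (ha : a ∈ W) (hb : b ∈ W) : R.co a = R.co b ↔ a * b ∈ R.Z := by
  rw [← R.co_eq_zero (W.mul_mem ha hb), R.co_mul ha hb, add_eq_zero_iff_eq_neg, CharTwo.neg_eq]

theorem co_conj (l : ↥K) {v : G} (hv : v ∈ W) :
    R.co ((l : G) * v * (l : G)⁻¹) = (R.P.ρ l : Matrix (Fin 2) (Fin 2) F).mulVec (R.co v) := by
  rw [R.co_eq (conj_mem R.mdl.norm l.2 hv), R.co_eq hv]
  exact R.P.act l ⟨v, hv⟩ _

/-- The action of an element of `M`. -/
noncomputable def mov (n : G) (x : Fin 2 → F) : Fin 2 → F := R.co (n * R.lift x * n⁻¹)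

theorem co_mov {n : G} (hn : n ∈ M) {v : G} (hv : v ∈ W) : R.co (n * v * n⁻¹) = R.mov n (R.co v) := by
  rw [mov, R.co_eq_iff (conj_mem R.M_W hn hv) (conj_mem R.M_W hn (R.lift_mem _)),
    show n * v * n⁻¹ * (n * R.lift (R.co v) * n⁻¹) = n * (v * R.lift (R.co v)) * n⁻¹ by group]
  exact conj_mem R.M_Z hn ((R.co_eq_iff hv (R.lift_mem _)).mp (R.co_lift _).symm)

theorem mov_add {n : G} (hn : n ∈ M) (x y : Fin 2 → F) : R.mov n (x + y) = R.mov n x + R.mov n y := by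
  conv_lhs => rw [← R.co_lift x, ← R.co_lift y, ← R.co_mul (R.lift_mem x) (R.lift_mem y),
    ← R.co_mov hn (W.mul_mem (R.lift_mem x) (R.lift_mem y))]
  rw [mov, mov, ← R.co_mul (conj_mem R.M_W hn (R.lift_mem x)) (conj_mem R.M_W hn (R.lift_mem y))]
  congr 1
  group

theorem mov_zero {n : G} (hn : n ∈ M) : R.mov n 0 = 0 := by
  rw [← R.co_one, ← R.co_mov hn W.one_mem]
  simp

theorem mov_mul {a b : G} (ha : a ∈ M) (hb : b ∈ M) (x : Fin 2 → F) :
    R.mov (a * b) x = R.mov a (R.mov b x) := by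
  rw [mov, show a * b * R.lift x * (a * b)⁻¹ = a * (b * R.lift x * b⁻¹) * a⁻¹ by group,
    R.co_mov ha (conj_mem R.M_W hb (R.lift_mem x))]
  rfl

theorem mov_one (x : Fin 2 → F) : R.mov 1 x = x := by
  rw [mov, one_mul, inv_one, mul_one, R.co_lift]

theorem mov_inv {n : G} (hn : n ∈ M) (x : Fin 2 → F) : R.mov n (R.mov n⁻¹ x) = x := by
  rw [← R.mov_mul hn (inv_mem hn), mul_inv_cancel, R.mov_one]

theorem mov_inv' {n : G} (hn : n ∈ M) (x : Fin 2 → F) : R.mov n⁻¹ (R.mov n x) = x := by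
  rw [← R.mov_mul (inv_mem hn) hn, inv_mul_cancel, R.mov_one]

theorem mov_inj {n : G} (hn : n ∈ M) {x y : Fin 2 → F} (h : R.mov n x = R.mov n y) : x = y := by
  rw [← R.mov_inv' hn x, h, R.mov_inv' hn]

theorem mov_K (l : ↥K) (x : Fin 2 → F) : R.mov l x = (R.P.ρ l : Matrix (Fin 2) (Fin 2) F).mulVec x := by
  rw [mov, R.co_conj l (R.lift_mem x), R.co_lift]

theorem mov_mulVec {n : G} (hn : n ∈ M) (l : ↥K) (hl : n * (l : G) * n⁻¹ ∈ K) (x : Fin 2 → F) :
    R.mov n ((R.P.ρ l : Matrix (Fin 2) (Fin 2) F).mulVec x) =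
      (R.P.ρ ⟨n * (l : G) * n⁻¹, hl⟩ : Matrix (Fin 2) (Fin 2) F).mulVec (R.mov n x) := by
  rw [← R.mov_K l, ← R.mov_K ⟨n * (l : G) * n⁻¹, hl⟩, ← R.mov_mul hn (R.K_le_M l.2),
    ← R.mov_mul (R.K_le_M hl) hn]
  congr 1
  show n * (l : G) = n * (l : G) * n⁻¹ * n
  group

/-- The field automorphism of an element of `M`. -/
noncomputable def sig (n : G) (c : F) : F := R.mov n (c • R.mov n⁻¹ ![1, 0]) 0

theorem semilinear {n : G} (hn : n ∈ M) (c : F) (x : Fin 2 → F) :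
    R.mov n (c • x) = R.sig n c • R.mov n x := by
  have hn' := inv_mem hn
  let f : (Fin 2 → F) →+ (Fin 2 → F) :=
    { toFun := fun y => R.mov n (c • R.mov n⁻¹ y)
      map_zero' := by rw [R.mov_zero hn', smul_zero, R.mov_zero hn]
      map_add' := fun y y' => by rw [R.mov_add hn', smul_add, R.mov_add hn] }
  have hf : ∀ (A : Matrix.SpecialLinearGroup (Fin 2) F) y, f ((A : Matrix (Fin 2) (Fin 2) F).mulVec y)
      = (A : Matrix (Fin 2) (Fin 2) F).mulVec (f y) := by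
    intro A y
    obtain ⟨l, rfl⟩ := R.P.surjρ A
    have hl : n⁻¹ * (l : G) * n⁻¹⁻¹ ∈ K := conj_mem R.hyp.M_norm hn' l.2
    show R.mov n (c • R.mov n⁻¹ _) = Matrix.mulVec _ (R.mov n (c • R.mov n⁻¹ y))
    rw [R.mov_mulVec hn' l hl, ← Matrix.mulVec_smul,
      R.mov_mulVec hn ⟨_, hl⟩ (by convert l.2 using 1; group)]
    congr 3
    apply Subtype.ext; show n * (n⁻¹ * (l : G) * n⁻¹⁻¹) * n⁻¹ = _; group
  have := NatPair.scalar_of_commute f hf (R.mov n x)
  show _ = f ![1, 0] 0 • _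
  rw [← this]
  show _ = R.mov n (c • R.mov n⁻¹ (R.mov n x))
  rw [R.mov_inv' hn]

theorem sig_eq_of {n : G} (hn : n ∈ M) (c d : F) {x : Fin 2 → F} (hx : x ≠ 0)
    (h : R.mov n (c • x) = d • R.mov n x) : R.sig n c = d := by
  rw [R.semilinear hn] at h
  exact smul_left_injective F (fun e => hx (R.mov_inj hn (e.trans (R.mov_zero hn).symm))) h

theorem e1_ne : (![1, 0] : Fin 2 → F) ≠ 0 := fun e => one_ne_zero (α := F) (by simpa using congrFun e 0)

theorem sig_one {n : G} (hn : n ∈ M) : R.sig n 1 = 1 :=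
  R.sig_eq_of hn 1 1 R.e1_ne (by rw [one_smul, one_smul])

theorem sig_mul {n : G} (hn : n ∈ M) (c d : F) : R.sig n (c * d) = R.sig n c * R.sig n d :=
  R.sig_eq_of hn (c * d) _ R.e1_ne (by rw [mul_smul, R.semilinear hn, R.semilinear hn, smul_smul])

theorem sig_add {n : G} (hn : n ∈ M) (c d : F) : R.sig n (c + d) = R.sig n c + R.sig n d :=
  R.sig_eq_of hn (c + d) _ R.e1_ne
    (by rw [add_smul, R.mov_add hn, R.semilinear hn, R.semilinear hn, ← add_smul])

theorem sig_zero {n : G} (hn : n ∈ M) : R.sig n 0 = 0 :=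
  R.sig_eq_of hn 0 0 R.e1_ne (by rw [zero_smul, zero_smul, R.mov_zero hn])

theorem sig_comp {a b : G} (ha : a ∈ M) (hb : b ∈ M) (c : F) : R.sig (a * b) c = R.sig a (R.sig b c) :=
  R.sig_eq_of (mul_mem ha hb) c _ R.e1_ne
    (by rw [R.mov_mul ha hb, R.semilinear hb, R.semilinear ha, R.mov_mul ha hb])

theorem sig_unit (c : F) : R.sig 1 c = c :=
  R.sig_eq_of (one_mem _) c c R.e1_ne (by rw [R.mov_one, R.mov_one])

theorem sig_K (l : ↥K) (c : F) : R.sig (l : G) c = c :=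
  R.sig_eq_of (R.K_le_M l.2) c c R.e1_ne (by rw [R.mov_K, R.mov_K, Matrix.mulVec_smul])

/-- The field automorphism as a ring homomorphism. -/
noncomputable def sigHom {n : G} (hn : n ∈ M) : F →+* F where
  toFun := R.sig n
  map_one' := R.sig_one hn
  map_mul' := R.sig_mul hn
  map_zero' := R.sig_zero hn
  map_add' := R.sig_add hn

/-- `n` is linear on `W`. -/
def Lin (n : G) : Prop := ∀ c, R.sig n c = c

theorem lin_pow {n : G} (hn : n ∈ M) (h : R.Lin n) (k : ℕ) : R.Lin (n ^ k) := by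
  induction k with
  | zero => rw [pow_zero]; exact R.sig_unit
  | succ k ih => intro c; rw [pow_succ, R.sig_comp (pow_mem hn k) hn, h, ih]

/-- The preimage of a Borel subgroup. -/
def Bor (_ : Fr H K M Q T W F) : Subgroup G := M ⊓ normalizer ((T ⊓ K : Subgroup G) : Set G)

theorem T_le_Bor : T ≤ R.Bor :=
  le_inf R.T_le_M (norm_inf le_normalizer (R.hyp.T_le.trans R.hyp.norm_K))

/-- The diagonal entries and the entry above. -/
noncomputable def al (n : G) : F := R.mov n ![1, 0] 0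

noncomputable def de (n : G) : F := R.mov n ![0, 1] 1

noncomputable def be (n : G) : F := R.mov n ![0, 1] 0

variable {n : G} (hn : n ∈ R.Bor)
include hn

theorem mov_line (a : F) : R.mov n ![a, 0] 1 = 0 := by
  obtain ⟨k, hk⟩ := R.P.surjρ (up 1)
  have hkT : (k : G) ∈ T := (R.hT k).mpr ⟨1, hk⟩
  obtain ⟨hm', hmK⟩ := conj_mem (Y := R.Bor) inf_le_right hn (show (k : G) ∈ T ⊓ K from ⟨hkT, k.2⟩)
  obtain ⟨s, hs⟩ := (R.hT ⟨_, hmK⟩).mp hm'
  have h1 := R.mov_mulVec hn.1 k hmK ![0, a]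
  rw [hk, hs, mulVec_up, mulVec_up,
    show (![(![0, a] : Fin 2 → F) 0 + 1 * (![0, a] : Fin 2 → F) 1, (![0, a] : Fin 2 → F) 1]) =
      (![a, 0] : Fin 2 → F) + ![0, a] by ext i; fin_cases i <;> simp,
    R.mov_add hn.1] at h1
  have := congrFun h1 1
  simpa using this

theorem mov_eq (x : Fin 2 → F) :
    R.mov n x = ![R.sig n (x 0) * R.al n + R.sig n (x 1) * R.be n, R.sig n (x 1) * R.de n] := by
  conv_lhs => rw [show x = x 0 • ![1, 0] + x 1 • ![0, 1] by ext i; fin_cases i <;> simp]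
  rw [R.mov_add hn.1, R.semilinear hn.1, R.semilinear hn.1]
  ext i; fin_cases i <;> simp [al, be, de, R.mov_line hn 1]

theorem al_ne : R.al n ≠ 0 := fun h => R.e1_ne (R.mov_inj hn.1 (by
  rw [R.mov_zero hn.1, R.mov_eq hn, h]; ext i; fin_cases i <;> simp [R.sig_zero hn.1]))

theorem de_ne : R.de n ≠ 0 := fun h => by
  have h1 := congrFun (R.mov_inv hn.1 ![0, 1]) 1
  rw [R.mov_eq hn, h] at h1
  simp at h1

theorem al_mul {n' : G} (hn' : n' ∈ R.Bor) :
    R.al (n * n') = R.al n * R.sig n (R.al n') ∧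
      R.de (n * n') = R.de n * R.sig n (R.de n') := by
  constructor
  · show R.mov (n * n') ![1, 0] 0 = _
    rw [R.mov_mul hn.1 hn'.1, R.mov_eq hn', R.mov_eq hn]
    simp [R.sig_zero hn'.1, R.sig_one hn'.1, R.sig_zero hn.1, mul_comm]
  · show R.mov (n * n') ![0, 1] 1 = _
    rw [R.mov_mul hn.1 hn'.1, R.mov_eq hn', R.mov_eq hn]
    simp [R.sig_one hn'.1, mul_comm]

theorem lin_coords_pow (h : R.Lin n) (k : ℕ) :
    R.al (n ^ k) = R.al n ^ k ∧ R.de (n ^ k) = R.de n ^ k := by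
  induction k with
  | zero => exact ⟨by simp [al, R.mov_one], by simp [de, R.mov_one]⟩
  | succ k ih =>
    obtain ⟨h1, h2⟩ := R.al_mul (R.Bor.pow_mem hn k) hn
    rw [R.lin_pow hn.1 h k] at h1 h2
    exact ⟨by rw [pow_succ, h1, ih.1, pow_succ], by rw [pow_succ, h2, ih.2, pow_succ]⟩

/-- A linear 2-element is unipotent. -/
theorem mov_unip (h : R.Lin n) (h2 : IsPGroup 2 (zpowers n)) (x : Fin 2 → F) :
    R.mov n x = ![x 0 + R.be n * x 1, x 1] := by
  obtain ⟨k, hk⟩ := h2 ⟨n, mem_zpowers n⟩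
  have hk' : n ^ 2 ^ k = 1 := congrArg Subtype.val hk
  obtain ⟨ha, hd⟩ := R.lin_coords_pow hn h (2 ^ k)
  have e1 : R.al (n ^ 2 ^ k) = 1 := by
    show R.mov (n ^ 2 ^ k) ![1, 0] 0 = 1
    rw [hk', R.mov_one]; rfl
  have e2 : R.de (n ^ 2 ^ k) = 1 := by
    show R.mov (n ^ 2 ^ k) ![0, 1] 1 = 1
    rw [hk', R.mov_one]; rfl
  have ha1 : R.al n = 1 := sub_eq_zero.mp (eq_zero_of_pow_eq_zero
    (show (R.al n - 1) ^ 2 ^ k = 0 by rw [sub_pow_char_pow, ← ha, e1, one_pow, sub_self]))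
  have hd1 : R.de n = 1 := sub_eq_zero.mp (eq_zero_of_pow_eq_zero
    (show (R.de n - 1) ^ 2 ^ k = 0 by rw [sub_pow_char_pow, ← hd, e2, one_pow, sub_self]))
  rw [R.mov_eq hn, h, h, ha1, hd1, mul_one, mul_one, mul_comm (x 1)]

omit hn

/-- A 2-element acting trivially lies in `Q`. -/
theorem mem_Q_of_triv {n : G} (hn : n ∈ M) (h2 : IsPGroup 2 (zpowers n)) (hnQ : n ∈ normalizer (Q : Set G))
    (ht : ∀ x, R.mov n x = x) : n ∈ Q := by
  refine R.hyp.mem_Q h2 (zpowers_le.mpr hn) (zpowers_le.mpr hnQ) (fun s hs k hk => ?_) (mem_zpowers n)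
  have hsM : s ∈ M := zpowers_le.mpr hn hs
  have hst : ∀ x, R.mov s x = x := by
    obtain ⟨i, rfl⟩ := mem_powers_iff_mem_zpowers.mpr hs
    show ∀ x, R.mov (n ^ i) x = x
    intro x
    clear hs hsM
    induction i with
    | zero => rw [pow_zero, R.mov_one]
    | succ i ih => rw [pow_succ, R.mov_mul (pow_mem hn i) hn, ht, ih]
  rw [← R.mdl.eq]
  have hsk : s * k * s⁻¹ ∈ K := conj_mem R.hyp.M_norm hsM hk
  have e : R.P.ρ ⟨_, hsk⟩ = R.P.ρ ⟨k, hk⟩ := Subtype.ext (Matrix.ext_of_mulVec_single fun i => by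
    have := R.mov_mulVec hsM ⟨k, hk⟩ hsk (Pi.single i 1)
    rw [hst, hst] at this
    exact this.symm)
  exact (R.P.kerρ (⟨_, hsk⟩ * ⟨k, hk⟩⁻¹)).mp (by rw [map_mul, map_inv, e, mul_inv_cancel])

theorem zpowers_p {n : G} {X : Subgroup G} (hX : IsPGroup 2 X) (hn : n ∈ X) : IsPGroup 2 (zpowers n) :=
  hX.to_le (zpowers_le.mpr hn)

/-- A linear element of `T` differs from one of `T ∩ K` by an element of `Q`. -/
theorem lin_mem {n : G} (hn : n ∈ T) (h : R.Lin n) : ∃ k ∈ T ⊓ K, k⁻¹ * n ∈ Q := by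
  obtain ⟨k, hk⟩ := R.P.surjρ (up (R.be n))
  have hkT : (k : G) ∈ T := (R.hT k).mpr ⟨_, hk⟩
  refine ⟨k, ⟨hkT, k.2⟩, R.mem_Q_of_triv (R.T_le_M (T.mul_mem (T.inv_mem hkT) hn))
    (R.zpowers_p R.hyp.T_p (T.mul_mem (T.inv_mem hkT) hn))
    (R.hyp.T_le.trans R.hyp.Q_norm (T.mul_mem (T.inv_mem hkT) hn)) fun x => ?_⟩
  refine R.mov_inj (R.K_le_M k.2) ?_
  rw [← R.mov_mul (R.K_le_M k.2) (R.T_le_M (T.mul_mem (T.inv_mem hkT) hn)), mul_inv_cancel_left,
    R.mov_unip (R.T_le_Bor hn) h (R.zpowers_p R.hyp.T_p hn), R.mov_K, hk, mulVec_up]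

/-- An element of `Q` acts trivially. -/
theorem mov_Q {n : G} (hn : n ∈ Q) (x : Fin 2 → F) : R.mov n x = x := by
  rw [mov, ← mem_centralizer_iff.mp (R.hyp.Q_cent R.mdl hn) _ (R.lift_mem x), mul_inv_cancel_right, R.co_lift]

theorem lin_Q {n : G} (hn : n ∈ Q) : R.Lin n := fun c =>
  R.sig_eq_of (R.hyp.H_le_M (R.hyp.Q_le_H hn)) c c R.e1_ne (by rw [R.mov_Q hn, R.mov_Q hn])

end Fr

end Cfsg.Agent.Invol.PushNorm
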