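import Cfsg.Agent.Lib.Invol.PushNorm.Coord

/-!
# Elementary subgroups of `T` acting on a natural module
-/

set_option autoImplicit false
set_option linter.style.haveILetI false
set_option linter.unusedSectionVars false

namespace Cfsg.Agent.Invol.PushNorm

open Subgroup Matrix
open Cfsg.Agent.Grp.SL2 (up)
open Cfsg.Agent.Invol.Nat2 (mulVec_up)
open Cfsg.Agent.Invol.NatPair (fixed_sq_le_card eq_of_involutive)

universe u

variable {G : Type u} [Group G] [Finite G] {F : Type} [Field F] [Finite F] [CharP F 2]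

theorem relIndex_le_of_map {Q A : Subgroup G} {α : Type*} [Finite α] (f : ↥A → α)
    (hf : ∀ a b : ↥A, f a = f b → (a : G)⁻¹ * b ∈ Q) : Q.relIndex A ≤ Nat.card α := by
  rw [Subgroup.relIndex, index_eq_card]
  refine Nat.card_le_card_of_injective (fun c => f c.out) fun c d h => ?_
  rw [← c.out_eq', ← d.out_eq']
  exact QuotientGroup.eq.mpr (hf _ _ h)

theorem card_eq_relIndex_mul (Q A : Subgroup G) : Nat.card A = Q.relIndex A * Nat.card ↥(A ⊓ Q) := by
  have h := (Q.subgroupOf A).card_mul_index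
  rw [← card_map_of_injective A.subtype_injective (K := Q.subgroupOf A), subgroupOf_map_subtype, inf_comm,
    mul_comm] at h
  exact h.symm

theorem mul_self_le_lt {r q : ℕ} (h : r * r ≤ q) (hq : 4 ≤ q) : r < q ∧ 2 * r ≤ q := by
  rcases Nat.lt_or_ge r 2 with h1 | h1
  · constructor <;> omega
  · constructor <;> nlinarith

namespace Fr

variable {H K M Q T W : Subgroup G} (R : Fr H K M Q T W F)
include R

/-- Coordinates on `W` modulo fixed points. -/
noncomputable def coZ (x : ↥W) : ↥R.Z × (Fin 2 → F) :=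
  (⟨(x : G) * R.lift (R.co x), (R.co_eq_iff x.2 (R.lift_mem _)).mp (R.co_lift _).symm⟩, R.co x)

theorem coZ_bij : Function.Bijective R.coZ := by
  constructor
  · intro a b h
    obtain ⟨h1, h2⟩ := Prod.mk.inj h
    have h1' : (a : G) * R.lift (R.co a) = (b : G) * R.lift (R.co b) := congrArg (fun z : ↥R.Z => (z : G)) h1
    rw [h2] at h1'
    exact Subtype.ext (mul_right_cancel h1')
  · rintro ⟨⟨z, hz⟩, x⟩
    have hzW : z ∈ W := hz.1
    have hco : R.co (z * R.lift x) = x := by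
      rw [R.co_mul hzW (R.lift_mem x), (R.co_eq_zero hzW).mpr hz, zero_add, R.co_lift]
    refine ⟨⟨z * R.lift x, W.mul_mem hzW (R.lift_mem x)⟩, Prod.ext (Subtype.ext ?_) hco⟩
    show z * R.lift x * R.lift (R.co (z * R.lift x)) = z
    rw [hco, mul_assoc, R.mdl.exp _ (R.lift_mem x), mul_one]

theorem card_W : Nat.card W = Nat.card R.Z * (Nat.card F * Nat.card F) := by
  rw [Nat.card_congr (Equiv.ofBijective _ R.coZ_bij), Nat.card_prod, Nat.card_fun, Nat.card_fin, sq]

theorem card_le_co {X : Subgroup G} (hX : X ≤ W) {α : Type*} [Finite α] (i : ∀ x : ↥X, α)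
    (hi : ∀ a b : ↥X, i a = i b → R.co a = R.co b) : Nat.card X ≤ Nat.card R.Z * Nat.card α := by
  rw [← Nat.card_prod]
  refine Nat.card_le_card_of_injective
    (fun x : ↥X => ((R.coZ ⟨x, hX x.2⟩).1, i x)) fun a b h => ?_
  obtain ⟨h1, h2⟩ := Prod.mk.inj h
  exact Subtype.ext (congrArg (fun w : ↥W => (w : G)) (R.coZ_bij.1 (Prod.ext h1 (hi a b h2))))

/-- The additive map given by an element of `M`. -/
noncomputable def movHom {n : G} (hn : n ∈ M) : (Fin 2 → F) →+ (Fin 2 → F) where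
  toFun := R.mov n
  map_zero' := R.mov_zero hn
  map_add' := R.mov_add hn

theorem fixed_W {A X : Subgroup G} (hX : X ≤ W) (hXA : X ≤ centralizer (A : Set G)) {n : G} (hn : n ∈ A)
    (hnM : n ∈ M) {x : G} (hx : x ∈ X) : R.mov n (R.co x) = R.co x := by
  rw [← R.co_mov hnM (hX hx), mem_centralizer_iff.mp (hXA hx) n hn, mul_inv_cancel_right]

theorem exists_sig_ne {n : G} (h : ¬ R.Lin n) : ∃ c, R.sig n c ≠ c := by
  by_contra hc
  push Not at hc
  exact h hc

theorem be_ne {n : G} (hn : n ∈ T) (hl : R.Lin n) (hQ : n ∉ Q) : R.be n ≠ 0 := fun h => by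
  refine hQ (R.mem_Q_of_triv (R.T_le_M hn) (R.zpowers_p R.hyp.T_p hn)
    (R.hyp.T_le.trans R.hyp.Q_norm hn) fun x => ?_)
  rw [R.mov_unip (R.T_le_Bor hn) hl (R.zpowers_p R.hyp.T_p hn), h]
  ext i; fin_cases i <;> simp

/-- A nonzero transvection fixes only its axis. -/
theorem fix_lin {n : G} (hn : n ∈ T) (hl : R.Lin n) (hQ : n ∉ Q) {x : Fin 2 → F} (hx : R.mov n x = x) :
    x 1 = 0 := by
  rw [R.mov_unip (R.T_le_Bor hn) hl (R.zpowers_p R.hyp.T_p hn)] at hx
  have h := congrFun hx 0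
  have h' : R.be n * x 1 = 0 := by simpa using h
  exact (mul_eq_zero.mp h').resolve_left (R.be_ne hn hl hQ)

/-- An element of `T` outside `Q` fixes at most `q` vectors. -/
theorem fix_le {n : G} (hn : n ∈ T) (hQ : n ∉ Q) : Nat.card {x // R.mov n x = x} ≤ Nat.card F := by
  by_cases hl : R.Lin n
  · refine Nat.card_le_card_of_injective (fun x : {x // R.mov n x = x} => (x : Fin 2 → F) 0) fun a b h => ?_
    refine Subtype.ext (funext fun i => ?_)
    fin_cases i
    · exact h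
    · exact (R.fix_lin hn hl hQ a.2).trans (R.fix_lin hn hl hQ b.2).symm
  · obtain ⟨c, hc⟩ := R.exists_sig_ne hl
    have h := fixed_sq_le_card (R.movHom (R.T_le_M hn)) (R.sig n) (R.semilinear (R.T_le_M hn)) hc
    rw [Nat.card_fun, Nat.card_fin, sq] at h
    exact Nat.mul_self_le_mul_self_iff.mp h

/-- A field automorphism fixes few multiples. -/
theorem fix_axis {n : G} (hn : n ∈ M) (hl : ¬ R.Lin n) (a : F) :
    Nat.card {x : F // a * R.sig n x = x} * Nat.card {x : F // a * R.sig n x = x} ≤ Nat.card F := by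
  obtain ⟨c, hc⟩ := R.exists_sig_ne hl
  let f : F →+ F :=
    { toFun := fun x => a * R.sig n x
      map_zero' := by rw [R.sig_zero hn, mul_zero]
      map_add' := fun x y => by rw [R.sig_add hn, mul_add] }
  exact fixed_sq_le_card f (R.sig n) (fun b x => by
    show a * R.sig n (b * x) = R.sig n b * (a * R.sig n x)
    rw [R.sig_mul hn]; ring) hc

variable {A : Subgroup G} (hA : A ≤ T) (hA2 : ∀ a ∈ A, a * a = 1)
include hA hA2

theorem A_comm {a b : G} (ha : a ∈ A) (hb : b ∈ A) : a * b = b * a := by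
  rw [← inv_eq_of_mul_eq_one_left (hA2 _ (A.mul_mem ha hb)), _root_.mul_inv_rev,
    inv_eq_of_mul_eq_one_left (hA2 a ha), inv_eq_of_mul_eq_one_left (hA2 b hb)]

/-- An element of `A` outside `Q` moves a lot of `W`. -/
theorem card_cent_le (hAQ : ¬ A ≤ Q) :
    Nat.card F * Nat.card ↥(W ⊓ centralizer (A : Set G)) ≤ Nat.card W := by
  obtain ⟨a, ha, haQ⟩ := SetLike.not_le_iff_exists.mp hAQ
  have h := R.card_le_co (X := W ⊓ centralizer (A : Set G)) inf_le_left
    (fun x => (⟨R.co x, R.fixed_W inf_le_left inf_le_right ha (R.T_le_M (hA ha)) x.2⟩ : {y // R.mov a y = y}))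
    (fun _ _ e => congrArg Subtype.val e)
  rw [R.card_W]
  refine (Nat.mul_le_mul_left _ (h.trans (Nat.mul_le_mul_left _ (R.fix_le (hA ha) haQ)))).trans (le_of_eq ?_)
  ring

theorem lin_prod {a b : G} (ha : a ∈ A) (hb : b ∈ A) (hla : ¬ R.Lin a) (hlb : ¬ R.Lin b) : R.Lin (a * b) := by
  obtain ⟨c, hc⟩ := R.exists_sig_ne hla
  obtain ⟨c', hc'⟩ := R.exists_sig_ne hlb
  have hinv : ∀ {n : G} (hn : n ∈ A) (x : F), R.sig n (R.sig n x) = x := fun {n} hn x => by
    rw [← R.sig_comp (R.T_le_M (hA hn)) (R.T_le_M (hA hn)), hA2 n hn, R.sig_unit]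
  have e := eq_of_involutive (R.sigHom (R.T_le_M (hA ha))) (R.sigHom (R.T_le_M (hA hb))) (hinv ha) (hinv hb) hc hc'
  intro x
  rw [R.sig_comp (R.T_le_M (hA ha)) (R.T_le_M (hA hb))]
  have e' : R.sig a x = R.sig b x := e x
  rw [← e', hinv ha]

/-- The transvections in `A` commute with a field element of `A`. -/
theorem be_fix {a b : G} (ha : a ∈ A) (hb : b ∈ A) (hlb : R.Lin b) :
    R.al a * (R.de a)⁻¹ * R.sig a (R.be b) = R.be b := by
  have ha' := R.T_le_Bor (hA ha)
  have hb' := R.T_le_Bor (hA hb)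
  have hu := R.mov_unip hb' hlb (R.zpowers_p R.hyp.T_p (hA hb))
  have h : R.mov a (R.mov b ![0, 1]) = R.mov b (R.mov a ![0, 1]) := by
    rw [← R.mov_mul ha'.1 hb'.1, ← R.mov_mul hb'.1 ha'.1, R.A_comm hA hA2 ha hb]
  rw [hu, hu, R.mov_eq ha', R.mov_eq ha'] at h
  have h0 := congrFun h 0
  simp [R.sig_one ha'.1, R.sig_zero ha'.1] at h0
  have hde := R.de_ne ha'
  field_simp
  linear_combination h0

/-- The image of `A` is small. -/
theorem relIndex_le : Q.relIndex A ≤ Nat.card F := by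
  classical
  by_cases hall : ∀ a ∈ A, R.Lin a
  · refine relIndex_le_of_map (fun a : ↥A => R.be a) fun a b h => ?_
    have hmem : (a : G)⁻¹ * b ∈ T := hA (A.mul_mem (A.inv_mem a.2) b.2)
    refine R.mem_Q_of_triv (R.T_le_M hmem) (R.zpowers_p R.hyp.T_p hmem)
      (R.hyp.T_le.trans R.hyp.Q_norm hmem) fun x => R.mov_inj (R.T_le_M (hA a.2)) ?_
    rw [← R.mov_mul (R.T_le_M (hA a.2)) (R.T_le_M hmem), mul_inv_cancel_left,
      R.mov_unip (R.T_le_Bor (hA a.2)) (hall _ a.2) (R.zpowers_p R.hyp.T_p (hA a.2)),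
      R.mov_unip (R.T_le_Bor (hA b.2)) (hall _ b.2) (R.zpowers_p R.hyp.T_p (hA b.2))]
    have h' : R.be a = R.be b := h
    rw [h']
  push Not at hall
  obtain ⟨a0, ha0, hla0⟩ := hall
  -- each element is a transvection times a power of `a0`
  have hnorm : ∀ a : ↥A, R.Lin (if R.Lin a then (a : G) else a0 * a) := fun a => by
    split
    · assumption
    · next h => exact R.lin_prod hA hA2 ha0 a.2 hla0 h
  have hmemA : ∀ a : ↥A, (if R.Lin a then (a : G) else a0 * a) ∈ A := fun a => by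
    split
    · exact a.2
    · exact A.mul_mem ha0 a.2
  obtain ⟨m, hm⟩ : ∃ m : ℕ, m = Nat.card {x : F // R.al a0 * (R.de a0)⁻¹ * R.sig a0 x = x} := ⟨_, rfl⟩
  have hb : Q.relIndex A ≤ Nat.card (Bool × {x : F // R.al a0 * (R.de a0)⁻¹ * R.sig a0 x = x}) := by
    refine relIndex_le_of_map (fun a : ↥A => (decide (R.Lin a),
      (⟨_, R.be_fix hA hA2 ha0 (hmemA a) (hnorm a)⟩ : {x : F // R.al a0 * (R.de a0)⁻¹ * R.sig a0 x = x})))
      fun a b h => ?_
    obtain ⟨h1, h2⟩ := Prod.mk.inj h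
    have h2' := congrArg Subtype.val h2
    have hiff : R.Lin a ↔ R.Lin b := by simpa using h1
    obtain ⟨c, hc⟩ : ∃ c, c = (if R.Lin a then (a : G) else a0 * a) := ⟨_, rfl⟩
    obtain ⟨d, hd⟩ : ∃ d, d = (if R.Lin b then (b : G) else a0 * b) := ⟨_, rfl⟩
    have hcd : c⁻¹ * d = (a : G)⁻¹ * b := by
      rw [hc, hd]
      by_cases hl : R.Lin a
      · rw [if_pos hl, if_pos (hiff.mp hl)]
      · rw [if_neg hl, if_neg (fun e => hl (hiff.mpr e))]; group
    rw [← hcd]
    have hcA : c ∈ A := hc ▸ hmemA a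
    have hdA : d ∈ A := hd ▸ hmemA b
    have hmem : c⁻¹ * d ∈ T := hA (A.mul_mem (A.inv_mem hcA) hdA)
    refine R.mem_Q_of_triv (R.T_le_M hmem) (R.zpowers_p R.hyp.T_p hmem)
      (R.hyp.T_le.trans R.hyp.Q_norm hmem) fun x => R.mov_inj (R.T_le_M (hA hcA)) ?_
    rw [← R.mov_mul (R.T_le_M (hA hcA)) (R.T_le_M hmem), mul_inv_cancel_left,
      R.mov_unip (R.T_le_Bor (hA hcA)) (hc ▸ hnorm a) (R.zpowers_p R.hyp.T_p (hA hcA)),
      R.mov_unip (R.T_le_Bor (hA hdA)) (hd ▸ hnorm b) (R.zpowers_p R.hyp.T_p (hA hdA))]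
    subst hc hd
    simp only at h2'
    rw [h2']
  rw [Nat.card_prod, Nat.card_eq_two_iff.mpr ⟨false, true, by decide, by ext b; cases b <;> simp⟩, ← hm] at hb
  exact hb.trans (mul_self_le_lt (hm ▸ R.fix_axis (R.T_le_M (hA ha0)) hla0 _) R.q4).2

/-- If `A` has a large image and moves exactly `q`, it consists of transvections. -/
theorem lin_of_card (h2 : 2 < Q.relIndex A)
    (heq : Nat.card W ≤ Nat.card F * Nat.card ↥(W ⊓ centralizer (A : Set G))) : ∀ a ∈ A, R.Lin a := by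
  by_contra hall
  push Not at hall
  obtain ⟨a0, ha0, hla0⟩ := hall
  obtain ⟨b, hb, hlb, hbQ⟩ : ∃ b ∈ A, R.Lin b ∧ b ∉ Q := by
    by_contra hc
    push Not at hc
    have : Q.relIndex A ≤ Nat.card Bool := by
      classical
      refine relIndex_le_of_map (fun a : ↥A => decide (R.Lin a)) fun a b h => ?_
      have hiff : R.Lin a ↔ R.Lin b := by simpa using h
      refine hc _ (A.mul_mem (A.inv_mem a.2) b.2) ?_
      rw [inv_eq_of_mul_eq_one_left (hA2 _ a.2)]
      by_cases hl : R.Lin a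
      · intro x
        rw [R.sig_comp (R.T_le_M (hA a.2)) (R.T_le_M (hA b.2)), hiff.mp hl x, hl x]
      · exact R.lin_prod hA hA2 a.2 b.2 hl fun e => hl (hiff.mpr e)
    rw [Nat.card_eq_two_iff.mpr ⟨false, true, by decide, by ext b; cases b <;> simp⟩] at this
    omega
  obtain ⟨m, hm⟩ : ∃ m : ℕ, m = Nat.card {x : F // R.al a0 * R.sig a0 x = x} := ⟨_, rfl⟩
  have haM := R.T_le_M (hA ha0)
  have hsub : ∀ x ∈ W ⊓ centralizer (A : Set G), R.co x 1 = 0 ∧ R.al a0 * R.sig a0 (R.co x 0) = R.co x 0 := by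
    intro x hx
    have h1 := R.fix_lin (hA hb) hlb hbQ (R.fixed_W inf_le_left inf_le_right hb (R.T_le_M (hA hb)) hx)
    have h2 := congrFun (R.fixed_W inf_le_left inf_le_right ha0 haM hx) 0
    rw [R.mov_eq (R.T_le_Bor (hA ha0))] at h2
    simp only [h1, R.sig_zero haM, zero_mul, add_zero, Matrix.cons_val_zero] at h2
    exact ⟨h1, by rw [mul_comm]; exact h2⟩
  have h := R.card_le_co (X := W ⊓ centralizer (A : Set G)) inf_le_left
    (fun x => (⟨R.co x 0, (hsub x x.2).2⟩ : {y : F // R.al a0 * R.sig a0 y = y})) (fun a c e => by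
      have e0 : R.co a 0 = R.co c 0 := congrArg Subtype.val e
      funext i
      fin_cases i
      · exact e0
      · exact (hsub a a.2).1.trans (hsub c c.2).1.symm)
  have hlt : m < Nat.card F := (mul_self_le_lt (hm ▸ R.fix_axis haM hla0 _) R.q4).1
  have hZ : 0 < Nat.card R.Z := Nat.card_pos
  have hF : 0 < Nat.card F := Nat.card_pos
  rw [← hm] at h
  rw [R.card_W] at heq
  have : Nat.card F * (Nat.card R.Z * m) < Nat.card R.Z * (Nat.card F * Nat.card F) := by
    rw [mul_left_comm]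
    exact Nat.mul_lt_mul_of_pos_left (Nat.mul_lt_mul_of_pos_left hlt hF) hZ
  have := Nat.mul_le_mul_left (Nat.card F) h
  omega

end Fr

end Cfsg.Agent.Invol.PushNorm
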