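import Cfsg.Agent.Lib.Invol.PushNorm.Basic

/-!
# Large elementary subgroups normalizing `J` lie in `J`
-/

set_option autoImplicit false
set_option linter.style.haveILetI false
set_option linter.unusedSectionVars false

namespace Cfsg.Agent.Invol.PushNorm

open Subgroup Matrix
open Cfsg.Agent.Grp.SL2 (up)
open Cfsg.Agent.Invol.NatPair (fixed_sq_le_card)

universe u

variable {G : Type u} [Group G] [Finite G] {F : Type} [Field F] [Finite F] [CharP F 2]

theorem card_le_two {A I : Subgroup G} (hi : ∀ a ∈ A, a ∉ I → ∀ b ∈ A, b ∉ I → a * b ∈ I) :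
    Nat.card A ≤ 2 * Nat.card ↥(A ⊓ I) := by
  by_cases hA : A ≤ I
  · rw [inf_eq_left.mpr hA]; omega
  · exact (card_two_mul hA hi).le

namespace Fr

variable {H K M Q T W : Subgroup G} (R : Fr H K M Q T W F)
include R

theorem swap_fix {r : G} (hr : r ∈ normalizer (R.J : Set G)) (hrM : r ∉ M) {X : Subgroup G} (hX : X ≤ R.Y)
    (hc : ∀ y ∈ X, r * y = y * r) : Nat.card X ≤ Nat.card F := by
  refine Nat.card_le_card_of_injective (fun y : ↥X => R.co y 0) fun a b e => Subtype.ext ?_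
  have ha := (R.Y_iff).mp (hX a.2)
  have hb := (R.Y_iff).mp (hX b.2)
  have e' : R.co (a : G) = R.co (b : G) := by
    funext i
    fin_cases i
    · exact e
    · exact ha.2.trans hb.2.symm
  have hz : (a : G) * b ∈ R.Z := (R.co_eq_iff ha.1 hb.1).mp e'
  have hm := X.mul_mem a.2 b.2
  have hz' : (a : G) * b ∈ R.Z' := by
    rw [← R.swap_Z hr hrM, mem_cjS, mul_assoc, ← hc _ hm, inv_mul_cancel_left]
    exact hz
  have h1 : (a : G) * b = 1 := mem_bot.mp (R.Z_disj.le ⟨hz, hz'⟩)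
  rw [eq_inv_of_mul_eq_one_left h1, R.mdl.inv_eq hb.1]

theorem nonlin_fix {n : G} (hn : n ∈ M) (hl : ¬ R.Lin n) {X : Subgroup G} (hX : X ≤ W)
    (hc : ∀ y ∈ X, n * y = y * n) : Nat.card X ≤ Nat.card R.Z * Nat.card F := by
  obtain ⟨c, hs⟩ := R.exists_sig_ne hl
  have h := fixed_sq_le_card (R.movHom hn) (R.sig n) (R.semilinear hn) hs
  rw [Nat.card_fun, Nat.card_fin, sq] at h
  refine (R.card_le_co hX (fun y : ↥X => (⟨R.co y, ?_⟩ : {x // R.movHom hn x = x})) fun a b e =>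
    congrArg Subtype.val e).trans (Nat.mul_le_mul_left _ (Nat.mul_self_le_mul_self_iff.mp h))
  show R.mov n (R.co y) = R.co y
  rw [← R.co_mov hn (hX y.2), hc y y.2, mul_inv_cancel_right]

theorem g_conj_Bor' {n : G} (hn : n ∈ R.Bor) : R.g * n * R.g⁻¹ ∈ R.Bor := by
  have hgg : R.g * R.g ∈ R.Bor :=
    ⟨R.gg_M, (normalizer (R.J : Set G)).mul_mem R.g_norm_J R.g_norm_J⟩
  have := R.g_conj_Bor (R.Bor.mul_mem (R.Bor.mul_mem hgg hn) (R.Bor.inv_mem hgg))
  rwa [show R.g⁻¹ * (R.g * R.g * n * (R.g * R.g)⁻¹) * R.g = R.g * n * R.g⁻¹ by group] at this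

theorem nonJ {n : G} (hn : n ∈ R.Bor) (hnJ : n ∉ R.J) (h2 : n * n = 1) : ¬ R.Lin n := fun hl =>
  hnJ (R.lin_J hn hl (zpowers_invol h2))

/-- An elementary subgroup of `N(J)` of order at least `|W|` lies in `J`. -/
theorem elem_le_J (hbig : R.Z ≠ ⊥ ∨ 8 ≤ Nat.card F) {E : Subgroup G}
    (hE : E ≤ normalizer (R.J : Set G)) (h2 : ∀ x ∈ E, x * x = 1) (hc : Nat.card W ≤ Nat.card E) :
    E ≤ R.J := by
  by_contra hEJ
  have hcm : ∀ a ∈ E, ∀ b ∈ E, a * b = b * a := fun a ha b hb => comm_of_exp h2 ha hb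
  have s1 : Nat.card E ≤ 2 * Nat.card ↥(E ⊓ R.Bor) := card_le_two fun a ha ha' b hb hb' =>
    R.swap_pair (hE ha) (hE hb) (fun e => ha' ⟨e, hE ha⟩) fun e => hb' ⟨e, hE hb⟩
  have s2 : Nat.card ↥(E ⊓ R.Bor) ≤ 2 * Nat.card ↥(E ⊓ R.J) := by
    have h := card_le_two (A := E ⊓ R.Bor) (I := R.J) fun a ha ha' b hb hb' =>
      R.lin_J (R.Bor.mul_mem ha.2 hb.2)
        (R.lin_mul_invol ha.2.1 hb.2.1 (h2 a ha.1) (h2 b hb.1) (R.nonJ ha.2 ha' (h2 a ha.1))
          (R.nonJ hb.2 hb' (h2 b hb.1)))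
        (zpowers_invol (h2 _ (E.mul_mem ha.1 hb.1)))
    rwa [inf_assoc, inf_eq_right.mpr R.J_le_Bor] at h
  have hq := R.q4
  have hZ : 0 < Nat.card R.Z := Nat.card_pos
  rw [R.card_W] at hc
  by_cases hsw : E ≤ R.Bor
  · rw [inf_eq_left.mpr hsw] at s2
    obtain ⟨n, hn, hnJ⟩ := SetLike.not_le_iff_exists.mp hEJ
    have hnl := R.nonJ (hsw hn) hnJ (h2 n hn)
    have h3 : Nat.card ↥(E ⊓ R.J) ≤ Nat.card R.Z * Nat.card F := by
      rcases R.le_W_or (inf_le_right : E ⊓ R.J ≤ R.J) (fun x hx => h2 x hx.1) with h | h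
      · exact R.nonlin_fix (hsw hn).1 hnl h fun y hy => hcm n hn y hy.1
      · rw [← card_cjS R.g (E ⊓ R.J)]
        refine R.nonlin_fix (n := R.g * n * R.g⁻¹) (R.g_conj_Bor' (hsw hn)).1
          (R.nonJ (R.g_conj_Bor' (hsw hn)) (fun e => hnJ ?_) ?_) ((cjS_mono h).trans R.cjW'.le) fun y hy => ?_
        · rw [← R.cjJ, mem_cjS] at e
          convert e using 1
          group
        · rw [show R.g * n * R.g⁻¹ * (R.g * n * R.g⁻¹) = R.g * (n * n) * R.g⁻¹ by group, h2 n hn]; group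
        · have hy' := mem_cjS.mp hy
          have := hcm n hn _ hy'.1
          calc R.g * n * R.g⁻¹ * y = R.g * (n * (R.g⁻¹ * y * R.g)) * R.g⁻¹ := by group
            _ = R.g * (R.g⁻¹ * y * R.g * n) * R.g⁻¹ := by rw [this]
            _ = y * (R.g * n * R.g⁻¹) := by group
    have : Nat.card R.Z * (Nat.card F * Nat.card F) ≤ Nat.card R.Z * (2 * Nat.card F) := by
      calc _ ≤ Nat.card E := hc
        _ ≤ 2 * (Nat.card R.Z * Nat.card F) := s2.trans (Nat.mul_le_mul_left 2 h3)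
        _ = _ := by ring
    have := Nat.le_of_mul_le_mul_left this hZ
    have := Nat.le_of_mul_le_mul_right this (by omega : 0 < Nat.card F)
    omega
  obtain ⟨r, hr, hrB⟩ := SetLike.not_le_iff_exists.mp hsw
  have hrM : r ∉ M := fun e => hrB ⟨e, hE hr⟩
  have h3 : Nat.card ↥(E ⊓ R.J) ≤ Nat.card F := by
    refine R.swap_fix (hE hr) hrM (fun y hy => ?_) fun y hy => hcm r hr y hy.1
    have hfix : r⁻¹ * y * r = y := by rw [mul_assoc, ← hcm r hr y hy.1, inv_mul_cancel_left]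
    rcases R.mem_W_or hy.2 (h2 y hy.1) with h | h
    · refine ⟨h, (R.swap_W (hE hr) hrM).le (mem_cjS.mpr ?_)⟩
      rw [hfix]; exact h
    · refine ⟨(R.swap_W' (hE hr) hrM).le (mem_cjS.mpr ?_), h⟩
      rw [hfix]; exact h
  have h4 : Nat.card R.Z * (Nat.card F * Nat.card F) ≤ 4 * Nat.card F := by
    calc _ ≤ Nat.card E := hc
      _ ≤ 2 * (2 * Nat.card ↥(E ⊓ R.J)) := s1.trans (Nat.mul_le_mul_left 2 s2)
      _ ≤ _ := by omega
  rw [← mul_assoc] at h4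
  have h5 := Nat.le_of_mul_le_mul_right h4 (by omega : 0 < Nat.card F)
  rcases R.card_Z with hz | hz
  · have h8 := hbig.resolve_left (fun e => e hz)
    rw [hz, card_bot, one_mul] at h5
    omega
  · rw [hz] at h5
    have := Nat.mul_le_mul hq hq
    omega

/-- An element moving both modules into `N(J)` normalizes `J`. -/
theorem norm_J_of_conj (hbig : R.Z ≠ ⊥ ∨ 8 ≤ Nat.card F) {x : G} (hJ : cjS x R.J ≤ normalizer (R.J : Set G)) :
    x ∈ normalizer (R.J : Set G) := by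
  have hexp : ∀ {V : Subgroup G}, (∀ a ∈ V, a * a = 1) → ∀ a ∈ cjS x V, a * a = 1 := fun {V} hV a ha => by
    have h := hV _ (mem_cjS.mp ha)
    calc a * a = x * (x⁻¹ * a * x * (x⁻¹ * a * x)) * x⁻¹ := by group
      _ = 1 := by rw [h]; group
  refine cjS_eq_iff.mp (eq_of_le_of_card_ge ?_ (card_cjS _ _).ge)
  conv_lhs => rw [R.J_eq, cjS_sup]
  refine sup_le ?_ ?_
  · exact R.elem_le_J hbig ((cjS_mono R.W_le_J).trans hJ) (hexp R.mdl.exp) (card_cjS _ _).ge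
  · refine R.elem_le_J hbig ((cjS_mono R.W'_le_J).trans hJ) (hexp R.W'_exp') ?_
    rw [card_cjS]; exact (card_cjS _ _).ge

/-- Every 2-group over `J` normalizes `J`. -/
theorem le_norm_J (hbig : R.Z ≠ ⊥ ∨ 8 ≤ Nat.card F) {P : Subgroup G} (hP : IsPGroup 2 P) (hJ : R.J ≤ P) :
    P ≤ normalizer (R.J : Set G) := by
  haveI : Fact (Nat.Prime 2) := ⟨Nat.prime_two⟩
  haveI : Group.IsNilpotent ↥P := hP.isNilpotent
  by_contra hne
  obtain ⟨N, hN⟩ : ∃ N, N = (normalizer (R.J : Set G)).subgroupOf P := ⟨_, rfl⟩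
  have hlt : N < ⊤ := lt_top_iff_ne_top.mpr fun e => hne (subgroupOf_eq_top.mp (hN ▸ e))
  obtain ⟨⟨x, hxP⟩, hx, hxN⟩ := SetLike.exists_of_lt (Group.normalizerCondition_of_isNilpotent _ hlt)
  refine hxN (hN ▸ mem_subgroupOf.mpr (R.norm_J_of_conj hbig ?_))
  intro y hy
  rw [mem_cjS] at hy
  have hyN : (⟨x⁻¹ * y * x, hJ hy⟩ : ↥P) ∈ N := hN ▸ mem_subgroupOf.mpr (le_normalizer hy)
  have h := (mem_normalizer_iff.mp hx ⟨_, hJ hy⟩).mp hyN
  rw [hN, mem_subgroupOf] at h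
  convert h using 1
  show y = x * (x⁻¹ * y * x) * x⁻¹
  group

end Fr

end Cfsg.Agent.Invol.PushNorm
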