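import Cfsg.Agent.Lib.Invol.PushNorm.Field
import Cfsg.Agent.Lib.Grp.CoprimeAbelian

/-!
# No involution induces a field automorphism
-/

set_option autoImplicit false
set_option linter.style.haveILetI false
set_option linter.unusedSectionVars false

namespace Cfsg.Agent.Invol.PushNorm

open Subgroup Matrix
open Cfsg.Agent.Invol.NatPair (card_le_fixed_sq)
open Cfsg.Agent.Transfer.QRC (core2 core2_le core2_norm le_core2 core2_isPGroup norm_of_conj)

universe u

variable {G : Type u} [Group G] [Finite G] {F : Type} [Field F] [Finite F] [CharP F 2]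

theorem cjS_cent (g t : G) : centralizer ({g * t * g⁻¹} : Set G) = cjS g (centralizer ({t} : Set G)) := by
  ext x
  rw [mem_cjS, mem_cent, mem_cent]
  constructor
  · intro h
    calc g⁻¹ * x * g * t = g⁻¹ * (x * (g * t * g⁻¹)) * g := by group
      _ = g⁻¹ * (g * t * g⁻¹ * x) * g := by rw [h]
      _ = t * (g⁻¹ * x * g) := by group
  · intro h
    calc x * (g * t * g⁻¹) = g * (g⁻¹ * x * g * t) * g⁻¹ := by group
      _ = g * (t * (g⁻¹ * x * g)) * g⁻¹ := by rw [h]
      _ = g * t * g⁻¹ * x := by group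

theorem core2_conj {g r : G} {X : Subgroup G} (hr : r ∈ core2 X) : g * r * g⁻¹ ∈ core2 (cjS g X) := by
  refine le_core2 (N := cjS g (core2 X)) (cjS_mono (core2_le X)) (isPGroup_cjS (core2_isPGroup X)) ?_
    (conj_mem_cjS hr)
  intro a ha y hy
  rw [mem_cjS] at ha hy ⊢
  have := core2_norm X _ ha _ hy
  convert this using 1
  group

theorem zpowers_invol_mem {t y : G} (ht : t * t = 1) (hy : y ∈ zpowers t) : y = 1 ∨ y = t := by
  obtain ⟨i, rfl⟩ := mem_zpowers_iff.mp hy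
  rcases Int.even_or_odd i with ⟨j, hj⟩ | ⟨j, hj⟩
  · left; rw [hj, _root_.zpow_add, ← (Commute.refl t).mul_zpow, ht, _root_.one_zpow]
  · right
    rw [hj, _root_.zpow_add, two_mul, _root_.zpow_add, ← (Commute.refl t).mul_zpow, ht, _root_.one_zpow, one_mul,
      zpow_one]

namespace Fr

variable {H K M Q T W : Subgroup G} (R : Fr H K M Q T W F)
include R

variable {f : G} (hf : f ∈ R.Bor) (h2 : f * f = 1) (hfJ : f ∉ R.J)
include hf h2 hfJ

theorem core_W_Y {x : G} (hx : x ∈ core2 (centralizer ({f} : Set G))) (hxW : x ∈ W) : x ∈ R.Y := by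
  refine ⟨hxW, ?_⟩
  have hxB : x ∈ R.Bor := R.J_le_Bor (R.W_le_J hxW)
  have hf' : R.g⁻¹ * f * R.g ∈ R.Bor := R.g_conj_Bor hf
  have h2' : R.g⁻¹ * f * R.g * (R.g⁻¹ * f * R.g) = 1 := by
    rw [show R.g⁻¹ * f * R.g * (R.g⁻¹ * f * R.g) = R.g⁻¹ * (f * f) * R.g by group, h2]; group
  have hfJ' : R.g⁻¹ * f * R.g ∉ R.J := fun e => hfJ (by
    have := conj_mem_cjS (g := R.g) e
    rw [R.cjJ] at this
    convert this using 1
    group)
  have hr : R.g⁻¹ * x * R.g ∈ core2 (centralizer ({R.g⁻¹ * f * R.g} : Set G)) := by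
    have h := core2_conj (g := R.g⁻¹) hx
    rw [← cjS_cent, inv_inv] at h
    exact h
  rcases R.core_cap hf' h2' hfJ' hr (R.g_conj_Bor hxB).1 with h | h
  · exact mem_cjS.mpr h
  · exfalso
    rw [show R.g⁻¹ * f * R.g * (R.g⁻¹ * x * R.g) = R.g⁻¹ * (f * x) * R.g by group] at h
    have hfx : f * x ∈ R.J := R.W'_le_J (mem_cjS.mpr h)
    exact hfJ ((Subgroup.mul_mem_cancel_right R.J (R.W_le_J hxW)).mp hfx)

theorem core_W_Z {x : G} (hx : x ∈ core2 (centralizer ({f} : Set G))) (hxW : x ∈ W) : x ∈ R.Z := by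
  have hl : ¬ R.Lin f := fun e => hfJ (R.lin_J hf e (zpowers_invol h2))
  obtain ⟨d, hd, -, hdf, hdY⟩ := R.exists_d hf h2 hl
  refine hdY x (R.core_W_Y hf h2 hfJ hx hxW) (R.core_W_Y hf h2 hfJ ?_ (conj_mem R.mdl.norm hd hxW))
  exact core2_norm _ d (mem_cent.mpr hdf.symm) x hx

theorem core_cap_eq {r : G} (hr : r ∈ core2 (centralizer ({f} : Set G))) (hrM : r ∈ M) : r ∈ zpowers f := by
  have hone : ∀ x ∈ core2 (centralizer ({f} : Set G)), x ∈ W → x = 1 := by
    intro x hx hxW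
    have hxZ := R.core_W_Z hf h2 hfJ hx hxW
    have hxY := R.core_W_Y hf h2 hfJ hx hxW
    have hf' : R.g⁻¹ * f * R.g ∈ R.Bor := R.g_conj_Bor hf
    have h2' : R.g⁻¹ * f * R.g * (R.g⁻¹ * f * R.g) = 1 := by
      rw [show R.g⁻¹ * f * R.g * (R.g⁻¹ * f * R.g) = R.g⁻¹ * (f * f) * R.g by group, h2]; group
    have hfJ' : R.g⁻¹ * f * R.g ∉ R.J := fun e => hfJ (by
      have := conj_mem_cjS (g := R.g) e
      rw [R.cjJ] at this
      convert this using 1
      group)
    have hr' : R.g⁻¹ * x * R.g ∈ core2 (centralizer ({R.g⁻¹ * f * R.g} : Set G)) := by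
      have h := core2_conj (g := R.g⁻¹) hx
      rw [← cjS_cent, inv_inv] at h
      exact h
    have hxZ' : x ∈ R.Z' := mem_cjS.mpr (R.core_W_Z hf' h2' hfJ' hr' (mem_cjS.mp hxY.2))
    exact mem_bot.mp (R.Z_disj.le ⟨hxZ, hxZ'⟩)
  have hfR := (core_cent R.hyp.char2 (t := f) (fun e => hfJ (by rw [e]; exact R.J.one_mem)) h2).1
  rcases R.core_cap hf h2 hfJ hr hrM with h | h
  · rw [hone r hr h]; exact one_mem _
  · have e := hone _ (mul_mem hfR hr) h
    rw [show r = f⁻¹ from eq_inv_of_mul_eq_one_right e]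
    exact inv_mem (mem_zpowers f)

/-- The second type: the product of a fixed point and an element of order three. -/
theorem false_fS (hZ : R.Z ≠ ⊥) {P : Subgroup G} (hP : IsPGroup 2 P) (hTP : T ≤ P) (hPB : P ≤ R.Bor)
    (hfP : f ∈ P) : False := by
  haveI : Fact (Nat.Prime 2) := ⟨Nat.prime_two⟩
  haveI : Group.IsNilpotent ↥P := hP.isNilpotent
  have hl : ¬ R.Lin f := fun e => hfJ (R.lin_J hf e (zpowers_invol h2))
  haveI : (R.Z.subgroupOf P).Normal := normal_subgroupOf_of_le_normalizer (hPB.trans (inf_le_left.trans R.M_Z))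
  have hZP : R.Z ≤ P := (inf_le_left : R.Z ≤ W).trans ((R.hyp.W_le_T R.mdl).trans hTP)
  have hne : R.Z.subgroupOf P ≠ ⊥ := fun e => hZ ((subgroupOf_eq_bot.mp e).eq_bot_of_le hZP)
  obtain ⟨⟨z, hzP⟩, ⟨hzZ, hzc⟩, hz1⟩ :=
    (bot_or_exists_ne_one _).resolve_left (Grp.inf_center_ne_bot _ hne)
  have hzZ' : z ∈ R.Z := mem_subgroupOf.mp hzZ
  have hz1' : z ≠ 1 := fun e => hz1 (Subtype.ext e)
  have hzcomm : ∀ p ∈ P, p * z = z * p := fun p hp => congrArg Subtype.val (mem_center_iff.mp hzc ⟨p, hp⟩)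
  have hfixz : ∀ y : G, y * z = z * y → y ∈ normalizer (zpowers z : Set G) := fun y hy => mem_norm fun w hw => by
    obtain ⟨i, rfl⟩ := mem_zpowers_iff.mp hw
    rw [(show Commute y (z ^ i) from Commute.zpow_right hy i).eq, mul_inv_cancel_right]
    exact zpow_mem (mem_zpowers z) i
  have hCz : ∀ y : G, y * z = z * y → y ∈ M := fun y hy =>
    R.hyp.le_M (zpowers_invol (R.mdl.exp z hzZ'.1)) (fun e => hz1' (zpowers_eq_bot.mp e))
      (R.hyp.sup.trans (sup_le (fun k hk => hfixz k (mem_centralizer_iff.mp hzZ'.2 k hk))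
        fun t ht => hfixz t (hzcomm t (hTP ht)))) (hfixz y hy)
  obtain ⟨d, hdK, hd3, hdf, hdY⟩ := R.exists_d hf h2 hl
  obtain ⟨C, hC⟩ : ∃ C, C = centralizer ({f} : Set G) := ⟨_, rfl⟩
  obtain ⟨R2, hR2⟩ : ∃ R2, R2 = core2 C := ⟨_, rfl⟩
  have hCn : C ≤ normalizer (R2 : Set G) := hR2 ▸ norm_of_conj (core2_norm C)
  have hzC : z ∈ C := hC ▸ mem_cent.mpr (hzcomm f hfP).symm
  have hdC : d ∈ C := hC ▸ mem_cent.mpr hdf.symm
  have hd : orderOf d ∣ 3 := orderOf_dvd_of_pow_eq_one (by rw [pow_succ, pow_succ, pow_one]; exact hd3)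
  have hcop : (Nat.card (zpowers d)).Coprime 2 := by
    rw [Nat.card_zpowers]
    exact Nat.Coprime.coprime_dvd_left hd (by norm_num)
  have hdz : zpowers z ≤ centralizer (zpowers d : Set G) := zpowers_le.mpr (mem_centralizer_iff.mpr fun y hy => by
    obtain ⟨i, rfl⟩ := mem_zpowers_iff.mp hy
    exact ((show Commute d z from mem_centralizer_iff.mp hzZ'.2 d hdK).zpow_left i).eq)
  have key := Grp.thompson_PQ (zpowers z) (zpowers d) (zpowers_invol (R.mdl.exp z hzZ'.1)) hcop hdz R2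
    (hR2 ▸ core2_isPGroup C) (zpowers_le.mpr (hCn hzC)) (zpowers_le.mpr (hCn hdC)) fun u hu => by
      have huz : u * z = z * u := (mem_centralizer_iff.mp hu.2 z (mem_zpowers z)).symm
      have huf : u ∈ zpowers f := R.core_cap_eq hf h2 hfJ (hC ▸ hR2 ▸ hu.1) (hCz u huz)
      refine mem_centralizer_iff.mpr fun y hy => ?_
      obtain ⟨i, rfl⟩ := mem_zpowers_iff.mp hy
      rcases zpowers_invol_mem h2 huf with rfl | rfl
      · simp
      · exact ((show Commute d u from hdf.symm).zpow_left i).eq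
  obtain ⟨-, hcent⟩ := core_cent R.hyp.char2 (t := f) (fun e => hfJ (by rw [e]; exact R.J.one_mem)) h2
  rw [← hC, ← hR2] at hcent
  have hdR : d ∈ R2 := hcent ⟨hdC, mem_centralizer_iff.mpr fun y hy =>
    (mem_centralizer_iff.mp (key (mem_zpowers d)) y hy)⟩
  obtain ⟨n, hn⟩ := (hR2 ▸ core2_isPGroup C : IsPGroup 2 R2) ⟨d, hdR⟩
  have hn' : d ^ 2 ^ n = 1 := congrArg Subtype.val hn
  have hd1 : d = 1 := orderOf_eq_one_iff.mp (Nat.eq_one_of_dvd_coprimes
    ((Nat.coprime_primes Nat.prime_three Nat.prime_two).mpr (by norm_num) |>.pow_right n) hd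
    (orderOf_dvd_of_pow_eq_one hn'))
  have hy : R.lift ![1, 0] ∈ R.Y := (R.Y_iff).mpr ⟨R.lift_mem _, by rw [R.co_lift]; rfl⟩
  have := (R.co_eq_zero (R.lift_mem _)).mpr (hdY _ hy (by rw [hd1, one_mul, inv_one, mul_one]; exact hy))
  rw [R.co_lift] at this
  exact R.e1_ne this

/-- The first type: the core meets `N(J)` in `⟨f⟩` alone. -/
theorem false_fL (hZ : R.Z = ⊥) (h8 : 8 ≤ Nat.card F)
    (hCI : ∀ y ∈ R.Y, y ≠ 1 → centralizer ({y} : Set G) ≤ normalizer (R.J : Set G)) : False := by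
  have hl : ¬ R.Lin f := fun e => hfJ (R.lin_J hf e (zpowers_invol h2))
  have hco : ∀ {a b : G}, a ∈ W → b ∈ W → R.co a = R.co b → a = b := fun {a b} ha hb e => by
    have := (R.co_eq_iff ha hb).mp e
    rw [hZ, mem_bot] at this
    rw [eq_inv_of_mul_eq_one_left this, R.mdl.inv_eq hb]
  have hfix : ∀ x, R.mov f x = x → R.lift x * f = f * R.lift x := fun x hx => by
    have e := hco (conj_mem R.M_W hf.1 (R.lift_mem x)) (R.lift_mem x) (by
      rw [R.co_mov hf.1 (R.lift_mem x), R.co_lift, hx])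
    exact (mul_inv_eq_iff_eq_mul.mp e).symm
  have hf1 : f ≠ 1 := fun e => hfJ (by rw [e]; exact R.J.one_mem)
  obtain ⟨-, u, hu, hu1⟩ := R.exists_fixed_pair hf h2 hl
  have hR : core2 (centralizer ({f} : Set G)) ⊓ normalizer (R.J : Set G) ≤ zpowers f := by
    rintro r ⟨hr, hrJ⟩
    by_cases hrM : r ∈ M
    · exact R.core_cap_eq hf h2 hfJ hr hrM
    exfalso
    have hw := R.lift_mem u
    have hw' : r * R.lift u * r⁻¹ ∈ R.W' := (R.swap_W hrJ hrM).le (conj_mem_cjS hw)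
    have hm : r * R.lift u * r⁻¹ * (R.lift u)⁻¹ ∈ zpowers f := by
      refine R.core_cap_eq hf h2 hfJ ?_ (R.K_le_M (R.J_le_K
        (R.J.mul_mem (R.W'_le_J hw') (R.J.inv_mem (R.W_le_J hw)))))
      rw [show r * R.lift u * r⁻¹ * (R.lift u)⁻¹ = r * (R.lift u * r⁻¹ * (R.lift u)⁻¹) by group]
      exact mul_mem hr (core2_norm _ _ (mem_cent.mpr (hfix u hu)) _ (inv_mem hr))
    rcases zpowers_invol_mem h2 hm with e | e
    · refine hu1 ?_
      have := (R.mem_W'_iff hw).mp (mul_inv_eq_one.mp e ▸ hw')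
      rwa [R.co_lift] at this
    · exact hfJ (e ▸ R.J.mul_mem (R.W'_le_J hw') (R.J.inv_mem (R.W_le_J hw)))
  -- two fixed points on the axis
  let g : F →+ F :=
    { toFun := fun x => R.al f * R.sig f x
      map_zero' := by rw [R.sig_zero hf.1, mul_zero]
      map_add' := fun x y => by rw [R.sig_add hf.1, mul_add] }
  have haxis : ∀ a, R.mov f ![a, 0] = ![g a, 0] := fun a => by
    rw [R.mov_eq hf]
    ext i; fin_cases i <;> simp [g, R.sig_zero hf.1, mul_comm]
  have hginv : ∀ a, g (g a) = a := fun a => by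
    have h := R.mov_invol hf.1 h2 ![a, 0]
    rw [haxis, haxis] at h
    simpa using congrFun h 0
  have hge := card_le_fixed_sq g (fun x : F => CharTwo.add_self_eq_zero x) hginv
  obtain ⟨a, ha, ha0, b, hb, hb0, hab⟩ : ∃ a, g a = a ∧ a ≠ 0 ∧ ∃ b, g b = b ∧ b ≠ 0 ∧ a ≠ b := by
    by_contra hc
    push Not at hc
    have hle : Nat.card {x : F // g x = x} ≤ 2 := by
      classical
      refine (Nat.card_le_card_of_injective (fun x : {x : F // g x = x} => decide ((x : F) = 0))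
        fun x y e => Subtype.ext ?_).trans
        (le_of_eq (Nat.card_eq_two_iff.mpr ⟨false, true, by decide, by ext b; cases b <;> simp⟩))
      have e' : (x : F) = 0 ↔ (y : F) = 0 := by simpa using e
      by_cases hx : (x : F) = 0
      · rw [hx, e'.mp hx]
      · exact hc x x.2 hx y y.2 fun hy => hx (e'.mpr hy)
    have := Nat.mul_le_mul hle hle
    omega
  have hY : ∀ c, R.lift ![c, 0] ∈ R.Y := fun c => (R.Y_iff).mpr ⟨R.lift_mem _, by rw [R.co_lift]; rfl⟩
  have hne : ∀ c, c ≠ 0 → R.lift ![c, 0] ≠ 1 := fun c hc e => hc (by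
    have := congrArg R.co e
    rw [R.co_lift, R.co_one] at this
    simpa using congrFun this 0)
  have hfc : ∀ c, g c = c → R.lift ![c, 0] * f = f * R.lift ![c, 0] := fun c hc =>
    hfix _ (by rw [haxis, hc])
  refine no_core R.hyp.char2 (N := normalizer (R.J : Set G)) hf1 h2 hf.2 hR (R.mdl.exp _ (R.lift_mem _))
    (R.mdl.exp _ (R.lift_mem _)) (hfc a ha) (hfc b hb) (R.mdl.comm _ (R.lift_mem _) _ (R.lift_mem _))
    (fun e => hfJ (e ▸ R.W_le_J (R.lift_mem _))) (hne a ha0) (hCI _ (hY a) (hne a ha0))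
    (hCI _ (hY b) (hne b hb0)) (hCI _ (R.Y.mul_mem (hY a) (hY b)) fun e => hab ?_)
  have h := congrArg R.co e
  rw [R.co_mul (R.lift_mem _) (R.lift_mem _), R.co_lift, R.co_lift, R.co_one] at h
  exact CharTwo.add_eq_zero.mp (by simpa using congrFun h 0)

end Fr

end Cfsg.Agent.Invol.PushNorm
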