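import Cfsg.Agent.Lib.Invol.PushNorm.Invol

/-!
# An involution inducing a field automorphism
-/

set_option autoImplicit false
set_option linter.style.haveILetI false
set_option linter.unusedSectionVars false

namespace Cfsg.Agent.Invol.PushNorm

open Subgroup Matrix
open Cfsg.Agent.Grp.SL2 (up up_mul up_zero)
open Cfsg.Agent.Invol.Nat2 (mulVec_up)
open Cfsg.Agent.Invol.NatPair (fixed_sq_le_card card_le_fixed_sq)
open Cfsg.Agent.Transfer.QRC (core2 core2_le core2_norm le_core2 core2_isPGroup norm_of_conj)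

universe u

variable {G : Type u} [Group G] [Finite G] {F : Type} [Field F] [Finite F] [CharP F 2]

/-- A homomorphism fixing the fixed field of an involutive one is trivial or equal to it. -/
theorem hom_fix_involutive {E : Type*} [Field E] (σ τ : E →+* E) (hτ : ∀ x, τ (τ x) = x)
    (h : ∀ x, τ x = x → σ x = x) : (∀ x, σ x = x) ∨ ∀ x, σ x = τ x := by
  have hpt : ∀ x, σ x = x ∨ σ x = τ x := fun x => by
    have e1 := h (x + τ x) (by rw [map_add, hτ, add_comm])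
    have e2 := h (x * τ x) (by rw [map_mul, hτ, mul_comm])
    rw [map_add] at e1
    rw [map_mul, show σ (τ x) = x + τ x - σ x by rw [← e1]; ring] at e2
    have : (σ x - x) * (σ x - τ x) = 0 := by linear_combination -e2
    exact (mul_eq_zero.mp this).imp sub_eq_zero.mp sub_eq_zero.mp
  by_contra hc
  push Not at hc
  obtain ⟨⟨x, hx⟩, ⟨y, hy⟩⟩ := hc
  have hx' := (hpt x).resolve_left hx
  have hy' := (hpt y).resolve_right hy
  rcases hpt (x + y) with e | e <;> rw [map_add] at e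
  · rw [hy'] at e; exact hx (add_right_cancel e)
  · rw [map_add, hx'] at e; exact hy (add_left_cancel e)

theorem conj_sq {g a : G} (h : a * a = 1) : g * a * g⁻¹ * (g * a * g⁻¹) = 1 := by
  rw [show g * a * g⁻¹ * (g * a * g⁻¹) = g * (a * a) * g⁻¹ by group, h]; group

theorem conj_pGroup {g a : G} (h : a * a = 1) : IsPGroup 2 (zpowers (g * a * g⁻¹)) := zpowers_invol (conj_sq h)

namespace Fr

variable {H K M Q T W : Subgroup G} (R : Fr H K M Q T W F)
include R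

theorem sig_invol {f : G} (hf : f ∈ M) (h2 : f * f = 1) (x : F) : R.sig f (R.sig f x) = x := by
  rw [← R.sig_comp hf hf, h2, R.sig_unit]

theorem mov_invol {f : G} (hf : f ∈ M) (h2 : f * f = 1) (x : Fin 2 → F) : R.mov f (R.mov f x) = x := by
  rw [← R.mov_mul hf hf, h2, R.mov_one]

theorem vec_two (x : Fin 2 → F) : x + x = 0 := funext fun i => CharTwo.add_self_eq_zero (x i)

variable {f : G} (hf : f ∈ R.Bor) (h2 : f * f = 1) (hl : ¬ R.Lin f)
include hf h2 hl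

theorem card_fix : Nat.card {x // R.movHom hf.1 x = x} = Nat.card F := by
  obtain ⟨c, hc⟩ := R.exists_sig_ne hl
  have h := fixed_sq_le_card (R.movHom hf.1) (R.sig f) (R.semilinear hf.1) hc
  have h' := card_le_fixed_sq (R.movHom hf.1) R.vec_two (R.mov_invol hf.1 h2)
  rw [Nat.card_fun, Nat.card_fin, sq] at h h'
  exact Nat.mul_self_inj.mp (le_antisymm h h')

theorem fix_eq_im {y : Fin 2 → F} (hy : R.mov f y = y) : ∃ x, x + R.mov f x = y := by
  obtain ⟨φ, hφ⟩ : ∃ φ : (Fin 2 → F) →+ (Fin 2 → F), φ = R.movHom hf.1 + AddMonoidHom.id _ := ⟨_, rfl⟩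
  obtain ⟨S, hS⟩ : ∃ S : AddSubgroup (Fin 2 → F), ∀ x, x ∈ S ↔ R.movHom hf.1 x = x :=
    ⟨{ carrier := {x | R.movHom hf.1 x = x}
       zero_mem' := map_zero (R.movHom hf.1)
       add_mem' := fun {a b} ha hb => by
         show R.movHom hf.1 (a + b) = a + b
         rw [map_add, show R.movHom hf.1 a = a from ha, show R.movHom hf.1 b = b from hb]
       neg_mem' := fun {a} ha => by
         show R.movHom hf.1 (-a) = -a
         rw [map_neg, show R.movHom hf.1 a = a from ha] }, fun _ => Iff.rfl⟩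
  have hker : φ.ker = S := by
    ext x
    rw [AddMonoidHom.mem_ker, hS, hφ]
    show R.movHom hf.1 x + x = 0 ↔ _
    exact ⟨fun e => by rw [← add_right_cancel_iff (a := x), e, R.vec_two], fun e => by rw [e, R.vec_two]⟩
  have hran : φ.range ≤ S := by
    rintro _ ⟨x, rfl⟩
    rw [hS, hφ]
    show R.mov f (R.mov f x + x) = R.mov f x + x
    rw [R.mov_add hf.1, R.mov_invol hf.1 h2, add_comm]
  have hc : Nat.card S = Nat.card F :=
    (Nat.card_congr (Equiv.subtypeEquivRight hS)).trans (R.card_fix hf h2 hl)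
  have hmul := φ.ker.card_mul_index
  rw [AddSubgroup.index_ker, hker, hc, Nat.card_fun, Nat.card_fin, sq] at hmul
  have he : Nat.card φ.range = Nat.card S := by
    rw [hc]; exact Nat.eq_of_mul_eq_mul_left Nat.card_pos hmul
  obtain ⟨x, hx⟩ : y ∈ φ.range := (AddSubgroup.eq_of_le_of_card_ge hran he.ge).ge ((hS y).mpr hy)
  exact ⟨x, by rw [hφ] at hx; rw [← hx, add_comm]; rfl⟩

theorem exists_fixed_pair : (∃ a, a ≠ 0 ∧ R.al f * R.sig f a = a) ∧ ∃ u, R.mov f u = u ∧ u 1 ≠ 0 := by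
  let g : F →+ F :=
    { toFun := fun x => R.al f * R.sig f x
      map_zero' := by rw [R.sig_zero hf.1, mul_zero]
      map_add' := fun x y => by rw [R.sig_add hf.1, mul_add] }
  have haxis : ∀ a, R.mov f ![a, 0] = ![g a, 0] := fun a => by
    rw [R.mov_eq hf]
    ext i; fin_cases i <;> simp [g, R.sig_zero hf.1, mul_comm]
  have hginv : ∀ a, g (g a) = a := fun a => by
    have h := R.mov_invol hf.1 h2 ![a, 0]
    rw [haxis, haxis] at h
    simpa using congrFun h 0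
  have hge := card_le_fixed_sq g (fun x : F => CharTwo.add_self_eq_zero x) hginv
  have hle := R.fix_axis hf.1 hl (R.al f)
  obtain ⟨m, hm⟩ : ∃ m, m = Nat.card {x : F // g x = x} := ⟨_, rfl⟩
  rw [← hm] at hge
  have hle' : m * m ≤ Nat.card F := by rw [hm]; exact hle
  constructor
  · by_contra hc
    push Not at hc
    have hsub : m ≤ 1 := by
      rw [hm]
      refine Finite.card_le_one_iff_subsingleton.mpr ⟨fun a b => Subtype.ext ?_⟩
      have ha : (a : F) = 0 := by_contra fun e => hc a e a.2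
      have hb : (b : F) = 0 := by_contra fun e => hc b e b.2
      rw [ha, hb]
    have := Nat.mul_le_mul hsub hsub
    have := R.q4
    omega
  · by_contra hc
    push Not at hc
    have hF : Nat.card F ≤ m := by
      rw [← R.card_fix hf h2 hl, hm]
      refine Nat.card_le_card_of_injective (fun x : {x // R.movHom hf.1 x = x} =>
        (⟨(x : Fin 2 → F) 0, ?_⟩ : {a : F // g a = a})) fun x y e => Subtype.ext (funext fun i => ?_)
      · have hx : R.mov f x = x := x.2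
        have hx0 := congrFun hx 0
        rw [R.mov_eq hf] at hx0
        show R.al f * R.sig f ((x : Fin 2 → F) 0) = (x : Fin 2 → F) 0
        simpa [hc x hx, R.sig_zero hf.1, mul_comm] using hx0
      · fin_cases i
        · exact congrArg Subtype.val e
        · exact (hc x x.2).trans (hc y y.2).symm
    have := mul_self_le_lt hle' R.q4
    omega

/-- An element of order three commuting with `f` and moving the axis. -/
theorem exists_rot : ∃ A : Matrix.SpecialLinearGroup (Fin 2) F, A * A * A = 1 ∧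
    (∀ x, R.mov f ((A : Matrix (Fin 2) (Fin 2) F).mulVec x) = (A : Matrix (Fin 2) (Fin 2) F).mulVec (R.mov f x)) ∧
    ∀ a, (A : Matrix (Fin 2) (Fin 2) F).mulVec ![a, 0] 1 = 0 → a = 0 := by
  obtain ⟨⟨a0, ha0, hfa⟩, u, hu, hu1⟩ := R.exists_fixed_pair hf h2 hl
  obtain ⟨v, hv⟩ : ∃ v : Fin 2 → F, v = ![a0, 0] := ⟨_, rfl⟩
  have hfv : R.mov f v = v := by
    rw [hv, R.mov_eq hf]
    ext i; fin_cases i <;> simp [R.sig_zero hf.1]
    rw [mul_comm]; exact hfa
  obtain ⟨u0, hu0⟩ : ∃ u0, u0 = u 0 := ⟨_, rfl⟩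
  obtain ⟨u', hu'⟩ : ∃ u', u' = u 1 := ⟨_, rfl⟩
  rw [← hu'] at hu1
  obtain ⟨A, hA⟩ : ∃ A : Matrix.SpecialLinearGroup (Fin 2) F, (A : Matrix (Fin 2) (Fin 2) F) =
      !![u0 / a0, (a0 * a0 + a0 * u0 + u0 * u0) / (a0 * u'); u' / a0, 1 + u0 / a0] :=
    ⟨⟨!![u0 / a0, (a0 * a0 + a0 * u0 + u0 * u0) / (a0 * u'); u' / a0, 1 + u0 / a0], by
      rw [Matrix.det_fin_two_of]
      field_simp
      ring_nf
      linear_combination -(a0 ^ 2 * CharTwo.two_eq_zero (R := F))⟩, rfl⟩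
  have hAv : (A : Matrix (Fin 2) (Fin 2) F).mulVec v = u := by
    rw [hA, hv]
    ext i; fin_cases i <;> simp [Matrix.mulVec, dotProduct, Fin.sum_univ_two, hu0, hu']
    all_goals field_simp
  have hAu : (A : Matrix (Fin 2) (Fin 2) F).mulVec u = v + u := by
    rw [hA, hv]
    ext i
    fin_cases i <;> simp [Matrix.mulVec, dotProduct, Fin.sum_univ_two, ← hu0, ← hu']
    · field_simp
      linear_combination (u0 * u0) * CharTwo.two_eq_zero (R := F)
    · field_simp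
      linear_combination u0 * CharTwo.two_eq_zero (R := F)
  have hsplit : ∀ x : Fin 2 → F, ∃ p r : F, x = p • v + r • u := fun x =>
    ⟨(x 0 - x 1 / u' * u0) / a0, x 1 / u', by
      ext i; fin_cases i <;> simp [hv, ← hu0, ← hu']
      all_goals field_simp
      all_goals ring⟩
  have hlin : ∀ p r : F, (A : Matrix (Fin 2) (Fin 2) F).mulVec (p • v + r • u) = p • u + r • (v + u) :=
    fun p r => by rw [Matrix.mulVec_add, Matrix.mulVec_smul, Matrix.mulVec_smul, hAv, hAu]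
  refine ⟨A, ?_, fun x => ?_, fun a ha => ?_⟩
  · refine Subtype.ext (Matrix.ext_of_mulVec_single fun i => ?_)
    obtain ⟨p, r, e⟩ := hsplit (Pi.single i 1)
    rw [e, Matrix.SpecialLinearGroup.coe_one, Matrix.one_mulVec, Matrix.SpecialLinearGroup.coe_mul,
      Matrix.SpecialLinearGroup.coe_mul, ← Matrix.mulVec_mulVec, ← Matrix.mulVec_mulVec, hlin]
    simp only [Matrix.mulVec_add, Matrix.mulVec_smul, hAv, hAu]
    rw [show u + (v + u) = v + (u + u) by abel, R.vec_two u, add_zero, show v + u + v = u + (v + v) by abel,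
      R.vec_two v, add_zero]
  · obtain ⟨p, r, rfl⟩ := hsplit x
    rw [hlin, R.mov_add hf.1, R.mov_add hf.1, R.semilinear hf.1, R.semilinear hf.1, R.semilinear hf.1,
      R.semilinear hf.1, hfv, hu, R.mov_add hf.1, hfv, hu, hlin]
  · rw [hA] at ha
    simp [Matrix.mulVec, dotProduct, Fin.sum_univ_two] at ha
    rcases ha with (h | h) | h
    · exact absurd h hu1
    · exact absurd h ha0
    · exact h

/-- An element of `K` of order three centralizing `f` and moving the axis. -/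
theorem exists_d : ∃ d ∈ K, d * d * d = 1 ∧ f * d = d * f ∧
    ∀ w ∈ R.Y, d * w * d⁻¹ ∈ R.Y → w ∈ R.Z := by
  obtain ⟨A, hA3, hAf, hAax⟩ := R.exists_rot hf h2 hl
  obtain ⟨l, hl'⟩ := R.P.surjρ A
  have hl3 : (l : G) * l * l ∈ W := (R.P.kerρ (l * l * l)).mp (by rw [map_mul, map_mul, hl', hA3])
  obtain ⟨d0, hd0⟩ : ∃ d0 : ↥K, d0 = l * l * l * l := ⟨_, rfl⟩
  have hρ0 : R.P.ρ d0 = A := by rw [hd0, map_mul, map_mul, map_mul, hl', hA3, one_mul]
  obtain ⟨x, hx⟩ : ∃ x, x = (d0 : G) := ⟨_, rfl⟩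
  have hxK : x ∈ K := hx ▸ d0.2
  have hx3 : x * x * x = 1 := by
    have h := R.mdl.exp _ hl3
    rw [hx, hd0]
    push_cast
    calc (l : G) * l * l * l * ((l : G) * l * l * l) * ((l : G) * l * l * l)
        = ((l : G) * l * l * ((l : G) * l * l)) * ((l : G) * l * l * ((l : G) * l * l)) := by group
      _ = 1 := by rw [h, one_mul]
  have hfinv : f⁻¹ = f := inv_eq_of_mul_eq_one_left h2
  have hfx : f * x * f⁻¹ ∈ K := conj_mem R.hyp.M_norm hf.1 hxK
  have hρx : R.P.ρ ⟨x, hxK⟩ = A := by rw [← hρ0]; exact congrArg R.P.ρ (Subtype.ext hx)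
  have hρfx : R.P.ρ ⟨f * x * f⁻¹, hfx⟩ = A := Subtype.ext (Matrix.ext_of_mulVec_single fun i => by
    obtain ⟨y, hy⟩ : ∃ y, R.mov f y = Pi.single i (1 : F) := ⟨_, R.mov_invol hf.1 h2 _⟩
    rw [← hy, ← R.mov_mulVec hf.1 ⟨x, hxK⟩ hfx, hρx, hAf])
  rw [hfinv] at hfx
  obtain ⟨w, hw⟩ : ∃ w, w = f * x * f * x⁻¹ := ⟨_, rfl⟩
  have hwW : w ∈ W := by
    rw [hw]
    refine (R.P.kerρ (⟨f * x * f, hfx⟩ * ⟨x, hxK⟩⁻¹)).mp ?_
    rw [map_mul, map_inv, hρx]
    have e : (⟨f * x * f, hfx⟩ : ↥K) = ⟨f * x * f⁻¹, by rw [hfinv]; exact hfx⟩ :=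
      Subtype.ext (show f * x * f = f * x * f⁻¹ by rw [hfinv])
    rw [e, hρfx, mul_inv_cancel]
  have hxW : ∀ {a : G}, a ∈ W → x * a * x⁻¹ ∈ W := fun ha => conj_mem R.mdl.norm hxK ha
  have hfW : ∀ {a : G}, a ∈ W → f * a * f ∈ W := fun {a} ha => by
    have := conj_mem R.M_W hf.1 ha; rwa [hfinv] at this
  have hwi := R.mdl.inv_eq hwW
  have hfxf : f * x * f = w * x := by rw [hw]; group
  have hfxif : f * x⁻¹ * f = x⁻¹ * w := by
    rw [show f * x⁻¹ * f = (f⁻¹ * x * f⁻¹)⁻¹ by group, hfinv, hfxf, _root_.mul_inv_rev, hwi]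
  have hfwf : f * w * f = w := by
    calc f * w * f = (f * f) * x * (f * x⁻¹ * f) := by rw [hw]; group
      _ = x * (x⁻¹ * w) := by rw [h2, one_mul, hfxif]
      _ = w := by group
  have hnorm : x * w * x⁻¹ * (x * (x * w * x⁻¹) * x⁻¹) = w := by
    have h3 : (w * x) * (w * x) * (w * x) = 1 := by
      rw [← hfxf, show f * x * f * (f * x * f) * (f * x * f) = f * x * (f * f) * x * (f * f) * x * f by group, h2,
        mul_one, mul_one, show f * x * x * x * f = f * (x * x * x) * f by group, hx3, mul_one, h2]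
    have h4 : x * w * x⁻¹ * (x * (x * w * x⁻¹) * x⁻¹) = w⁻¹ := by
      refine eq_inv_of_mul_eq_one_right ?_
      calc w * (x * w * x⁻¹ * (x * (x * w * x⁻¹) * x⁻¹))
          = (w * x) * (w * x) * (w * x) * (x * x * x)⁻¹ := by group
        _ = 1 := by rw [h3, hx3]; group
    rwa [hwi] at h4
  obtain ⟨p, hp⟩ : ∃ p, p = x * w * x⁻¹ := ⟨_, rfl⟩
  have hpW : p ∈ W := hp ▸ hxW hwW
  have hfp : f * p * f = p := by
    calc f * p * f = (f * x * f) * (f * w * f) * (f * x⁻¹ * f) := by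
          rw [hp, show f * x * f * (f * w * f) * (f * x⁻¹ * f) = f * x * (f * f) * w * (f * f) * x⁻¹ * f by group,
            h2, mul_one, mul_one]; group
      _ = w * (x * w * x⁻¹) * w := by rw [hfxf, hfwf, hfxif]; group
      _ = p := by rw [hp, R.mdl.comm w hwW _ (hxW hwW), mul_assoc, R.mdl.exp w hwW, mul_one]
  obtain ⟨y, hy⟩ := R.fix_eq_im hf h2 hl (y := R.co p) (by rw [← R.co_mov hf.1 hpW, hfinv, hfp])
  obtain ⟨v, hv⟩ : ∃ v, v = R.lift y := ⟨_, rfl⟩
  have hvW : v ∈ W := hv ▸ R.lift_mem y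
  obtain ⟨v', hv'⟩ : ∃ v', v' = f * v * f := ⟨_, rfl⟩
  have hv'W : v' ∈ W := hv' ▸ hfW hvW
  have heZ : v * v' * p ∈ R.Z := by
    refine (R.co_eq_iff (W.mul_mem hvW hv'W) hpW).mp ?_
    have e' : R.co v' = R.mov f y := by
      rw [hv', show f * v * f = f * v * f⁻¹ by rw [hfinv], R.co_mov hf.1 hvW, hv, R.co_lift]
    rw [R.co_mul hvW hv'W, e', hv, R.co_lift, hy]
  obtain ⟨e, he⟩ : ∃ e, e = v * v' * p := ⟨_, rfl⟩
  have heW : e ∈ W := (he ▸ heZ : e ∈ R.Z).1
  have hex : x * e * x⁻¹ = e := by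
    rw [mem_centralizer_iff.mp (he ▸ heZ : e ∈ R.Z).2 x hxK, mul_inv_cancel_right]
  have hvv : v * v' = e * p := by rw [he, mul_assoc _ p p, R.mdl.exp p hpW, mul_one]
  have hkey : v * v' * (x * (v * v') * x⁻¹) = w := by
    rw [hvv, show x * (e * p) * x⁻¹ = (x * e * x⁻¹) * (x * p * x⁻¹) by group, hex,
      R.mdl.comm e heW p hpW, mul_assoc, ← mul_assoc e e, R.mdl.exp e heW, one_mul, hp]
    exact hnorm
  have hcomm : f * (v * x * v) * f = v * x * v := by
    calc f * (v * x * v) * f = (f * v * f) * (f * x * f) * (f * v * f) := by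
          rw [show f * v * f * (f * x * f) * (f * v * f) = f * v * (f * f) * x * (f * f) * v * f by group, h2,
            mul_one, mul_one]; group
      _ = v' * w * (x * v' * x⁻¹) * x := by rw [← hv', hfxf]; group
      _ = v' * (v * v') * (x * (v * v') * x⁻¹) * (x * v' * x⁻¹) * x := by rw [← hkey]; group
      _ = v * (v' * v') * (x * (v * (v' * v')) * x⁻¹) * x := by
          rw [← mul_assoc v' v v', R.mdl.comm v' hv'W v hvW]; group
      _ = v * x * v := by rw [R.mdl.exp v' hv'W]; group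
  refine ⟨v * x * v, K.mul_mem (K.mul_mem (R.W_le_K hvW) hxK) (R.W_le_K hvW), ?_, ?_, ?_⟩
  · calc v * x * v * (v * x * v) * (v * x * v) = v * x * (v * v) * x * (v * v) * x * v := by group
      _ = v * (x * x * x) * v := by rw [R.mdl.exp v hvW]; group
      _ = 1 := by rw [hx3, mul_one, R.mdl.exp v hvW]
  · calc f * (v * x * v) = f * (v * x * v) * (f * f) := by rw [h2, mul_one]
      _ = f * (v * x * v) * f * f := by group
      _ = v * x * v * f := by rw [hcomm]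
  · intro z hz hz'
    have hzc := (R.Y_iff).mp hz
    have hdK : v * x * v ∈ K := K.mul_mem (K.mul_mem (R.W_le_K hvW) hxK) (R.W_le_K hvW)
    have hρd : R.P.ρ ⟨v * x * v, hdK⟩ = A := by
      rw [show (⟨v * x * v, hdK⟩ : ↥K) = ⟨v, R.W_le_K hvW⟩ * ⟨x, hxK⟩ * ⟨v, R.W_le_K hvW⟩ from rfl,
        map_mul, map_mul, (R.P.kerρ ⟨v, R.W_le_K hvW⟩).mpr hvW, hρx, one_mul, mul_one]
    have h1 := ((R.Y_iff).mp hz').2
    rw [R.co_conj ⟨v * x * v, hdK⟩ hzc.1, hρd,
      show R.co z = ![R.co z 0, 0] by ext i; fin_cases i <;> simp [hzc.2]] at h1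
    exact (R.co_eq_zero hzc.1).mp (by ext i; fin_cases i <;> simp [hAax _ h1, hzc.2])

/-- Transvections centralizing `f`. -/
theorem exists_trans (t : F) : ∃ k ∈ R.J, f * k = k * f ∧
    ∀ x, R.mov k x = ![x 0 + (t + R.al f / R.de f * R.sig f t) * x 1, x 1] := by
  obtain ⟨k, hk⟩ := R.P.surjρ (up t)
  obtain ⟨a, ha, b, hb, hkb⟩ := R.exists_mul (show (k : G) ∈ R.J from ⟨(R.hT k).mpr ⟨t, hk⟩, k.2⟩)
  have hbJ := R.W'_le_J hb
  have hbM := R.T_le_M (R.J_le_T hbJ)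
  have hmb : ∀ x, R.mov b x = ![x 0 + t * x 1, x 1] := fun x => by
    rw [← R.mov_Q (R.hyp.W_le_Q R.mdl ha) (R.mov b x), ← R.mov_mul (R.K_le_M (R.W_le_K ha)) hbM, ← hkb, R.mov_K, hk, mulVec_up]
  have hfinv : f⁻¹ = f := inv_eq_of_mul_eq_one_left h2
  obtain ⟨b', hb'⟩ : ∃ b', b' = f * b * f := ⟨_, rfl⟩
  have hb'W : b' ∈ R.W' := by
    have := conj_mem R.Bor_norm_W' hf hb
    rwa [hfinv, ← hb'] at this
  refine ⟨b' * b, R.J.mul_mem (R.W'_le_J hb'W) hbJ, ?_, fun x => ?_⟩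
  · calc f * (b' * b) = (f * f) * (b * f * b) := by rw [hb']; group
      _ = (b * f * b) * (f * f) := by rw [h2, one_mul, mul_one]
      _ = b * b' * f := by rw [hb']; group
      _ = b' * b * f := by rw [R.W'_comm hb hb'W]
  have hde := R.de_ne hf
  have hmb' : ∀ x, R.mov b' x = ![x 0 + R.al f / R.de f * R.sig f t * x 1, x 1] := fun x => by
    obtain ⟨y, rfl⟩ : ∃ y, R.mov f y = x := ⟨_, R.mov_invol hf.1 h2 x⟩
    rw [hb', ← R.mov_mul (M.mul_mem (M.mul_mem hf.1 hbM) hf.1) hf.1, mul_assoc (f * b) f f, h2, mul_one,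
      R.mov_mul hf.1 hbM, hmb, R.mov_eq hf, R.mov_eq hf]
    ext i
    fin_cases i <;> simp [R.sig_add hf.1, R.sig_mul hf.1]
    field_simp
    ring
  rw [R.mov_mul (R.T_le_M (R.J_le_T (R.W'_le_J hb'W))) hbM, hmb, hmb']
  ext i
  fin_cases i <;> simp
  ring

omit hl in
/-- The core of the centralizer of `f` meets `M` in `W ∪ fW`. -/
theorem core_cap (hfJ : f ∉ R.J) {r : G} (hr : r ∈ core2 (centralizer ({f} : Set G))) (hrM : r ∈ M) :
    r ∈ W ∨ f * r ∈ W := by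
  have hl : ¬ R.Lin f := fun e => hfJ (R.lin_J hf e (zpowers_invol h2))
  obtain ⟨C, hC⟩ : ∃ C, C = centralizer ({f} : Set G) := ⟨_, rfl⟩
  obtain ⟨R2, hR2⟩ : ∃ R2, R2 = core2 C := ⟨_, rfl⟩
  rw [← hC, ← hR2] at hr
  have hR2n : C ≤ normalizer (R2 : Set G) := hR2 ▸ norm_of_conj (core2_norm C)
  obtain ⟨c, hc⟩ : ∃ c, c = R.al f / R.de f := ⟨_, rfl⟩
  obtain ⟨t0, ht0⟩ : ∃ t, t + c * R.sig f t ≠ 0 := by
    by_contra h0
    push Not at h0
    have h1 : c = 1 := by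
      have := h0 1
      rw [R.sig_one hf.1, mul_one, add_comm] at this
      exact CharTwo.add_eq_zero.mp this
    refine hl fun x => ?_
    have := h0 x
    rw [h1, one_mul, add_comm] at this
    exact CharTwo.add_eq_zero.mp this
  obtain ⟨s0, hs0⟩ : ∃ s0, s0 = t0 + c * R.sig f t0 := ⟨_, rfl⟩
  rw [← hs0] at ht0
  obtain ⟨k, hk, hkf, hkm⟩ := R.exists_trans hf h2 hl t0
  have hkm' : ∀ x, R.mov k x = ![x 0 + s0 * x 1, x 1] := fun x => by rw [hkm, hs0, hc]
  have hkC : k ∈ C := hC ▸ mem_cent.mpr hkf.symm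
  have hρk : R.P.ρ ⟨k, R.J_le_K hk⟩ = up s0 := Subtype.ext (Matrix.ext_of_mulVec_single fun i => by
    rw [← R.mov_K, hkm', mulVec_up])
  -- the 2-group `⟨R₂ ∩ K, k⟩`
  obtain ⟨P2, hP2⟩ : ∃ P2, P2 = (R2 ⊓ K) ⊔ zpowers k := ⟨_, rfl⟩
  have hP2K : P2 ≤ K := hP2 ▸ sup_le inf_le_right (zpowers_le.mpr (R.J_le_K hk))
  have hP2p : IsPGroup 2 P2 := hP2 ▸ ((hR2 ▸ core2_isPGroup C : IsPGroup 2 R2).to_le inf_le_left
    ).to_sup_of_normal_left' (sq_of_pGroup R.J_p hk) (zpowers_le.mpr (norm_inf (Y := zpowers k)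
      (zpowers_le.mpr (hR2n hkC)) (zpowers_le.mpr (R.hyp.M_norm (R.T_le_M (R.J_le_T hk)))) (mem_zpowers k)))
  obtain ⟨U, hU⟩ : ∃ U, U = (P2.subgroupOf K).map R.P.ρ := ⟨_, rfl⟩
  have hUp : IsPGroup 2 U := hU ▸ (hP2p.of_equiv (subgroupOfEquivOfLe hP2K).symm).map _
  have hkU : up s0 ∈ U := hU ▸ hρk ▸ mem_map_of_mem R.P.ρ
    (mem_subgroupOf.mpr (hP2 ▸ mem_sup_right (mem_zpowers k) : k ∈ P2))
  haveI : Fact (Nat.Prime 2) := ⟨Nat.prime_two⟩
  haveI hUnt : Nontrivial ↥U := ⟨⟨⟨_, hkU⟩, 1, fun e => ht0 (upinj ((congrArg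
    (fun z : ↥U => (z : Matrix.SpecialLinearGroup (Fin 2) F)) e).trans Grp.SL2.up_zero.symm))⟩⟩
  haveI := hUp.center_nontrivial
  obtain ⟨⟨⟨z, hzU⟩, hzc⟩, hz1⟩ := exists_ne (1 : ↥(center ↥U))
  have hz1' : z ≠ 1 := fun e => hz1 (Subtype.ext (Subtype.ext e))
  have hzc' : ∀ u ∈ U, u * z = z * u := fun u hu => congrArg Subtype.val (mem_center_iff.mp hzc ⟨u, hu⟩)
  -- the centre fixes the axis
  have haxis : ∀ B : Matrix.SpecialLinearGroup (Fin 2) F, ∀ t : F, t ≠ 0 → B * up t = up t * B →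
      (∃ m : ℕ, B ^ 2 ^ m = 1) → ∃ b, B = up b := by
    intro B t ht hB hm
    have h := congrArg (fun A : Matrix.SpecialLinearGroup (Fin 2) F => (A : Matrix (Fin 2) (Fin 2) F).mulVec ![1, 0]) hB
    simp only [Matrix.SpecialLinearGroup.coe_mul, ← Matrix.mulVec_mulVec, mulVec_up] at h
    have h10 : (B : Matrix (Fin 2) (Fin 2) F) 1 0 = 0 := by
      have h0 := congrFun h 0
      simp [Matrix.mulVec, dotProduct, Fin.sum_univ_two] at h0
      exact h0.resolve_left ht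
    obtain ⟨m, hm⟩ := hm
    have hpow : ∀ i : ℕ, ((B ^ i : Matrix.SpecialLinearGroup (Fin 2) F) : Matrix (Fin 2) (Fin 2) F).mulVec ![1, 0]
        = ![(B : Matrix (Fin 2) (Fin 2) F) 0 0 ^ i, 0] := by
      intro i
      induction i with
      | zero => simp
      | succ i ih =>
        rw [pow_succ', Matrix.SpecialLinearGroup.coe_mul, ← Matrix.mulVec_mulVec, ih]
        ext j; fin_cases j <;> simp [Matrix.mulVec, dotProduct, Fin.sum_univ_two, h10, pow_succ']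
    have h00 := congrFun (hpow (2 ^ m)) 0
    rw [hm] at h00
    simp at h00
    have hB00 : (B : Matrix (Fin 2) (Fin 2) F) 0 0 = 1 := sub_eq_zero.mp (eq_zero_of_pow_eq_zero
      (show ((B : Matrix (Fin 2) (Fin 2) F) 0 0 - 1) ^ 2 ^ m = 0 by
        rw [sub_pow_char_pow, ← h00, _root_.one_pow, sub_self]))
    refine NatPair.eq_up_of_fix ?_
    ext i; fin_cases i <;> simp [Matrix.mulVec, dotProduct, Fin.sum_univ_two, h10, hB00]
  have hpU : ∀ u ∈ U, ∃ m : ℕ, u ^ 2 ^ m = 1 := fun u hu => by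
    obtain ⟨m, hm⟩ := hUp ⟨u, hu⟩
    exact ⟨m, by simpa using congrArg Subtype.val hm⟩
  obtain ⟨b, rfl⟩ := haxis z s0 ht0 (hzc' _ hkU).symm (hpU z hzU)
  have hUle : ∀ u ∈ U, ∃ v, u = up v := fun u hu =>
    haxis u b (fun e => hz1' (by rw [e, Grp.SL2.up_zero])) (hzc' u hu) (hpU u hu)
  obtain ⟨d, hdK, -, hdf, hdY⟩ := R.exists_d hf h2 hl
  have hdC : d ∈ C := hC ▸ mem_cent.mpr hdf.symm
  -- `R₂ ∩ K` lies in `W`
  have hRK : ∀ x ∈ R2, x ∈ K → x ∈ W := by
    intro x hx hxK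
    have hmem : ∀ y ∈ R2, ∀ hy : y ∈ K, ∃ v, R.P.ρ ⟨y, hy⟩ = up v := fun y hy hyK =>
      hUle _ (hU ▸ mem_map_of_mem R.P.ρ
        (mem_subgroupOf.mpr (hP2 ▸ mem_sup_left ⟨hy, hyK⟩ : ((⟨y, hyK⟩ : ↥K) : G) ∈ P2)))
    obtain ⟨v, hv⟩ := hmem x hx hxK
    by_cases hv0 : v = 0
    · exact (R.P.kerρ ⟨x, hxK⟩).mp (by rw [hv, hv0, Grp.SL2.up_zero])
    exfalso
    have hx' : d * x * d⁻¹ ∈ R2 := (mem_normalizer_iff.mp (hR2n hdC) x).mp hx
    obtain ⟨v', hv'⟩ := hmem _ hx' (K.mul_mem (K.mul_mem hdK hxK) (K.inv_mem hdK))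
    rw [show (⟨d * x * d⁻¹, K.mul_mem (K.mul_mem hdK hxK) (K.inv_mem hdK)⟩ : ↥K) =
      ⟨d, hdK⟩ * ⟨x, hxK⟩ * ⟨d, hdK⟩⁻¹ from rfl, map_mul, map_mul, map_inv, hv, mul_inv_eq_iff_eq_mul] at hv'
    have h := congrArg (fun A : Matrix.SpecialLinearGroup (Fin 2) F => (A : Matrix (Fin 2) (Fin 2) F).mulVec ![1, 0]) hv'
    simp only [Matrix.SpecialLinearGroup.coe_mul, ← Matrix.mulVec_mulVec, mulVec_up] at h
    have h0 := congrFun h 0
    simp [Matrix.mulVec, dotProduct, Fin.sum_univ_two] at h0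
    -- the axis is not moved
    have hw : ∃ y ∈ R.Y, R.co y = ![1, 0] :=
      ⟨R.lift ![1, 0], (R.Y_iff).mpr ⟨R.lift_mem _, by rw [R.co_lift]; rfl⟩, R.co_lift _⟩
    obtain ⟨y, hy, hyc⟩ := hw
    have hyW := ((R.Y_iff).mp hy).1
    have hd10 : (R.P.ρ ⟨d, hdK⟩ : Matrix (Fin 2) (Fin 2) F) 1 0 = 0 ∨ v' = 0 := by
      rcases h0 with e | e
      · exact Or.inr e
      · exact Or.inl e
    rcases hd10 with e | e
    · have hyd : d * y * d⁻¹ ∈ R.Y := (R.Y_iff).mpr ⟨conj_mem R.mdl.norm hdK hyW, by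
        rw [R.co_conj ⟨d, hdK⟩ hyW, hyc]
        simp [Matrix.mulVec, dotProduct, Fin.sum_univ_two, e]⟩
      have := (R.co_eq_zero hyW).mpr (hdY y hy hyd)
      rw [hyc] at this
      exact one_ne_zero (α := F) (by simpa using congrFun this 0)
    · rw [e, Grp.SL2.up_zero, one_mul, mul_eq_left] at hv'
      exact hv0 (upinj (hv'.trans Grp.SL2.up_zero.symm))
  -- `r` commutes modulo `W` with the transvections
  have hcommk : ∀ k' ∈ R.J, f * k' = k' * f → ∀ x, R.mov r (R.mov k' x) = R.mov k' (R.mov r x) := by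
    intro k' hk' hk'f x
    have hk'M := R.T_le_M (R.J_le_T hk')
    obtain ⟨u, hu⟩ : ∃ u, u = r * k' * r⁻¹ * k'⁻¹ := ⟨_, rfl⟩
    have huR : u ∈ R2 := by
      rw [hu, show r * k' * r⁻¹ * k'⁻¹ = r * (k' * r⁻¹ * k'⁻¹) by group]
      exact R2.mul_mem hr ((mem_normalizer_iff.mp (hR2n (hC ▸ mem_cent.mpr hk'f.symm)) _).mp (R2.inv_mem hr))
    have huK : u ∈ K := hu ▸ K.mul_mem (conj_mem R.hyp.M_norm hrM (R.J_le_K hk')) (K.inv_mem (R.J_le_K hk'))
    have huW := hRK u huR huK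
    rw [← R.mov_mul hrM hk'M, show r * k' = u * (k' * r) by rw [hu]; group,
      R.mov_mul (R.K_le_M (R.W_le_K huW)) (M.mul_mem hk'M hrM), R.mov_Q (R.hyp.W_le_Q R.mdl huW),
      R.mov_mul hk'M hrM]
  have hr10 : R.mov r ![1, 0] 1 = 0 := by
    have h := hcommk k hk hkf ![1, 0]
    rw [hkm', hkm'] at h
    have h0 := congrFun h 0
    simp at h0
    exact h0.resolve_left ht0
  -- so `r` lies in the Borel subgroup
  have hrB : r ∈ R.Bor := by
    refine ⟨hrM, mem_norm fun j hj => ?_⟩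
    have hjK : r * j * r⁻¹ ∈ K := conj_mem R.hyp.M_norm hrM hj.2
    obtain ⟨s, hs⟩ := (R.hT ⟨j, hj.2⟩).mp hj.1
    have h := R.mov_mulVec hrM ⟨j, hj.2⟩ hjK ![1, 0]
    rw [hs, mulVec_up] at h
    obtain ⟨a, ha⟩ : ∃ a, a = R.mov r ![1, 0] 0 := ⟨_, rfl⟩
    have ha' : R.mov r ![1, 0] = a • (![1, 0] : Fin 2 → F) := by
      ext i; fin_cases i <;> simp [← ha, hr10]
    have ha0 : a ≠ 0 := fun e => R.e1_ne (R.mov_inj hrM (by rw [ha', e, zero_smul, R.mov_zero hrM]))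
    simp only [Matrix.cons_val_zero, Matrix.cons_val_one, Matrix.cons_val_fin_one, mul_zero, add_zero] at h
    rw [ha', Matrix.mulVec_smul] at h
    exact ⟨(R.hT ⟨_, hjK⟩).mpr (NatPair.eq_up_of_fix (smul_right_injective _ ha0 h).symm), hjK⟩
  -- its field automorphism fixes the fixed field
  have hstep : ∀ e, R.sig f e = e → R.al r * R.sig r (e * s0) = R.de r * (e * s0) := by
    intro e he
    obtain ⟨k', hk', hk'f, hk'm⟩ := R.exists_trans hf h2 hl (e * t0)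
    have hval : e * t0 + R.al f / R.de f * R.sig f (e * t0) = e * s0 := by
      rw [R.sig_mul hf.1, he, hs0, hc]; ring
    have h := congrFun (hcommk k' hk' hk'f ![0, 1]) 0
    rw [hk'm, hk'm, R.mov_eq hrB, R.mov_eq hrB, hval] at h
    simp [R.sig_one hrB.1, R.sig_zero hrB.1] at h
    linear_combination h
  have hfix : ∀ e, R.sig f e = e → R.sig r e = e := by
    intro e he
    have h1 := hstep 1 (R.sig_one hf.1)
    have h2' := hstep e he
    rw [one_mul] at h1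
    rw [R.sig_mul hrB.1] at h2'
    have hne : R.al r * R.sig r s0 ≠ 0 := by
      rw [h1]; exact mul_ne_zero (R.de_ne hrB) ht0
    refine mul_right_cancel₀ hne ?_
    linear_combination h2' - e * h1
  have hfR : f ∈ R2 := by
    have := (core_cent R.hyp.char2 (t := f) (fun e => hfJ (by rw [e]; exact R.J.one_mem)) h2).1
    rwa [← hC, ← hR2] at this
  have hR2p : IsPGroup 2 R2 := hR2 ▸ core2_isPGroup C
  rcases hom_fix_involutive (R.sigHom hrB.1) (R.sigHom hf.1) (R.sig_invol hf.1 h2) hfix with h | h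
  · exact Or.inl (hRK r hr (R.J_le_K (R.lin_J hrB h (sq_of_pGroup hR2p hr))))
  · refine Or.inr (hRK _ (R2.mul_mem hfR hr) (R.J_le_K (R.lin_J (R.Bor.mul_mem hf hrB) (fun x => ?_)
      (sq_of_pGroup hR2p (R2.mul_mem hfR hr)))))
    rw [R.sig_comp hf.1 hrB.1]
    show R.sig f (R.sigHom hrB.1 x) = x
    rw [h x]
    exact R.sig_invol hf.1 h2 x

end Fr

end Cfsg.Agent.Invol.PushNorm
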