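import Cfsg.Agent.Lib.Invol.PushNorm.Compl

/-!
# Centralizers of involutions, and the two kinds of involutions outside `J`
-/

set_option autoImplicit false
set_option linter.style.haveILetI false
set_option linter.unusedSectionVars false

namespace Cfsg.Agent.Invol.PushNorm

open Subgroup Matrix
open Cfsg.Agent.Transfer.QRC (core2 core2_le core2_norm le_core2 core2_isPGroup norm_of_conj)

universe u

variable {G : Type u} [Group G] [Finite G]

theorem mem_cent {t x : G} : x ∈ centralizer ({t} : Set G) ↔ x * t = t * x := by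
  rw [mem_centralizer_iff]
  exact ⟨fun h => (h t rfl).symm, fun h y hy => by rw [Set.mem_singleton_iff.mp hy]; exact h.symm⟩

/-- The core of an involution centralizer contains the involution and its centralizer. -/
theorem core_cent (h : Cfsg.IsCharacteristicTwoType G) {t : G} (ht1 : t ≠ 1) (ht2 : t * t = 1) :
    t ∈ core2 (centralizer ({t} : Set G)) ∧ centralizer ({t} : Set G) ⊓
      centralizer (core2 (centralizer ({t} : Set G)) : Set G) ≤ core2 (centralizer ({t} : Set G)) := by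
  have hN : normalizer (zpowers t : Set G) = centralizer ({t} : Set G) := by
    refine le_antisymm (fun x hx => mem_cent.mpr ?_) fun x hx => mem_norm fun y hy => ?_
    · obtain ⟨i, hi⟩ := mem_zpowers_iff.mp ((mem_normalizer_iff.mp hx t).mp (mem_zpowers t))
      rcases Int.even_or_odd i with ⟨j, hj⟩ | ⟨j, hj⟩
      · exfalso
        rw [hj, _root_.zpow_add, ← (Commute.refl t).mul_zpow, ht2, _root_.one_zpow] at hi
        exact ht1 (conj_eq_one_iff.mp hi.symm)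
      · rw [hj, _root_.zpow_add, two_mul, _root_.zpow_add, ← (Commute.refl t).mul_zpow, ht2, _root_.one_zpow, one_mul, zpow_one] at hi
        exact mul_inv_eq_iff_eq_mul.mp hi.symm
    · obtain ⟨i, rfl⟩ := mem_zpowers_iff.mp hy
      rw [((show Commute x t from mem_cent.mp hx).zpow_right i).eq, mul_inv_cancel_right]
      exact zpow_mem (mem_zpowers t) i
  refine ⟨le_core2 (N := zpowers t) ?_ (zpowers_invol ht2) ?_ (mem_zpowers t), fun x hx => ?_⟩
  · exact zpowers_le.mpr (mem_cent.mpr rfl)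
  · intro x hx n hn
    exact (mem_normalizer_iff.mp (hN.ge hx) n).mp hn
  · have hc := h.2 (zpowers t) (zpowers_invol ht2) (fun e => ht1 (zpowers_eq_bot.mp e))
    rw [hN] at hc
    exact ⟨⟨x, hx.1⟩, hc (mem_centralizer_iff.mpr fun y hy =>
      Subtype.ext (mem_centralizer_iff.mp hx.2 _ ⟨y, hy, rfl⟩)), rfl⟩

/-- The core cannot meet `N` in the involution alone when two commuting involutions have centralizers in `N`. -/
theorem no_core (h : Cfsg.IsCharacteristicTwoType G) {t a b : G} {N : Subgroup G} (ht1 : t ≠ 1) (ht2 : t * t = 1)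
    (htN : t ∈ N) (hR : core2 (centralizer ({t} : Set G)) ⊓ N ≤ zpowers t)
    (ha2 : a * a = 1) (hb2 : b * b = 1) (hat : a * t = t * a) (hbt : b * t = t * b) (hab : a * b = b * a)
    (hat' : a ≠ t) (ha1 : a ≠ 1)
    (hCa : centralizer ({a} : Set G) ≤ N) (hCb : centralizer ({b} : Set G) ≤ N)
    (hCab : centralizer ({a * b} : Set G) ≤ N) : False := by
  obtain ⟨C, hC⟩ : ∃ C, C = centralizer ({t} : Set G) := ⟨_, rfl⟩
  obtain ⟨R2, hR2⟩ : ∃ R2, R2 = core2 C := ⟨_, rfl⟩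
  obtain ⟨htR, hcent⟩ := core_cent h ht1 ht2
  rw [← hC, ← hR2] at htR hcent hR
  have haN : a ∈ N := hCa (mem_cent.mpr rfl)
  have hbN : b ∈ N := hCb (mem_cent.mpr rfl)
  obtain ⟨E, hE⟩ : ∃ E, E = zpowers t ⊔ (zpowers a ⊔ zpowers b) := ⟨_, rfl⟩
  have hEN : E ≤ N := hE ▸ sup_le (zpowers_le.mpr htN) (sup_le (zpowers_le.mpr haN) (zpowers_le.mpr hbN))
  have hab' : zpowers a ≤ normalizer (zpowers b : Set G) := zpowers_le.mpr (mem_norm fun y hy => by
    obtain ⟨i, rfl⟩ := mem_zpowers_iff.mp hy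
    rw [((show Commute a b from hab).zpow_right i).eq, mul_inv_cancel_right]
    exact zpow_mem (mem_zpowers b) i)
  have htC : ∀ x : G, x * t = t * x → x ∈ normalizer (zpowers t : Set G) := fun x hx => mem_norm fun y hy => by
    obtain ⟨i, rfl⟩ := mem_zpowers_iff.mp hy
    rw [((show Commute x t from hx).zpow_right i).eq, mul_inv_cancel_right]
    exact zpow_mem (mem_zpowers t) i
  have hEp : IsPGroup 2 E := hE ▸ IsPGroup.to_sup_of_normal_left' (zpowers_invol ht2)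
    ((zpowers_invol ha2).to_sup_of_normal_right' (zpowers_invol hb2) hab')
    (sup_le (zpowers_le.mpr (htC a hat)) (zpowers_le.mpr (htC b hbt)))
  have hEC : E ≤ C := hE ▸ hC ▸ sup_le (zpowers_le.mpr (mem_cent.mpr rfl))
    (sup_le (zpowers_le.mpr (mem_cent.mpr hat)) (zpowers_le.mpr (mem_cent.mpr hbt)))
  have hzt : ∀ y ∈ zpowers t, y = 1 ∨ y = t := fun y hy => by
    obtain ⟨i, rfl⟩ := mem_zpowers_iff.mp hy
    rcases Int.even_or_odd i with ⟨j, hj⟩ | ⟨j, hj⟩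
    · left; rw [hj, _root_.zpow_add, ← (Commute.refl t).mul_zpow, ht2, _root_.one_zpow]
    · right; rw [hj, _root_.zpow_add, two_mul, _root_.zpow_add, ← (Commute.refl t).mul_zpow, ht2, _root_.one_zpow, one_mul, zpow_one]
  -- the core is larger than `⟨t⟩`
  by_cases hRN : R2 ≤ N
  · have hle : R2 ≤ zpowers t := (le_inf le_rfl hRN).trans hR
    have hCC : C ⊓ centralizer (R2 : Set G) = C := inf_eq_left.mpr fun x hx => by
      refine mem_centralizer_iff.mpr fun y hy => ?_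
      rw [hC, mem_cent] at hx
      rcases hzt y (hle hy) with rfl | rfl
      · simp
      · exact hx.symm
    rw [hCC] at hcent
    rcases hzt a (hle (hcent (hC ▸ mem_cent.mpr hat))) with e | e
    · exact ha1 e
    · exact hat' e
  obtain ⟨P, hP⟩ : ∃ P, P = R2 ⊔ E := ⟨_, rfl⟩
  have hEn : E ≤ normalizer (R2 : Set G) := hR2 ▸ hEC.trans (norm_of_conj (core2_norm C))
  have hPp : IsPGroup 2 P := hP ▸ IsPGroup.to_sup_of_normal_left' (hR2 ▸ core2_isPGroup C) hEp hEn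
  have hEP : E ≤ P := hP ▸ le_sup_right
  haveI : Fact (Nat.Prime 2) := ⟨Nat.prime_two⟩
  haveI : Group.IsNilpotent ↥P := hPp.isNilpotent
  have hlt : E.subgroupOf P < ⊤ := lt_top_iff_ne_top.mpr fun e => hRN
    ((hP ▸ le_sup_left : R2 ≤ P).trans ((subgroupOf_eq_top.mp e).trans hEN))
  obtain ⟨⟨x, hxP⟩, hx, hxE⟩ := SetLike.exists_of_lt (Group.normalizerCondition_of_isNilpotent _ hlt)
  obtain ⟨r, hr, e, he, rfl⟩ := mem_mul_of_sup hEn (hP ▸ hxP : x ∈ R2 ⊔ E)
  have hrE : r ∉ E := fun h' => hxE (mem_subgroupOf.mpr (E.mul_mem h' he))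
  have hxn : r * e ∈ normalizer (E : Set G) := mem_norm fun y hy =>
    (mem_normalizer_iff.mp hx ⟨y, hEP hy⟩).mp hy
  have hrn : r ∈ normalizer (E : Set G) := by
    simpa using (normalizer (E : Set G)).mul_mem hxn ((normalizer (E : Set G)).inv_mem (le_normalizer he))
  have hkey : ∀ i ∈ E, r * i * r⁻¹ * i⁻¹ = 1 ∨ r * i * r⁻¹ * i⁻¹ = t := fun i hi =>
    hzt _ (hR ⟨by
      rw [show r * i * r⁻¹ * i⁻¹ = r * (i * r⁻¹ * i⁻¹) by group]
      exact R2.mul_mem hr ((mem_normalizer_iff.mp (hEn hi) _).mp (R2.inv_mem hr)),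
      hEN (E.mul_mem ((mem_normalizer_iff.mp hrn i).mp hi) (E.inv_mem hi))⟩)
  have hcase : ∀ i ∈ E, centralizer ({i} : Set G) ≤ N → r * i * r⁻¹ * i⁻¹ = t := fun i hi hCi =>
    (hkey i hi).resolve_left fun e1 => hrE (hE ▸ mem_sup_left (hR ⟨hr, hCi (mem_cent.mpr (by
      rw [mul_inv_eq_one, mul_inv_eq_iff_eq_mul] at e1
      exact e1))⟩))
  have haE : a ∈ E := hE ▸ mem_sup_right (mem_sup_left (mem_zpowers a))
  have hbE : b ∈ E := hE ▸ mem_sup_right (mem_sup_right (mem_zpowers b))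
  have h1 := mul_inv_eq_iff_eq_mul.mp (hcase a haE hCa)
  have h2 := mul_inv_eq_iff_eq_mul.mp (hcase b hbE hCb)
  have h3 := mul_inv_eq_iff_eq_mul.mp (hcase _ (E.mul_mem haE hbE) hCab)
  rw [show r * (a * b) * r⁻¹ = r * a * r⁻¹ * (r * b * r⁻¹) by group, h1, h2] at h3
  refine ht1 ?_
  have h4 : t * a * (t * b) = a * b := by
    calc t * a * (t * b) = t * (a * t) * b := by group
      _ = t * (t * a) * b := by rw [hat]
      _ = (t * t) * (a * b) := by group
      _ = a * b := by rw [ht2, one_mul]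
  rw [h4] at h3
  exact mul_right_cancel (b := a * b) (h3.symm.trans (one_mul _).symm)

namespace Fr

variable {F : Type} [Field F] [Finite F] [CharP F 2] {H K M Q T W : Subgroup G} (R : Fr H K M Q T W F)
include R

/-- An involution of `Bor` outside `J`, inside a 2-group over `T`. -/
theorem exists_outer {n : G} (hn : n ∈ R.Bor) (hnJ : n ∉ R.J) (h2 : IsPGroup 2 (zpowers n)) :
    ∃ (f : G) (P : Subgroup G), f * f = 1 ∧ f ∉ R.J ∧ f ∈ P ∧ T ≤ P ∧ P ≤ R.Bor ∧ IsPGroup 2 P := by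
  haveI : Fact (Nat.Prime 2) := ⟨Nat.prime_two⟩
  obtain ⟨A, hA, hfr⟩ := R.exists_compl
  obtain ⟨S, hS⟩ := (R.hyp.T_p.of_equiv (subgroupOfEquivOfLe R.T_le_Bor).symm).exists_le_sylow
  obtain ⟨P, hP⟩ : ∃ P, P = (S : Subgroup ↥R.Bor).map R.Bor.subtype := ⟨_, rfl⟩
  have hTP : T ≤ P := fun x hx => hP ▸ ⟨⟨x, R.T_le_Bor hx⟩, hS (mem_subgroupOf.mpr hx), rfl⟩
  have hPB : P ≤ R.Bor := hP ▸ map_subtype_le _
  have hPp : IsPGroup 2 P := hP ▸ S.isPGroup'.map _
  -- `P` is larger than `J`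
  obtain ⟨s, hs, hsJ⟩ : ∃ s ∈ P, s ∉ R.J := by
    by_contra hc
    push Not at hc
    obtain ⟨S', hS'⟩ := (h2.of_equiv (subgroupOfEquivOfLe (zpowers_le.mpr hn)).symm).exists_le_sylow
    obtain ⟨c, hc'⟩ := MulAction.exists_smul_eq ↥R.Bor S S'
    have hm : (⟨n, hn⟩ : ↥R.Bor) ∈ (S' : Subgroup ↥R.Bor) := hS' (mem_subgroupOf.mpr (mem_zpowers n))
    rw [← hc', Sylow.coe_subgroup_smul] at hm
    obtain ⟨y, hy, e⟩ := hm
    have hyJ : (y : G) ∈ R.J := hc _ (hP ▸ mem_map_of_mem R.Bor.subtype hy)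
    have e' : n = (c : G) * y * (c : G)⁻¹ := congrArg Subtype.val e.symm
    exact hnJ (e' ▸ (mem_normalizer_iff.mp c.2.2 _).mp hyJ)
  obtain ⟨j, hj, hjs⟩ := hfr s (hPB hs).2
  have hjP : j * s ∈ P := P.mul_mem (hTP (R.J_le_T hj)) hs
  have hjs1 : j * s ≠ 1 := fun e => hsJ (by
    rw [eq_inv_of_mul_eq_one_right e]; exact R.J.inv_mem hj)
  have hne : P ⊓ normalizer (A : Set G) ≠ ⊥ := fun e =>
    hjs1 (mem_bot.mp (e.le ⟨hjP, hjs⟩))
  obtain ⟨f, hf, hf1, hf2⟩ := exists_invol (hPp.to_le inf_le_left) hne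
  exact ⟨f, P, hf2, fun e => hf1 (mem_bot.mp (hA.le ⟨e, hf.2⟩)), hf.1, hTP, hPB, hPp⟩

/-- With no outer elements, an involution interchanging the modules. -/
theorem exists_swap (hBJ : ∀ n ∈ R.Bor, IsPGroup 2 (zpowers n) → n ∈ R.J) :
    ∃ s : G, s ∈ normalizer (R.J : Set G) ∧ s ∉ M ∧ s * s = 1 := by
  haveI : Fact (Nat.Prime 2) := ⟨Nat.prime_two⟩
  obtain ⟨A, hA, hfr⟩ := R.exists_compl
  obtain ⟨k, m, hm, hgm⟩ : ∃ k m : ℕ, Odd m ∧ orderOf R.g = 2 ^ k * m := by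
    obtain ⟨k, m, hm, e⟩ := Nat.exists_eq_pow_mul_and_not_dvd (orderOf_pos R.g).ne' 2 (by norm_num)
    exact ⟨k, m, Nat.not_even_iff_odd.mp fun h => hm h.two_dvd, e⟩
  have hgM : R.g ^ m ∉ M := fun h => R.gM (by
    obtain ⟨i, rfl⟩ := hm
    rw [pow_succ, pow_mul, pow_two] at h
    simpa using M.mul_mem (M.inv_mem (M.pow_mem R.gg_M i)) h)
  have hgN : R.g ^ m ∈ normalizer (R.J : Set G) := (normalizer (R.J : Set G)).pow_mem R.g_norm_J m
  have hg2 : IsPGroup 2 (zpowers (R.g ^ m)) := IsPGroup.of_card (n := k) (by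
    rw [Nat.card_zpowers, orderOf_pow R.g, hgm, Nat.gcd_eq_right (dvd_mul_left m _),
      Nat.mul_div_cancel _ (Nat.pos_of_ne_zero fun e => by simp [e] at hm)])
  obtain ⟨j, hj, hjs⟩ := hfr _ hgN
  have hp : IsPGroup 2 ↥(R.J ⊔ zpowers (R.g ^ m)) := R.J_p.to_sup_of_normal_left' hg2 (zpowers_le.mpr hgN)
  have hs : j * R.g ^ m ∈ R.J ⊔ zpowers (R.g ^ m) := mul_mem_sup hj (mem_zpowers _)
  have hsN : j * R.g ^ m ∈ normalizer (R.J : Set G) :=
    (normalizer (R.J : Set G)).mul_mem (le_normalizer hj) hgN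
  have hsM : j * R.g ^ m ∉ M := fun e => hgM ((Subgroup.mul_mem_cancel_left M (R.K_le_M hj.2)).mp e)
  refine ⟨_, hsN, hsM, ?_⟩
  have hJ : j * R.g ^ m * (j * R.g ^ m) ∈ R.J :=
    hBJ _ (R.swap_pair hsN hsN hsM hsM) (sq_of_pGroup hp (mul_mem hs hs))
  exact mem_bot.mp (hA.le ⟨hJ, (normalizer (A : Set G)).mul_mem hjs hjs⟩)

end Fr

end Cfsg.Agent.Invol.PushNorm
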