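import Cfsg.Agent.Lib.Invol.PushNorm.FiveFrame
import Cfsg.Agent.Lib.Invol.PushNorm.Compl
import Cfsg.Agent.Lib.Invol.PushNorm.Invol

/-!
# The block with five points: sectional rank at most four
-/

set_option autoImplicit false
set_option linter.style.haveILetI false
set_option linter.unusedSectionVars false

namespace Cfsg.Agent.Invol.PushNorm

open Subgroup
open Five (z0 t1 s01 c3 co1 act)

universe u

variable {G : Type u} [Group G] [Finite G]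

theorem card_even_five : Nat.card {v : Fin 5 → ZMod 2 // Even5 v} = 16 := by
  rw [Nat.card_eq_fintype_card]
  decide

theorem pair_move : Even5 (pairVec 0 4) ∧ pairVec 0 4 + act z0 (pairVec 0 4) = pairVec 0 1 := by decide

namespace FrFive

variable {H K M Q T W : Subgroup G} (R : FrFive H K M Q T W)
include R

theorem W_le_K : W ≤ K := R.mdl.toCore.le_K

theorem K_le_M : K ≤ M := R.hyp.K_le.trans R.hyp.H_le_M

theorem T_le_M : T ≤ M := R.hyp.T_le.trans R.hyp.H_le_M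

theorem W_le_T : W ≤ T := R.hyp.W_le_T R.mdl

theorem M_W : M ≤ normalizer (W : Set G) := R.hyp.M_norm_W R.mdl

theorem π_one : R.π 1 = 1 := by
  have h := R.π_mul 1 M.one_mem 1 M.one_mem
  rw [mul_one] at h
  exact mul_eq_left.mp h.symm

theorem π_inv {a : G} (ha : a ∈ M) : R.π a⁻¹ = (R.π a)⁻¹ := eq_inv_of_mul_eq_one_left (by
  rw [← R.π_mul _ (inv_mem ha) a ha, inv_mul_cancel, R.π_one])

theorem π_conj {a b : G} (ha : a ∈ M) (hb : b ∈ M) : R.π (a * b * a⁻¹) = R.π a * R.π b * (R.π a)⁻¹ := by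
  rw [R.π_mul _ (mul_mem ha hb) _ (inv_mem ha), R.π_mul a ha b hb, R.π_inv ha]

theorem co_one : R.co 1 = 0 := (R.co_ker 1 W.one_mem).mpr (one_mem _)

theorem co_comm {m a : G} (hm : m ∈ M) (ha : a ∈ W) (hc : m * a = a * m) : act (R.π m) (R.co a) = R.co a := by
  rw [← R.co_act m hm a ha, hc, mul_inv_cancel_right]

theorem π_ext {σ τ : Equiv.Perm (Fin 5)} (h : ∀ a ∈ W, act σ (R.co a) = act τ (R.co a)) : σ = τ :=
  Equiv.ext fun i => Five.co1_facts.2.1 _ _ (by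
    obtain ⟨a, ha, hai⟩ := R.co_surj (co1 i) (Five.co1_facts.1 i)
    rw [← act_co1, ← act_co1, ← hai]
    exact h a ha)

theorem π_Q {q : G} (hq : q ∈ Q) : R.π q = 1 := R.π_ext fun a ha => by
  rw [act_one]
  exact R.co_comm (R.hyp.H_le_M (R.hyp.Q_le_H hq)) ha (mem_centralizer_iff.mp (R.hyp.Q_cent R.mdl hq) a ha).symm

theorem π_W {w : G} (hw : w ∈ W) : R.π w = 1 := R.π_Q (R.hyp.W_le_Q R.mdl hw)

/-- A 2-element acting trivially lies in `Q`. -/
theorem mem_Q_of_triv {m : G} (hm : m ∈ M) (h2 : IsPGroup 2 (zpowers m)) (hn : m ∈ normalizer (Q : Set G))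
    (h1 : R.π m = 1) : m ∈ Q := by
  let X : Subgroup G :=
    { carrier := {s | s ∈ M ∧ R.π s = 1}
      one_mem' := ⟨M.one_mem, R.π_one⟩
      mul_mem' := fun {a b} ha hb => ⟨M.mul_mem ha.1 hb.1, by rw [R.π_mul a ha.1 b hb.1, ha.2, hb.2, one_mul]⟩
      inv_mem' := fun {a} ha => ⟨M.inv_mem ha.1, by rw [R.π_inv ha.1, ha.2, inv_one]⟩ }
  have hX : zpowers m ≤ X := zpowers_le.mpr (show m ∈ X from ⟨hm, h1⟩)
  refine R.hyp.mem_Q h2 (zpowers_le.mpr hm) (zpowers_le.mpr hn) (fun s hs k hk => ?_) (mem_zpowers m)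
  obtain ⟨hsM, hs1⟩ := hX hs
  rw [← R.mdl.eq]
  have hsk : s * k * s⁻¹ ∈ K := conj_mem R.hyp.M_norm hsM hk
  refine (R.π_ker _ (K.mul_mem hsk (K.inv_mem hk))).mp ?_
  rw [R.π_mul _ (R.K_le_M hsk) _ (inv_mem (R.K_le_M hk)), R.π_conj hsM (R.K_le_M hk), hs1, one_mul, inv_one, mul_one,
    R.π_inv (R.K_le_M hk), mul_inv_cancel]

theorem T_ker {t : G} (ht : t ∈ T) (h1 : R.π t = 1) : t ∈ Q :=
  R.mem_Q_of_triv (R.T_le_M ht) (R.hyp.T_p.to_le (zpowers_le.mpr ht)) (R.hyp.T_le.trans R.hyp.Q_norm ht) h1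

/-- The action of `T`. -/
def tHom : ↥T →* Equiv.Perm (Fin 5) :=
  MonoidHom.mk' (fun t => R.π t) fun a b => R.π_mul _ (R.T_le_M a.2) _ (R.T_le_M b.2)

/-- The image of a subgroup of `T`. -/
def img {A : Subgroup G} (hA : A ≤ T) : Subgroup (Equiv.Perm (Fin 5)) := (R.tHom.comp (Subgroup.inclusion hA)).range

theorem mem_img {A : Subgroup G} (hA : A ≤ T) {σ : Equiv.Perm (Fin 5)} : σ ∈ R.img hA ↔ ∃ a ∈ A, R.π a = σ := by
  constructor
  · rintro ⟨a, rfl⟩; exact ⟨a, a.2, rfl⟩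
  · rintro ⟨a, ha, rfl⟩; exact ⟨⟨a, ha⟩, rfl⟩

theorem card_img {A : Subgroup G} (hA : A ≤ T) : Nat.card (R.img hA) = Q.relIndex A := by
  rw [img, ← Subgroup.index_ker]
  congr 1
  ext a
  rw [MonoidHom.mem_ker, mem_subgroupOf]
  exact ⟨fun h => R.T_ker (hA a.2) h, fun h => R.π_Q h⟩

theorem img_props {A : Subgroup G} (hA : A ≤ T) (h2 : ∀ a ∈ A, a * a = 1) {σ : Equiv.Perm (Fin 5)}
    (hσ : σ ∈ R.img hA) : σ * z0 = z0 * σ ∧ σ * σ = 1 := by
  obtain ⟨a, ha, rfl⟩ := (R.mem_img hA).mp hσ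
  exact ⟨R.πT a (hA ha), by
    rw [← R.π_mul a (R.T_le_M (hA ha)) a (R.T_le_M (hA ha)), h2 a ha, R.π_one]⟩

theorem img_comm {A : Subgroup G} (hA : A ≤ T) (h2 : ∀ a ∈ A, a * a = 1) {σ τ : Equiv.Perm (Fin 5)}
    (hσ : σ ∈ R.img hA) (hτ : τ ∈ R.img hA) : σ * τ = τ * σ :=
  comm_of_exp (fun c hc => (R.img_props hA h2 hc).2) hσ hτ

theorem card_img_le {A : Subgroup G} (hA : A ≤ T) (h2 : ∀ a ∈ A, a * a = 1) : Q.relIndex A ≤ 4 := by
  rw [← R.card_img hA]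
  obtain ⟨D, hD⟩ : ∃ D : Subgroup (Equiv.Perm (Fin 5)), D = centralizer ({z0} : Set (Equiv.Perm (Fin 5))) := ⟨_, rfl⟩
  have hmem : ∀ σ, σ ∈ D ↔ σ * z0 = z0 * σ := fun σ => by rw [hD, mem_centralizer_singleton_iff]
  have h8 : Nat.card D = 8 := (Nat.card_congr (Equiv.subtypeEquivRight hmem)).trans Five.card_cent
  have hle : R.img hA ≤ D := fun σ hσ => (hmem σ).mpr (R.img_props hA h2 hσ).1
  obtain ⟨k, hk⟩ := card_dvd_of_le hle
  rw [h8] at hk
  by_contra hgt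
  obtain ⟨σ, h1, h1'⟩ := Five.not_elem
  refine h1' (R.img_props hA h2 ?_).2
  rw [eq_of_le_of_card_ge hle (by
    rw [h8]
    rcases k with _ | _ | k
    · omega
    · omega
    · rw [hk]; nlinarith)]
  exact (hmem σ).mpr h1

theorem conj_T {y : G} (hy : y ∈ normalizer (T : Set G)) : cjS y W ≤ T :=
  (cjS_mono R.W_le_T).trans (cjS_eq_iff.mpr hy).le

theorem conj_exp (y : G) : ∀ a ∈ cjS y W, a * a = 1 := fun a ha => by
  have h := R.mdl.exp _ (mem_cjS.mp ha)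
  calc a * a = y * (y⁻¹ * a * y * (y⁻¹ * a * y)) * y⁻¹ := by group
    _ = 1 := by rw [h]; group

/-- Counting coordinates on a subgroup of `W`. -/
theorem card_le_co {X : Subgroup G} (hX : X ≤ W) {p : (Fin 5 → ZMod 2) → Prop}
    (hp : ∀ x ∈ X, p (R.co x)) :
    Nat.card X ≤ Nat.card ↥(W ⊓ centralizer (K : Set G)) * Nat.card {v : Fin 5 → ZMod 2 // Even5 v ∧ p v} := by
  rw [← Nat.card_prod]
  choose! l hl hlc using R.co_surj
  refine Nat.card_le_card_of_injective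
    (fun x : ↥X => ((⟨(x : G) * l (R.co x), ?_⟩ : ↥(W ⊓ centralizer (K : Set G))),
      (⟨R.co x, R.co_even _ (hX x.2), hp x x.2⟩ : {v : Fin 5 → ZMod 2 // Even5 v ∧ p v}))) ?_
  · have he := R.co_even _ (hX x.2)
    refine ⟨W.mul_mem (hX x.2) (hl _ he), (R.co_ker _ (W.mul_mem (hX x.2) (hl _ he))).mp ?_⟩
    rw [R.co_mul _ (hX x.2) _ (hl _ he), hlc _ he, ZModModule.add_self]
  · intro a b e
    obtain ⟨e1, e2⟩ := Prod.mk.inj e
    have e1' : (a : G) * l (R.co a) = (b : G) * l (R.co b) := congrArg Subtype.val e1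
    rw [show R.co (a : G) = R.co b from congrArg Subtype.val e2] at e1'
    exact Subtype.ext (mul_right_cancel e1')

theorem card_W : Nat.card W = Nat.card ↥(W ⊓ centralizer (K : Set G)) * 16 := by
  choose! l hl hlc using R.co_surj
  rw [← card_even_five, ← Nat.card_prod]
  refine (Nat.card_congr (Equiv.ofBijective (fun p : ↥(W ⊓ centralizer (K : Set G)) × {v : Fin 5 → ZMod 2 // Even5 v} =>
    (⟨(p.1 : G) * l p.2, W.mul_mem p.1.2.1 (hl _ p.2.2)⟩ : ↥W)) ⟨?_, ?_⟩)).symm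
  · rintro ⟨⟨a, ha⟩, ⟨v, hv⟩⟩ ⟨⟨b, hb⟩, ⟨w, hw⟩⟩ e
    have e' : a * l v = b * l w := congrArg Subtype.val e
    have h := congrArg R.co e'
    rw [R.co_mul a ha.1 _ (hl v hv), R.co_mul b hb.1 _ (hl w hw), (R.co_ker a ha.1).mpr ha.2,
      (R.co_ker b hb.1).mpr hb.2, zero_add, zero_add, hlc v hv, hlc w hw] at h
    subst h
    obtain rfl := mul_right_cancel e'
    rfl
  · rintro ⟨x, hx⟩
    have he := R.co_even x hx
    refine ⟨(⟨x * l (R.co x), W.mul_mem hx (hl _ he), (R.co_ker _ (W.mul_mem hx (hl _ he))).mp ?_⟩,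
      ⟨R.co x, he⟩), Subtype.ext ?_⟩
    · rw [R.co_mul _ hx _ (hl _ he), hlc _ he, ZModModule.add_self]
    · show x * l (R.co x) * l (R.co x) = x
      rw [mul_assoc, R.mdl.exp _ (hl _ he), mul_one]

/-- The index of the fixed points of one conjugate is the order of the action of the other. -/
theorem bound {y : G} (hy : y ∈ normalizer (T : Set G)) {p : (Fin 5 → ZMod 2) → Prop}
    (hp : ∀ x ∈ W, (∀ a ∈ cjS y W, a * x = x * a) → p (R.co x)) :
    16 ≤ Q.relIndex (cjS y⁻¹ W) * Nat.card {v : Fin 5 → ZMod 2 // Even5 v ∧ p v} := by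
  have h1 := card_eq_relIndex_mul Q (cjS y⁻¹ W)
  have h2 : Nat.card ↥(cjS y⁻¹ W ⊓ Q) = Nat.card ↥(W ⊓ cjS y Q) := by
    rw [← card_cjS y (cjS y⁻¹ W ⊓ Q), cjS_inf, cjS_cancel']
  have h3 := R.card_le_co (X := W ⊓ cjS y Q) inf_le_left (p := p) fun x hx => hp x hx.1 fun a ha => by
    have hc := mem_centralizer_iff.mp (R.hyp.Q_cent R.mdl (mem_cjS.mp hx.2)) _ (mem_cjS.mp ha)
    calc a * x = y * (y⁻¹ * a * y * (y⁻¹ * x * y)) * y⁻¹ := by group
      _ = y * (y⁻¹ * x * y * (y⁻¹ * a * y)) * y⁻¹ := by rw [hc]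
      _ = x * a := by group
  rw [card_cjS, h2, R.card_W] at h1
  have h4 := Nat.mul_le_mul_left (Q.relIndex (cjS y⁻¹ W)) h3
  rw [← h1] at h4
  have hz : 0 < Nat.card ↥(W ⊓ centralizer (K : Set G)) := Nat.card_pos
  refine Nat.le_of_mul_le_mul_left (le_trans h4 (le_of_eq ?_)) hz
  ring

theorem inf_rel_odd : Odd ((T ⊓ K).relIndex K) := by
  haveI : Fact (Nat.Prime 2) := ⟨Nat.prime_two⟩
  obtain ⟨P, hP⟩ := R.hyp.exists_sylow_K
  rw [inf_relIndex_right]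
  show Odd (T.subgroupOf K).index
  rw [← hP]
  exact Nat.not_even_iff_odd.mp fun h => P.not_dvd_index h.two_dvd

/-- The even part of the centralizer of `z0` is induced by `T ∩ K`. -/
theorem inner_lift {σ : Equiv.Perm (Fin 5)} (hσ : σ * z0 = z0 * σ) (hsg : Equiv.Perm.sign σ = 1) :
    ∃ k ∈ T ⊓ K, R.π k = σ := by
  haveI : Fact (Nat.Prime 2) := ⟨Nat.prime_two⟩
  let φ : ↥K →* alternatingGroup (Fin 5) := MonoidHom.mk'
    (fun k => ⟨R.π k, Equiv.Perm.mem_alternatingGroup.mpr (R.π_sign k k.2)⟩)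
    fun a b => Subtype.ext (R.π_mul _ (R.K_le_M a.2) _ (R.K_le_M b.2))
  have hφ : Function.Surjective φ := fun τ => by
    obtain ⟨k, hk, e⟩ := R.π_surj τ (Equiv.Perm.mem_alternatingGroup.mp τ.2)
    exact ⟨⟨k, hk⟩, Subtype.ext e⟩
  obtain ⟨P, hP⟩ := R.hyp.exists_sylow_K
  obtain ⟨I, hI⟩ : ∃ I, I = ((P.mapSurjective hφ : Sylow 2 _) : Subgroup (alternatingGroup (Fin 5))).map
      (alternatingGroup (Fin 5)).subtype := ⟨_, rfl⟩
  have hmemI : ∀ τ ∈ I, ∃ k ∈ T ⊓ K, R.π k = τ := by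
    intro τ hτ
    rw [hI] at hτ
    obtain ⟨_, ⟨k, hk, rfl⟩, rfl⟩ := hτ
    rw [hP] at hk
    exact ⟨k, ⟨hk, k.2⟩, rfl⟩
  obtain ⟨V, hV⟩ : ∃ V : Subgroup (Equiv.Perm (Fin 5)),
      V = centralizer ({z0} : Set (Equiv.Perm (Fin 5))) ⊓ alternatingGroup (Fin 5) := ⟨_, rfl⟩
  have hVmem : ∀ τ, τ ∈ V ↔ τ * z0 = z0 * τ ∧ Equiv.Perm.sign τ = 1 := fun τ => by
    rw [hV, mem_inf, mem_centralizer_singleton_iff, Equiv.Perm.mem_alternatingGroup]
  have h4 : Nat.card V = 4 := (Nat.card_congr (Equiv.subtypeEquivRight hVmem)).trans Five.card_cent_even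
  have hle : I ≤ V := fun τ hτ => by
    obtain ⟨k, hk, rfl⟩ := hmemI τ hτ
    exact (hVmem _).mpr ⟨R.πT k hk.1, R.π_sign k hk.2⟩
  have hcard : 4 ≤ Nat.card I := by
    have h60 : Nat.card (alternatingGroup (Fin 5)) = 60 := by rw [Nat.card_eq_fintype_card]; decide
    have h1 := ((P.mapSurjective hφ : Sylow 2 _) : Subgroup (alternatingGroup (Fin 5))).card_mul_index
    have h2 := (P.mapSurjective hφ).not_dvd_index
    have h3 : Nat.card I ≤ 4 := h4 ▸ card_le_of_le hle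
    have hpos : 0 < Nat.card I := Nat.card_pos
    rw [h60, ← card_map_of_injective (alternatingGroup (Fin 5)).subtype_injective, ← hI] at h1
    interval_cases Nat.card I <;> omega
  exact hmemI σ (eq_of_le_of_card_ge hle (h4 ▸ hcard) ▸ (hVmem σ).mpr ⟨hσ, hsg⟩)

/-- The conjugate module acts as the Klein group generated by two transpositions. -/
theorem outer : ∃ s ∈ cjS R.g W, R.π s = s01 ∧ ∃ a ∈ cjS R.g W, R.π a = z0 ∧
    ∀ c ∈ cjS R.g W, R.π c = 1 ∨ R.π c = z0 ∨ R.π c = s01 ∨ R.π c = s01 * z0 := by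
  have hA := R.conj_T R.gT
  have h2 := R.conj_exp R.g
  obtain ⟨hz1, hzz, ht1, htt, htz, -, -, htc, hts, hzs, hss⟩ := Five.facts
  obtain ⟨kt, hkt, hktσ⟩ := R.inner_lift htc hts
  have hAn : T ≤ normalizer (cjS R.g W : Set G) := by
    rw [normalizer_cjS]
    exact (cjS_eq_iff.mpr R.gT).ge.trans (cjS_mono (R.T_le_M.trans R.M_W))
  have htconj : ∀ σ ∈ R.img hA, t1 * σ * t1 ∈ R.img hA := fun σ hσ => by
    obtain ⟨a, ha, rfl⟩ := (R.mem_img hA).mp hσ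
    refine (R.mem_img hA).mpr ⟨kt * a * kt⁻¹, conj_mem hAn hkt.1 ha, ?_⟩
    rw [R.π_conj (R.T_le_M hkt.1) (R.T_le_M (hA ha)), hktσ, inv_eq_of_mul_eq_one_left htt]
  by_cases hodd : ∃ σ ∈ R.img hA, Equiv.Perm.sign σ ≠ 1
  · obtain ⟨σ, hσ, hsg⟩ := hodd
    have hs : s01 ∈ R.img hA := by
      obtain ⟨h1, h1'⟩ := R.img_props hA h2 hσ
      rcases Five.odd_invol σ h1 h1' hsg with e | e
      · exact e ▸ hσ
      · exact e ▸ htconj σ hσ
    have hz : z0 ∈ R.img hA := Five.s01_conj ▸ mul_mem hs (htconj _ hs)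
    obtain ⟨s, hsA, hsσ⟩ := (R.mem_img hA).mp hs
    obtain ⟨a, haA, haσ⟩ := (R.mem_img hA).mp hz
    refine ⟨s, hsA, hsσ, a, haA, haσ, fun c hc => ?_⟩
    have hcI := (R.mem_img hA).mpr ⟨c, hc, rfl⟩
    exact Five.cent_s01 _ (R.img_props hA h2 hcI).1 (R.img_props hA h2 hcI).2 (R.img_comm hA h2 hcI hs)
  exfalso
  push Not at hodd
  -- three elements of an image give the central involution
  have hthree : ∀ {B : Subgroup G} (hB : B ≤ T), (∀ b ∈ B, b * b = 1) → 3 ≤ Q.relIndex B → z0 ∈ R.img hB := by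
    intro B hB hB2 h3
    rw [← R.card_img hB] at h3
    obtain ⟨σ, hσ, hσ1⟩ := (bot_or_exists_ne_one (R.img hB)).resolve_left fun e => by
      rw [e, card_bot] at h3; omega
    obtain ⟨τ, hτ, hτ1⟩ : ∃ τ ∈ R.img hB, τ ∉ zpowers σ := SetLike.not_le_iff_exists.mp fun hle => by
      have h1 := (card_le_of_le hle).trans (le_of_eq (Nat.card_zpowers σ))
      have h4 : orderOf σ ≤ 2 := orderOf_le_of_pow_eq_one (by norm_num) (by
        rw [pow_two]; exact (R.img_props hB hB2 hσ).2)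
      omega
    rcases Five.has_z0 σ (R.img_props hB hB2 hσ).1 τ (R.img_props hB hB2 hτ).1 (R.img_props hB hB2 hσ).2
      (R.img_props hB hB2 hτ).2 (R.img_comm hB hB2 hσ hτ) hσ1 (fun e => hτ1 (e ▸ one_mem _))
      (fun e => hτ1 (e ▸ mem_zpowers σ)) with e | e | e
    · exact e ▸ hσ
    · exact e ▸ hτ
    · exact e ▸ mul_mem hσ hτ
  have hfixof : ∀ {y : G}, cjS y W ≤ T → ∀ σ, (∃ a ∈ cjS y W, R.π a = σ) → ∀ x ∈ W,
      (∀ a ∈ cjS y W, a * x = x * a) → act σ (R.co x) = R.co x := by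
    rintro y hy σ ⟨a, ha, rfl⟩ x hx hc
    exact R.co_comm (R.T_le_M (hy ha)) hx (hc a ha)
  obtain ⟨c, hc, hcQ⟩ := SetLike.not_le_iff_exists.mp (R.hyp.W'_not R.mdl R.gT R.gM)
  have hc1 : R.π c ≠ 1 := fun e => hcQ (R.T_ker (hA hc) e)
  have hcI := (R.mem_img hA).mpr ⟨c, hc, rfl⟩
  have b1 := R.bound R.gT (p := fun v => act (R.π c) v = v) (hfixof hA _ ⟨c, hc, rfl⟩)
  have hf1 : Nat.card {v : Fin 5 → ZMod 2 // Even5 v ∧ act (R.π c) v = v} ≤ 4 := by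
    rw [Nat.card_eq_fintype_card]
    exact Five.fix_inner _ (R.img_props hA h2 hcI).1 (hodd _ hcI) hc1
  have hA' := R.conj_T (inv_mem R.gT)
  have ha' := R.card_img_le hA' (R.conj_exp R.g⁻¹)
  have hb4 : Q.relIndex (cjS R.g⁻¹ W) = 4 := by
    have := Nat.mul_le_mul_left (Q.relIndex (cjS R.g⁻¹ W)) hf1
    omega
  have hz' := (R.mem_img hA').mp (hthree hA' (R.conj_exp R.g⁻¹) (by omega))
  have b2 := R.bound (inv_mem R.gT) (p := fun v => act z0 v = v) (hfixof hA' _ hz')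
  rw [inv_inv] at b2
  have ha := R.card_img_le hA h2
  have hf2 := Five.fix_z0
  have ha4 : Q.relIndex (cjS R.g W) = 4 := by
    have := Nat.mul_le_mul_left (Q.relIndex (cjS R.g W)) hf2
    omega
  -- all four even elements are induced
  obtain ⟨V, hV⟩ : ∃ V : Subgroup (Equiv.Perm (Fin 5)),
      V = centralizer ({z0} : Set (Equiv.Perm (Fin 5))) ⊓ alternatingGroup (Fin 5) := ⟨_, rfl⟩
  have hVmem : ∀ τ, τ ∈ V ↔ τ * z0 = z0 * τ ∧ Equiv.Perm.sign τ = 1 := fun τ => by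
    rw [hV, mem_inf, mem_centralizer_singleton_iff, Equiv.Perm.mem_alternatingGroup]
  have h4 : Nat.card V = 4 := (Nat.card_congr (Equiv.subtypeEquivRight hVmem)).trans Five.card_cent_even
  have heq : R.img hA = V := eq_of_le_of_card_ge (fun σ hσ => (hVmem σ).mpr ⟨(R.img_props hA h2 hσ).1, hodd σ hσ⟩)
    (by rw [h4, R.card_img hA, ha4])
  have hz := (R.mem_img hA).mp (heq ▸ (hVmem z0).mpr ⟨rfl, hzs⟩)
  have ht := (R.mem_img hA).mp (heq ▸ (hVmem t1).mpr ⟨htc, hts⟩)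
  have b3 := R.bound R.gT (p := fun v => act z0 v = v ∧ act t1 v = v)
    fun x hx hcx => ⟨hfixof hA _ hz x hx hcx, hfixof hA _ ht x hx hcx⟩
  have := Five.fix_klein
  rw [hb4] at b3
  omega

/-- `K` has no fixed point in `Q`. -/
theorem C_bot : Q ⊓ centralizer (K : Set G) = ⊥ := by
  haveI : Fact (Nat.Prime 2) := ⟨Nat.prime_two⟩
  by_contra hne
  obtain ⟨C, hC⟩ : ∃ C, C = Q ⊓ centralizer (K : Set G) := ⟨_, rfl⟩
  rw [← hC] at hne
  have hTH := R.hyp.T_le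
  have hCn : H ≤ normalizer (C : Set G) := hC ▸ norm_inf R.hyp.Q_norm (norm_cent R.hyp.norm_K)
  have hCT : C ≤ T := hC ▸ inf_le_left.trans R.hyp.Q_le_T
  haveI : Group.IsNilpotent ↥T := R.hyp.T_p.isNilpotent
  haveI : (C.subgroupOf T).Normal := normal_subgroupOf_of_le_normalizer (hTH.trans hCn)
  obtain ⟨u, hu, hu1⟩ := (bot_or_exists_ne_one _).resolve_left
    (Grp.inf_center_ne_bot (C.subgroupOf T) fun e => hne ((subgroupOf_eq_bot.mp e).eq_bot_of_le hCT))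
  have hne2 : C ⊓ centralizer (T : Set G) ≠ ⊥ := fun e => hu1 (Subtype.ext (mem_bot.mp (e.le
    ⟨mem_subgroupOf.mp hu.1, mem_centralizer_iff.mpr fun t ht =>
      congrArg Subtype.val (mem_center_iff.mp hu.2 ⟨t, ht⟩)⟩)))
  obtain ⟨z, ⟨hzC, hzT⟩, hz1, hz2⟩ := exists_invol ((R.hyp.T_p.to_le hCT).to_le inf_le_left) hne2
  have hzT' : ∀ t ∈ T, t * z = z * t := fun t ht => mem_centralizer_iff.mp hzT t ht
  have hzK : ∀ k ∈ K, k * z = z * k := fun k hk => mem_centralizer_iff.mp (hC.le hzC).2 k hk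
  have hfix : ∀ y : G, y * z = z * y → y ∈ normalizer (zpowers z : Set G) := fun y hy => mem_norm fun w hw => by
    obtain ⟨i, rfl⟩ := mem_zpowers_iff.mp hw
    rw [(show Commute y (z ^ i) from Commute.zpow_right hy i).eq, mul_inv_cancel_right]
    exact zpow_mem (mem_zpowers z) i
  have hCz : ∀ y : G, y * z = z * y → y ∈ M := fun y hy =>
    R.hyp.le_M (zpowers_invol hz2) (fun e => hz1 (zpowers_eq_bot.mp e))
      (R.hyp.sup.trans (sup_le (fun k hk => hfix k (hzK k hk)) fun t ht => hfix t (hzT' t ht))) (hfix y hy)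
  -- the conjugate of `z`
  obtain ⟨z', hz'⟩ : ∃ z', z' = R.g * z * R.g⁻¹ := ⟨_, rfl⟩
  have hz'T : z' ∈ T := hz' ▸ (mem_normalizer_iff.mp R.gT z).mp (hCT hzC)
  have hz'c : ∀ t ∈ T, t * z' = z' * t := fun t ht => by
    have h0 : R.g⁻¹ * t * R.g ∈ T := by
      have := (mem_normalizer_iff.mp (inv_mem R.gT) t).mp ht
      rwa [inv_inv] at this
    rw [hz']
    calc t * (R.g * z * R.g⁻¹) = R.g * (R.g⁻¹ * t * R.g * z) * R.g⁻¹ := by group
      _ = R.g * (z * (R.g⁻¹ * t * R.g)) * R.g⁻¹ := by rw [hzT' _ h0]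
      _ = R.g * z * R.g⁻¹ * t := by group
  have hz'Q : z' ∈ Q := (R.hyp.T_cent R.mdl).le
    ⟨hz'T, mem_centralizer_iff.mpr fun w hw => hz'c w (R.W_le_T hw)⟩
  obtain ⟨w, hw, hwc⟩ := exists_inner R.mdl.toCore R.inf_rel_odd
    (fun k hk => R.hyp.Q_move' R.mdl hz'Q hk) (fun x hx => (hz'c x hx.1).symm)
  have hww : w * (w * z') = z' := by rw [← mul_assoc, R.mdl.exp w hw, one_mul]
  have hiff : ∀ k ∈ K, k * w = w * k → k * z' = z' * k := fun k hk h => by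
    have h1 := mem_centralizer_iff.mp hwc k hk
    calc k * z' = k * w * (w * z') := by rw [mul_assoc, hww]
      _ = w * (k * (w * z')) := by rw [h, mul_assoc]
      _ = w * (w * z' * k) := by rw [h1]
      _ = z' * k := by rw [← mul_assoc, hww]
  have hcomm : ∀ k ∈ T ⊓ K, k * w = w * k := fun k hk => by
    have h1 := mem_centralizer_iff.mp hwc k hk.2
    refine mul_right_cancel (b := z') ?_
    calc k * w * z' = k * (w * z') := mul_assoc _ _ _
      _ = w * z' * k := h1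
      _ = w * (k * z') := by rw [mul_assoc, hz'c k hk.1]
      _ = w * k * z' := (mul_assoc _ _ _).symm
  obtain ⟨-, -, -, -, -, -, -, htc, hts, hzs, -⟩ := Five.facts
  obtain ⟨kz, hkz, hkzσ⟩ := R.inner_lift (σ := z0) rfl hzs
  obtain ⟨kt, hkt, hktσ⟩ := R.inner_lift htc hts
  have hv : act c3 (R.co w) = R.co w := Five.fix_c3 _ (R.co_even w hw)
    (by rw [← hkzσ]; exact R.co_comm (R.T_le_M hkz.1) hw (hcomm kz hkz))
    (by rw [← hktσ]; exact R.co_comm (R.T_le_M hkt.1) hw (hcomm kt hkt))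
  obtain ⟨hc3, hcs, n1, n2, n3, n4⟩ := Five.c3_facts
  obtain ⟨k, hk, hkσ⟩ := R.π_surj c3 hcs
  have hkM := R.K_le_M hk
  -- the lift fixes `w`
  obtain ⟨e, he⟩ : ∃ e, e = k * w * k⁻¹ * w⁻¹ := ⟨_, rfl⟩
  have hkw : k * w * k⁻¹ ∈ W := conj_mem R.mdl.norm hk hw
  have heW : e ∈ W := he ▸ W.mul_mem hkw (W.inv_mem hw)
  have hec : e ∈ centralizer (K : Set G) := (R.co_ker e heW).mp (by
    rw [he, R.co_mul _ hkw _ (W.inv_mem hw), R.mdl.inv_eq hw, R.co_act k hkM w hw, hkσ, hv, ZModModule.add_self])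
  have h1 : k * w * k⁻¹ = e * w := by rw [he, inv_mul_cancel_right]
  have hke : k * e * k⁻¹ = e := by rw [mem_centralizer_iff.mp hec k hk, mul_inv_cancel_right]
  have hk3 : k * k * k ∈ W := (R.π_ker _ (K.mul_mem (K.mul_mem hk hk) hk)).mp (by
    rw [R.π_mul _ (mul_mem hkM hkM) k hkM, R.π_mul k hkM k hkM, hkσ, hc3])
  have h3 : e * e * e * w = w := by
    calc e * e * e * w = (k * e * k⁻¹) * (k * e * k⁻¹) * (k * w * k⁻¹) := by rw [hke, h1]; group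
      _ = k * (e * e * w) * k⁻¹ := by group
      _ = k * ((k * e * k⁻¹) * (k * w * k⁻¹)) * k⁻¹ := by rw [hke, h1]; group
      _ = k * (k * (e * w) * k⁻¹) * k⁻¹ := by group
      _ = k * k * k * w * (k * k * k)⁻¹ := by rw [← h1]; group
      _ = w := by rw [R.mdl.comm _ hk3 w hw, mul_inv_cancel_right]
  have he1 : e = 1 := by
    rw [mul_eq_right, R.mdl.exp e heW, one_mul] at h3
    exact h3
  have hkw' : k * w = w * k := mul_inv_eq_iff_eq_mul.mp (by rw [h1, he1, one_mul])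
  have hkz' : k * z' = z' * k := hiff k hk hkw'
  have hkM' : R.g⁻¹ * k * R.g ∈ M := hCz _ (by
    calc R.g⁻¹ * k * R.g * z = R.g⁻¹ * (k * z') * R.g := by rw [hz']; group
      _ = R.g⁻¹ * (z' * k) * R.g := by rw [hkz']
      _ = z * (R.g⁻¹ * k * R.g) := by rw [hz']; group)
  obtain ⟨s, hs, hsσ, -, -, -, hall⟩ := R.outer
  have hksk : k * s * k⁻¹ ∈ cjS R.g W := by
    rw [mem_cjS]
    have := conj_mem R.M_W hkM' (mem_cjS.mp hs)
    convert this using 1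
    group
  have hsM := R.T_le_M (R.conj_T R.gT hs)
  have := hall _ hksk
  rw [R.π_conj hkM hsM, hkσ, hsσ] at this
  rcases this with e | e | e | e
  · exact n1 e
  · exact n2 e
  · exact n3 e
  · exact n4 e

theorem Z_bot : W ⊓ centralizer (K : Set G) = ⊥ :=
  le_bot_iff.mp ((inf_le_inf_right _ (R.hyp.W_le_Q R.mdl)).trans R.C_bot.le)

theorem co_inj {a b : G} (ha : a ∈ W) (hb : b ∈ W) (h : R.co a = R.co b) : a = b := by
  have h1 : a * b ∈ W ⊓ centralizer (K : Set G) := ⟨W.mul_mem ha hb, (R.co_ker _ (W.mul_mem ha hb)).mp (by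
    rw [R.co_mul a ha b hb, h, ZModModule.add_self])⟩
  rw [R.Z_bot, mem_bot] at h1
  rw [eq_inv_of_mul_eq_one_left h1, R.mdl.inv_eq hb]

theorem card_W' : Nat.card W = 16 := by rw [R.card_W, R.Z_bot, card_bot, one_mul]

theorem Q_eq : Q = W := by
  refine le_antisymm (fun q hq => ?_) (R.hyp.W_le_Q R.mdl)
  obtain ⟨hz1, hzz, ht1, htt, htz, -, -, htc, hts, hzs, -⟩ := Five.facts
  obtain ⟨ka, hka, hkaσ⟩ := R.inner_lift htc hts
  obtain ⟨kb, hkb, hkbσ⟩ := R.inner_lift (σ := z0) rfl hzs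
  have hKM := R.K_le_M
  obtain ⟨δ, hδ⟩ : ∃ δ : G → G, ∀ k, δ k = q * k * q⁻¹ * k⁻¹ := ⟨_, fun _ => rfl⟩
  have hδW : ∀ k ∈ K, δ k ∈ W := fun k hk => hδ k ▸ R.hyp.Q_move' R.mdl hq hk
  have hδmul : ∀ a ∈ K, ∀ b ∈ K, R.co (δ (a * b)) = R.co (δ a) + act (R.π a) (R.co (δ b)) := fun a ha b hb => by
    rw [← R.co_act a (hKM ha) _ (hδW b hb), ← R.co_mul _ (hδW a ha) _ (conj_mem R.mdl.norm ha (hδW b hb))]
    congr 1
    simp only [hδ]; group
  have hqW : ∀ x ∈ W, q * x = x * q := fun x hx =>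
    (mem_centralizer_iff.mp (R.hyp.Q_cent R.mdl hq) x hx).symm
  have hδ1 : ∀ x ∈ W, δ x = 1 := fun x hx => by rw [hδ, hqW x hx]; group
  have hsq : ∀ k ∈ K, R.π k * R.π k = 1 → act (R.π k) (R.co (δ k)) = R.co (δ k) := fun k hk h => by
    have hk2 : k * k ∈ W := (R.π_ker _ (K.mul_mem hk hk)).mp (by rw [R.π_mul k (hKM hk) k (hKM hk), h])
    have := hδmul k hk k hk
    rw [hδ1 _ hk2, R.co_one] at this
    exact (add_eq_zero_iff_eq_neg'.mp this.symm).trans (ZModModule.neg_eq_self _)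
  have hxfix : act t1 (R.co (δ ka)) = R.co (δ ka) := hkaσ ▸ hsq ka hka.2 (by rw [hkaσ, htt])
  have hyfix : act z0 (R.co (δ kb)) = R.co (δ kb) := hkbσ ▸ hsq kb hkb.2 (by rw [hkbσ, hzz])
  have hee : R.co (δ (ka * kb)) = R.co (δ (kb * ka)) := by
    obtain ⟨e, he⟩ : ∃ e, e = kb * ka * (ka * kb)⁻¹ := ⟨_, rfl⟩
    have hab := K.mul_mem hka.2 hkb.2
    have hba := K.mul_mem hkb.2 hka.2
    have heW : e ∈ W := he ▸ (R.π_ker _ (K.mul_mem hba (K.inv_mem hab))).mp (by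
      rw [R.π_mul _ (hKM hba) _ (inv_mem (hKM hab)), R.π_inv (hKM hab), R.π_mul _ (hKM hkb.2) _ (hKM hka.2),
        R.π_mul _ (hKM hka.2) _ (hKM hkb.2), hkaσ, hkbσ, ← htc, mul_inv_cancel])
    rw [show kb * ka = e * (ka * kb) by rw [he, inv_mul_cancel_right],
      hδmul e (R.W_le_K heW) _ hab, hδ1 e heW, R.co_one, R.π_W heW, act_one, zero_add]
  rw [hδmul ka hka.2 kb hkb.2, hδmul kb hkb.2 ka hka.2, hkaσ, hkbσ] at hee
  obtain ⟨v, hv, hvx, hvy⟩ := Five.inner_deriv _ (R.co_even _ (hδW ka hka.2)) hxfix _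
    (R.co_even _ (hδW kb hkb.2)) hyfix hee
  obtain ⟨w, hw, hwv⟩ := R.co_surj v hv
  have hcomm : ∀ k ∈ K, R.co (δ k) = v + act (R.π k) v → w * q * k = k * (w * q) := fun k hk h => by
    have hkw : k * w * k⁻¹ = δ k * w := R.co_inj (conj_mem R.mdl.norm hk hw) (W.mul_mem (hδW k hk) hw) (by
      rw [R.co_act k (hKM hk) w hw, hwv, R.co_mul _ (hδW k hk) _ hw, h, hwv, add_comm v, add_assoc,
        ZModModule.add_self, add_zero])
    calc w * q * k = w * δ k * k * q := by rw [hδ]; group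
      _ = δ k * w * k * q := by rw [R.mdl.comm w hw _ (hδW k hk)]
      _ = k * (w * q) := by rw [← hkw]; group
  have hA := hcomm ka hka.2 (by rw [hkaσ, hvx])
  have hB := hcomm kb hkb.2 (by rw [hkbσ, hvy])
  obtain ⟨X, hX⟩ : ∃ X, X = centralizer ({w * q} : Set G) := ⟨_, rfl⟩
  have hXa : ka ∈ X := hX ▸ mem_cent.mpr hA.symm
  have hXb : kb ∈ X := hX ▸ mem_cent.mpr hB.symm
  have hXW : ∀ x ∈ W, x ∈ X := fun x hx => hX ▸ mem_cent.mpr (by
    rw [mul_assoc, hqW x hx, ← mul_assoc, ← mul_assoc, R.mdl.comm x hx w hw])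
  have hP : ∀ n ∈ T ⊓ K, n ∈ X := fun n hn => by
    have hm : ∀ k ∈ T ⊓ K, k ∈ X → R.π n = R.π k → n ∈ X := fun k hk hkX h => by
      have := X.mul_mem (hXW (n * k⁻¹) ((R.π_ker _ (K.mul_mem hn.2 (K.inv_mem hk.2))).mp (by
        rw [R.π_mul _ (hKM hn.2) _ (inv_mem (hKM hk.2)), R.π_inv (hKM hk.2), h, mul_inv_cancel]))) hkX
      rwa [inv_mul_cancel_right] at this
    rcases Five.even_list _ (R.πT n hn.1) (R.π_sign n hn.2) with e | e | e | e
    · exact hm 1 (one_mem _) (one_mem _) (by rw [e, R.π_one])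
    · exact hm kb hkb hXb (by rw [e, hkbσ])
    · exact hm ka hka hXa (by rw [e, hkaσ])
    · exact hm _ (mul_mem hka hkb) (mul_mem hXa hXb) (by
        rw [e, R.π_mul _ (hKM hka.2) _ (hKM hkb.2), hkaσ, hkbσ])
  have hwq : w * q ∈ Q := mul_mem (R.hyp.W_le_Q R.mdl hw) hq
  obtain ⟨w2, hw2, hc⟩ := exists_inner R.mdl.toCore R.inf_rel_odd (fun k hk => R.hyp.Q_move' R.mdl hwq hk)
    (fun x hx => (mem_cent.mp (hX.le (hP x hx))).symm)
  have h0 := mem_bot.mp (R.C_bot.le ⟨mul_mem (R.hyp.W_le_Q R.mdl hw2) hwq, hc⟩)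
  rw [show q = w⁻¹ * w2⁻¹ by rw [← mul_inv_rev, eq_comm, inv_eq_iff_mul_eq_one, mul_assoc, h0]]
  exact W.mul_mem (W.inv_mem hw) (W.inv_mem hw2)

end FrFive

end Cfsg.Agent.Invol.PushNorm
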