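import Cfsg.Agent.Lib.Invol.PushNorm.Perm

/-!
# Finite facts on five points
-/

set_option autoImplicit false
set_option maxRecDepth 100000

namespace Cfsg.Agent.Invol.PushNorm.Five

open Equiv

/-- The central involution of a Sylow 2-subgroup of `S₅`. -/
def z0 : Perm (Fin 5) := swap 0 1 * swap 2 3

/-- Another even involution of that subgroup. -/
def t1 : Perm (Fin 5) := swap 0 2 * swap 1 3

/-- An odd involution of that subgroup. -/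
def s01 : Perm (Fin 5) := swap 0 1

/-- A three-cycle fixing the last point. -/
def c3 : Perm (Fin 5) := swap 0 1 * swap 1 2

/-- The complement of a point. -/
def co1 (i : Fin 5) : Fin 5 → ZMod 2 := fun j => if j = i then 0 else 1

/-- The image of a vector. -/
def act (σ : Perm (Fin 5)) (v : Fin 5 → ZMod 2) : Fin 5 → ZMod 2 := fun i => v (σ⁻¹ i)

theorem card_cent : Nat.card {σ : Perm (Fin 5) // σ * z0 = z0 * σ} = 8 := by
  rw [Nat.card_eq_fintype_card]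
  decide +kernel

theorem card_cent_even : Nat.card {σ : Perm (Fin 5) // σ * z0 = z0 * σ ∧ Perm.sign σ = 1} = 4 := by
  rw [Nat.card_eq_fintype_card]
  decide +kernel

theorem even_list : ∀ σ : Perm (Fin 5), σ * z0 = z0 * σ → Perm.sign σ = 1 →
    σ = 1 ∨ σ = z0 ∨ σ = t1 ∨ σ = t1 * z0 := by
  decide +kernel

theorem odd_invol : ∀ σ : Perm (Fin 5), σ * z0 = z0 * σ → σ * σ = 1 → Perm.sign σ ≠ 1 →
    σ = s01 ∨ t1 * σ * t1 = s01 := by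
  decide +kernel

theorem cent_s01 : ∀ σ : Perm (Fin 5), σ * z0 = z0 * σ → σ * σ = 1 → σ * s01 = s01 * σ →
    σ = 1 ∨ σ = z0 ∨ σ = s01 ∨ σ = s01 * z0 := by
  decide +kernel

theorem s01_conj : s01 * (t1 * s01 * t1) = z0 := by decide +kernel

theorem facts : z0 ≠ 1 ∧ z0 * z0 = 1 ∧ t1 ≠ 1 ∧ t1 * t1 = 1 ∧ t1 ≠ z0 ∧ s01 ≠ z0 ∧ s01 ≠ 1 ∧ t1 * z0 = z0 * t1 ∧
    Perm.sign t1 = 1 ∧ Perm.sign z0 = 1 ∧ Perm.sign s01 ≠ 1 := by
  decide +kernel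

theorem has_z0 : ∀ σ : Perm (Fin 5), σ * z0 = z0 * σ → ∀ τ : Perm (Fin 5), τ * z0 = z0 * τ →
    σ * σ = 1 → τ * τ = 1 → σ * τ = τ * σ → σ ≠ 1 → τ ≠ 1 → σ ≠ τ → σ = z0 ∨ τ = z0 ∨ σ * τ = z0 := by
  decide +kernel

theorem not_elem : ∃ σ : Perm (Fin 5), σ * z0 = z0 * σ ∧ σ * σ ≠ 1 :=
  ⟨t1 * s01, by decide +kernel⟩

theorem normal_z0 : ∀ σ : Perm (Fin 5), σ * z0 = z0 * σ → σ * σ = 1 → σ ≠ 1 →
    σ = z0 ∨ σ * (t1 * σ * t1) = z0 ∨ σ * (s01 * σ * s01) = z0 := by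
  decide +kernel

theorem fix_pair : ∀ σ : Perm (Fin 5), σ * z0 = z0 * σ → σ * σ = 1 → act σ (pairVec 0 1) = pairVec 0 1 →
    σ = 1 ∨ σ = z0 ∨ σ = s01 ∨ σ = s01 * z0 := by
  decide +kernel

theorem c3_facts : c3 * c3 * c3 = 1 ∧ Perm.sign c3 = 1 ∧
    c3 * s01 * c3⁻¹ ≠ 1 ∧ c3 * s01 * c3⁻¹ ≠ z0 ∧ c3 * s01 * c3⁻¹ ≠ s01 ∧ c3 * s01 * c3⁻¹ ≠ s01 * z0 := by
  decide +kernel

theorem fix_z0 : Nat.card {v : Fin 5 → ZMod 2 // Even5 v ∧ act z0 v = v} ≤ 4 := by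
  rw [Nat.card_eq_fintype_card]
  decide +kernel

theorem fix_inner : ∀ σ : Perm (Fin 5), σ * z0 = z0 * σ → Perm.sign σ = 1 → σ ≠ 1 →
    Fintype.card {v : Fin 5 → ZMod 2 // Even5 v ∧ act σ v = v} ≤ 4 := by
  decide +kernel

theorem fix_klein : Nat.card {v : Fin 5 → ZMod 2 // Even5 v ∧ act z0 v = v ∧ act t1 v = v} ≤ 2 := by
  rw [Nat.card_eq_fintype_card]
  decide +kernel

theorem fix_any : ∀ σ : Perm (Fin 5), σ * z0 = z0 * σ → σ ≠ 1 →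
    Fintype.card {v : Fin 5 → ZMod 2 // Even5 v ∧ act σ v = v} ≤ 8 := by
  decide +kernel

theorem fix_c3 : ∀ v : Fin 5 → ZMod 2, Even5 v → act z0 v = v → act t1 v = v → act c3 v = v := by
  decide +kernel

theorem inner_deriv : ∀ x : Fin 5 → ZMod 2, Even5 x → act t1 x = x → ∀ y : Fin 5 → ZMod 2, Even5 y →
    act z0 y = y → x + act t1 y = y + act z0 x →
    ∃ v : Fin 5 → ZMod 2, Even5 v ∧ v + act t1 v = x ∧ v + act z0 v = y := by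
  decide +kernel

theorem co1_facts : (∀ i, Even5 (co1 i)) ∧ (∀ i j, co1 i = co1 j → i = j) ∧
    (∀ (v : Fin 5 → ZMod 2), Even5 v → v ≠ 0 → (∃ i, v = co1 i) ∨ ∃ p q : Fin 5, p ≠ q ∧ v = pairVec p q) := by
  refine ⟨?_, ?_, ?_⟩ <;> decide +kernel

theorem co1_span : ∀ (v : Fin 5 → ZMod 2), Even5 v → v = ∑ i, v i • co1 i := by
  decide +kernel

theorem two_fixed : ∀ σ : Perm (Fin 5), σ * σ = 1 → Perm.sign σ = 1 → σ ≠ 1 →
    ∀ p q : Fin 5, σ p = p → σ q = q → p = q := by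
  decide +kernel

theorem co1_stab : ∀ i : Fin 5, ∃ a b : Perm (Fin 5), a * a * a = 1 ∧ b * b * b = 1 ∧ Perm.sign a = 1 ∧
    Perm.sign b = 1 ∧ act a (co1 i) = co1 i ∧ act b (co1 i) = co1 i ∧ a * b * (a * b) = 1 ∧ a * b ≠ 1 := by
  intro i
  refine ⟨swap i 4 * (swap 0 1 * swap 1 2) * swap i 4, swap i 4 * (swap 0 1 * swap 1 3) * swap i 4, ?_⟩
  revert i
  decide +kernel

end Cfsg.Agent.Invol.PushNorm.Five
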