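import Mathlib
import Cfsg.Agent.Lib.Spor.SelfCentFourSection

/-!
# Sections of a group with a subgroup of index two embedded in two groups of order eight
-/

set_option autoImplicit false
set_option linter.unusedSectionVars false

namespace Cfsg.Agent.Invol.PushNorm

open Subgroup

/-- Elementary abelian sections of a nonabelian group of order eight have order at most four. -/
theorem sec_eight {D : Type*} [Group D] [Finite D] (h8 : Nat.card D = 8) (hna : ∃ a b : D, a * b ≠ b * a)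
    {H K : Subgroup D} (hKH : K ≤ H) (hc : ∀ a ∈ H, ∀ b ∈ H, a * b * a⁻¹ * b⁻¹ ∈ K) :
    Nat.card H ≤ 4 * Nat.card K := by
  obtain ⟨a, ha⟩ := H.card_subgroup_dvd_card
  rw [h8] at ha
  have hK : 0 < Nat.card K := Nat.card_pos
  rcases Nat.lt_or_ge a 2 with h1 | h1
  · have hH : Nat.card H = 8 := by
      have ha0 : a ≠ 0 := fun e => by simp [e] at ha
      obtain rfl : a = 1 := by omega
      omega
    have htop := eq_top_of_card_eq H (hH.trans h8.symm)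
    obtain ⟨x, y, hxy⟩ := hna
    have hmem := hc x (htop ▸ mem_top x) y (htop ▸ mem_top y)
    have h2 : 1 < Nat.card K := by
      rw [one_lt_card_iff_ne_bot]
      intro e
      rw [e, mem_bot, mul_inv_eq_one, mul_inv_eq_iff_eq_mul] at hmem
      exact hxy hmem
    omega
  · have : Nat.card H ≤ 4 := by
      have : Nat.card H * 2 ≤ Nat.card H * a := Nat.mul_le_mul_left _ h1
      omega
    omega

/-- Counting along a homomorphism. -/
theorem card_eq_map_mul {A B : Type*} [Group A] [Finite A] [Group B] (f : A →* B) (X : Subgroup A) :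
    Nat.card X = Nat.card (X.map f) * Nat.card ↥(X ⊓ f.ker) := by
  have h1 := (f.comp X.subtype).ker.card_mul_index
  rw [index_ker, MonoidHom.range_comp, range_subtype] at h1
  have h2 : Nat.card (f.comp X.subtype).ker = Nat.card ↥(X ⊓ f.ker) := by
    rw [← card_map_of_injective X.subtype_injective (K := (f.comp X.subtype).ker)]
    congr 2
    ext a
    constructor
    · rintro ⟨c, hc, rfl⟩; exact ⟨c.2, hc⟩
    · rintro ⟨h, hk⟩; exact ⟨⟨a, h⟩, hk, rfl⟩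
  rw [h2, mul_comm] at h1
  exact h1.symm

theorem map_sec {A B : Type*} [Group A] [Group B] (f : A →* B) {H K : Subgroup A}
    (hc : ∀ a ∈ H, ∀ b ∈ H, a * b * a⁻¹ * b⁻¹ ∈ K) :
    ∀ a ∈ H.map f, ∀ b ∈ H.map f, a * b * a⁻¹ * b⁻¹ ∈ K.map f := by
  rintro _ ⟨a, ha, rfl⟩ _ ⟨b, hb, rfl⟩
  exact ⟨_, hc a ha b hb, by simp⟩

/-- Small sections. -/
theorem smallSections_of_pair {S : Type*} [Group S] [Finite S] (Y0 : Subgroup S) {D D' : Type*}
    [Group D] [Group D'] [Finite D] [Finite D'] (h8 : Nat.card D = 8) (h8' : Nat.card D' = 8)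
    (hna : ∃ a b : D, a * b ≠ b * a) (hna' : ∃ a b : D', a * b ≠ b * a)
    (f : ↥Y0 →* D) (f' : ↥Y0 →* D') (hinj : f.ker ⊓ f'.ker = ⊥)
    (hidx : ∀ a b : S, a ∉ Y0 → b ∉ Y0 → a * b ∈ Y0)
    (hswap : ∀ h : S, h ∉ Y0 → ∀ x : ↥Y0, ∀ hx : h * (x : S) * h⁻¹ ∈ Y0,
      (f x = 1 → f' ⟨_, hx⟩ = 1) ∧ (f' x = 1 → f ⟨_, hx⟩ = 1)) :
    Spor.SelfCentFour.SmallSections S := by
  classical
  intro H K hKH hsq hcomm
  obtain ⟨Y, hY⟩ : ∃ Y, Y = H.subgroupOf Y0 := ⟨_, rfl⟩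
  obtain ⟨L, hL⟩ : ∃ L, L = K.subgroupOf Y0 := ⟨_, rfl⟩
  have hLY : L ≤ Y := hL ▸ hY ▸ fun x hx => hKH hx
  have hcY : ∀ a ∈ Y, ∀ b ∈ Y, a * b * a⁻¹ * b⁻¹ ∈ L := fun a ha b hb => by
    rw [hY, mem_subgroupOf] at ha hb
    rw [hL, mem_subgroupOf]
    exact hcomm _ ha _ hb
  have hsqY : ∀ a ∈ Y, a * a ∈ L := fun a ha => by
    rw [hY, mem_subgroupOf] at ha
    rw [hL, mem_subgroupOf]
    exact hsq _ ha
  obtain ⟨a1, ha1⟩ : ∃ a1, a1 = Nat.card (Y.map f) := ⟨_, rfl⟩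
  have b1 : Nat.card (Y.map f) ≤ 4 * Nat.card (L.map f) := sec_eight h8 hna (map_mono hLY) (map_sec f hcY)
  have b1' : Nat.card (Y.map f') ≤ 4 * Nat.card (L.map f') := sec_eight h8' hna' (map_mono hLY) (map_sec f' hcY)
  have hbot : ∀ X : Subgroup ↥Y0, (X ⊓ f.ker) ⊓ f'.ker = ⊥ := fun X => by rw [inf_assoc, hinj, inf_bot_eq]
  have hbot' : ∀ X : Subgroup ↥Y0, (X ⊓ f'.ker) ⊓ f.ker = ⊥ := fun X => by
    rw [inf_assoc, inf_comm f'.ker, hinj, inf_bot_eq]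
  have c2 : ∀ X : Subgroup ↥Y0, Nat.card ↥(X ⊓ f.ker) = Nat.card ((X ⊓ f.ker).map f') := fun X => by
    rw [card_eq_map_mul f' (X ⊓ f.ker), hbot X, card_bot, mul_one]
  have c2' : ∀ X : Subgroup ↥Y0, Nat.card ↥(X ⊓ f'.ker) = Nat.card ((X ⊓ f'.ker).map f) := fun X => by
    rw [card_eq_map_mul f (X ⊓ f'.ker), hbot' X, card_bot, mul_one]
  have hck : ∀ a ∈ Y ⊓ f.ker, ∀ b ∈ Y ⊓ f.ker, a * b * a⁻¹ * b⁻¹ ∈ L ⊓ f.ker := fun a ha b hb =>
    ⟨hcY a ha.1 b hb.1, f.ker.mul_mem (f.ker.mul_mem (f.ker.mul_mem ha.2 hb.2) (f.ker.inv_mem ha.2)) (f.ker.inv_mem hb.2)⟩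
  have b2 : Nat.card ↥(Y ⊓ f.ker) ≤ 4 * Nat.card ↥(L ⊓ f.ker) := by
    rw [c2, c2]
    exact sec_eight h8' hna' (map_mono (inf_le_inf_right _ hLY)) (map_sec f' hck)
  have hYL : Nat.card Y ≤ 16 * Nat.card L := by
    rw [card_eq_map_mul f Y, card_eq_map_mul f L]
    calc _ ≤ (4 * Nat.card (L.map f)) * (4 * Nat.card ↥(L ⊓ f.ker)) := Nat.mul_le_mul b1 b2
      _ = _ := by ring
  have hcard : ∀ X : Subgroup S, Nat.card (X.subgroupOf Y0) = Nat.card ↥(X ⊓ Y0) := fun X => by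
    rw [← card_map_of_injective Y0.subtype_injective (K := X.subgroupOf Y0), subgroupOf_map_subtype]
  have hsplit : ∀ X : Subgroup S, ∀ h ∈ X, h ∉ Y0 → Nat.card X = 2 * Nat.card ↥(X ⊓ Y0) := fun X h hh hhY => by
    have hi : (Y0.subgroupOf X).index = 2 := by
      rw [index_eq_two_iff]
      refine ⟨⟨h, hh⟩, fun b => ?_⟩
      by_cases hb : (b : S) ∈ Y0
      · refine Or.inr ⟨hb, fun hc => hhY ?_⟩
        have := Y0.mul_mem (Y0.inv_mem hb) (show (b : S) * h ∈ Y0 from hc)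
        rwa [inv_mul_cancel_left] at this
      · exact Or.inl ⟨hidx _ _ hb hhY, hb⟩
    have := (Y0.subgroupOf X).card_mul_index
    rw [hi, ← card_map_of_injective X.subtype_injective (K := Y0.subgroupOf X), subgroupOf_map_subtype, inf_comm,
      mul_comm] at this
    exact this.symm
  rw [hY, hL, hcard, hcard] at hYL
  by_cases hHY : H ≤ Y0
  · rw [inf_eq_left.mpr hHY, inf_eq_left.mpr (hKH.trans hHY)] at hYL
    exact hYL
  obtain ⟨h, hhH, hhY⟩ := SetLike.not_le_iff_exists.mp hHY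
  rw [hsplit H h hhH hhY]
  by_cases hKY : K ≤ Y0
  swap
  · obtain ⟨k, hkK, hkY⟩ := SetLike.not_le_iff_exists.mp hKY
    rw [hsplit K k hkK hkY]
    omega
  rw [inf_eq_left.mpr hKY] at hYL
  rw [← hcard, ← hY]
  have hLK : Nat.card L = Nat.card K := by rw [hL, hcard, inf_eq_left.mpr hKY]
  rw [← hLK]
  by_contra hgt
  -- the ratio is sixteen
  have hL2 : Y.map f ≤ ⊤ := le_top
  obtain ⟨p, hp⟩ : ∃ p, p = Nat.card (Y.map f) := ⟨_, rfl⟩
  obtain ⟨r, hr⟩ : ∃ r, r = Nat.card (L.map f) := ⟨_, rfl⟩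
  obtain ⟨s, hs⟩ : ∃ s, s = Nat.card ↥(Y ⊓ f.ker) := ⟨_, rfl⟩
  obtain ⟨t, ht⟩ : ∃ t, t = Nat.card ↥(L ⊓ f.ker) := ⟨_, rfl⟩
  rw [card_eq_map_mul f Y, card_eq_map_mul f L, ← hp, ← hr, ← hs, ← ht] at hgt
  rw [← hp, ← hr] at b1
  rw [← hs, ← ht] at b2
  -- powers of two
  have hd : r ∣ p := hr ▸ hp ▸ card_dvd_of_le (map_mono hLY)
  have hd2 : t ∣ s := ht ▸ hs ▸ card_dvd_of_le (inf_le_inf_right _ hLY)
  have hr0 : 0 < r := hr ▸ Nat.card_pos
  have ht0 : 0 < t := ht ▸ Nat.card_pos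
  -- elements of `Y` in the kernel have images in `L` on the other side
  have hkey : (Y ⊓ f.ker).map f' ≤ L.map f' := by
    rintro _ ⟨x, ⟨hxY, hxk⟩, rfl⟩
    have hxH : (x : S) ∈ H := by
      have h1 : x ∈ H.subgroupOf Y0 := hY ▸ hxY
      exact h1
    have hnorm : h * (x : S) * h⁻¹ ∈ Y0 := by
      by_contra hc
      have h3 := hidx h (x : S)
      by_cases hhx : h * (x : S) ∈ Y0
      · exact hhY (by have := Y0.mul_mem hhx (Y0.inv_mem x.2); rwa [mul_inv_cancel_right] at this)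
      · have hhi : h⁻¹ ∉ Y0 := fun e => hhY (by simpa using Y0.inv_mem e)
        exact hc (hidx _ _ hhx hhi)
    obtain ⟨y, hy⟩ : ∃ y : ↥Y0, (y : S) = h * (x : S) * h⁻¹ := ⟨⟨_, hnorm⟩, rfl⟩
    have hy1 : f' y = 1 := by
      rw [show y = ⟨_, hnorm⟩ from Subtype.ext hy]
      exact (hswap h hhY x hnorm).1 hxk
    have hmem : x * y⁻¹ ∈ L := by
      rw [hL, mem_subgroupOf, Y0.coe_mul, Y0.coe_inv, hy]
      have h2 := hcomm _ hxH _ hhH
      rw [show (x : S) * (h * x * h⁻¹)⁻¹ = (x : S) * h * (x : S)⁻¹ * h⁻¹ by group]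
      exact h2
    exact ⟨x * y⁻¹, hmem, by rw [map_mul, map_inv, hy1, inv_one, mul_one]⟩
  have hs' : s ≤ Nat.card (L.map f') := by rw [hs, c2]; exact card_le_of_le hkey
  -- the image of `L` is small
  have hLsmall : Nat.card (L.map f') * 4 ≤ 8 := by
    have e1 := card_eq_map_mul f Y
    have e1' := card_eq_map_mul f' Y
    have e2 := card_eq_map_mul f L
    have e2' := card_eq_map_mul f' L
    rw [← hp, ← hs] at e1
    rw [← hr, ← ht] at e2
    have b2' : Nat.card ↥(Y ⊓ f'.ker) ≤ 4 * Nat.card ↥(L ⊓ f'.ker) := by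
      rw [c2', c2']
      refine sec_eight h8 hna (map_mono (inf_le_inf_right _ hLY)) (map_sec f fun a ha b hb => ?_)
      exact ⟨hcY a ha.1 b hb.1,
        f'.ker.mul_mem (f'.ker.mul_mem (f'.ker.mul_mem ha.2 hb.2) (f'.ker.inv_mem ha.2)) (f'.ker.inv_mem hb.2)⟩
    have hd' : Nat.card (L.map f') ∣ Nat.card (Y.map f') := card_dvd_of_le (map_mono hLY)
    obtain ⟨m, hm⟩ := hd'
    have h8Y : Nat.card (Y.map f') ≤ 8 := h8' ▸ card_le_card_group _
    have hl0 : 0 < Nat.card (L.map f') := Nat.card_pos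
    obtain ⟨l, hl⟩ : ∃ l, l = Nat.card ↥(L ⊓ f'.ker) := ⟨_, rfl⟩
    have hl1 : 0 < l := hl ▸ Nat.card_pos
    rw [← hl] at b2' e2'
    have hm4 : ¬ m ≤ 2 := fun hm2 => hgt (by
      rw [← e1, ← e2, e1', e2', hm]
      calc 2 * (Nat.card (L.map f') * m * Nat.card ↥(Y ⊓ f'.ker))
          ≤ 2 * (Nat.card (L.map f') * 2 * (4 * l)) :=
            Nat.mul_le_mul_left 2 (Nat.mul_le_mul (Nat.mul_le_mul_left _ hm2) b2')
        _ = _ := by ring)
    have hmd : m ∣ 8 := by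
      have := h8' ▸ (Y.map f').card_subgroup_dvd_card
      exact (Dvd.intro_left _ hm.symm).trans this
    have hm8 : 4 ≤ m := by
      have : m ∈ Nat.divisors 8 := Nat.mem_divisors.mpr ⟨hmd, by norm_num⟩
      rw [show Nat.divisors 8 = {1, 2, 4, 8} by decide] at this
      simp at this
      omega
    calc Nat.card (L.map f') * 4 ≤ Nat.card (L.map f') * m := Nat.mul_le_mul_left _ hm8
      _ ≤ 8 := hm ▸ h8Y
  have hs2 : s ≤ 2 := by omega
  apply hgt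
  calc 2 * (p * s) ≤ 2 * ((4 * r) * 2) := Nat.mul_le_mul_left 2 (Nat.mul_le_mul b1 hs2)
    _ = 16 * (r * 1) := by ring
    _ ≤ 16 * (r * t) := Nat.mul_le_mul_left 16 (Nat.mul_le_mul_left r ht0)

end Cfsg.Agent.Invol.PushNorm
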