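import Cfsg.Agent.Lib.Invol.PushNorm.Mdl
import Cfsg.Agent.Lib.Invol.PushNorm.TwoEights
import Cfsg.Agent.Lib.Char.FourGenMain
import Cfsg.Agent.Lib.Grp.Frattini

/-!
# The block of shape `A₄`: sectional rank at most four
-/

set_option autoImplicit false
set_option linter.style.haveILetI false
set_option linter.unusedSectionVars false

namespace Cfsg.Agent.Invol.PushNorm

open Subgroup
open Cfsg.Agent.Transfer.QRC (core2 core2_le core2_norm le_core2 core2_isPGroup norm_of_conj pCore_normal_two)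
open scoped commutatorElement

universe u

variable {G : Type u} [Group G] [Finite G]

theorem small_of_rank {P : Type u} [Group P] [Finite P] (h : Cfsg.SectionalPRankLE 2 4 P) :
    Spor.SelfCentFour.SmallSections P := by
  intro H K hKH hsq hcomm
  obtain ⟨N, hN⟩ : ∃ N, N = K.subgroupOf H := ⟨_, rfl⟩
  have hn : N.Normal := ⟨fun k hk a => by
    rw [hN, mem_subgroupOf] at hk ⊢
    rw [show ((a * k * a⁻¹ : ↥H) : P) = (a : P) * k * (a : P)⁻¹ * (k : P)⁻¹ * k by push_cast; group]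
    exact mul_mem (hcomm _ a.2 _ k.2) hk⟩
  haveI := hn
  have hc : ∀ x y : ↥H ⧸ N, x * y = y * x := fun x y => by
    induction x using QuotientGroup.induction_on with | _ a =>
    induction y using QuotientGroup.induction_on with | _ b =>
    rw [← commutatorElement_eq_one_iff_mul_comm]
    show ⁅QuotientGroup.mk' N a, QuotientGroup.mk' N b⁆ = 1
    rw [← map_commutatorElement, QuotientGroup.mk'_apply, QuotientGroup.eq_one_iff, hN, mem_subgroupOf]
    exact hcomm _ a.2 _ b.2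
  have h1 := h H N ⊤ ⟨⟨fun x y => Subtype.ext (hc x.1 y.1)⟩⟩ (fun x _ => QuotientGroup.induction_on x fun a => by
    rw [← QuotientGroup.mk_pow, QuotientGroup.eq_one_iff, hN, mem_subgroupOf, pow_two]
    exact hsq _ a.2)
  rw [card_top] at h1
  have h2 := N.card_mul_index
  rw [← index_eq_card] at h1
  rw [hN, Nat.card_congr (subgroupOfEquivOfLe hKH).toEquiv] at h2
  rw [hN] at h1
  calc Nat.card H = Nat.card K * (K.subgroupOf H).index := h2.symm
    _ ≤ Nat.card K * 16 := Nat.mul_le_mul_left _ (h1.trans (by norm_num))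
    _ = 16 * Nat.card K := mul_comm _ _

/-- The centre of a nonabelian group of order eight has order at most two. -/
theorem center_eight {D : Type*} [Group D] [Finite D] (h8 : Nat.card D = 8) (hna : ∃ a b : D, a * b ≠ b * a) :
    Nat.card (center D) ≤ 2 := by
  classical
  obtain ⟨a, b, hab⟩ := hna
  have hd := (center D).card_subgroup_dvd_card
  rw [h8] at hd
  have hmem : Nat.card (center D) ∈ Nat.divisors 8 := Nat.mem_divisors.mpr ⟨hd, by norm_num⟩
  rw [show Nat.divisors 8 = {1, 2, 4, 8} by decide] at hmem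
  simp only [Finset.mem_insert, Finset.mem_singleton] at hmem
  by_contra hgt
  have hidx := (center D).card_mul_index
  rw [h8] at hidx
  rcases hmem with e | e | e | e
  · omega
  · omega
  · rw [e] at hidx
    have hi : Nat.card (D ⧸ center D) = 2 := by rw [← index_eq_card]; omega
    haveI : IsCyclic (D ⧸ center D) := isCyclic_of_prime_card (p := 2) hi
    exact hab (commutative_of_cyclic_center_quotient (QuotientGroup.mk' (center D))
      (by rw [QuotientGroup.ker_mk']) a b)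
  · exact hab ((mem_center_iff.mp (eq_top_of_card_eq _ (e.trans h8.symm) ▸ mem_top b : b ∈ center D)) a)

theorem sup_index_two {A B T : Subgroup G} (hA : A ≤ T) (hB : B ≤ T) (h2 : Nat.card T = 2 * Nat.card A)
    (hne : ¬ B ≤ A) : A ⊔ B = T := by
  refine eq_of_le_of_card_ge (sup_le hA hB) ?_
  obtain ⟨k, hk⟩ := card_dvd_of_le (le_sup_left : A ≤ A ⊔ B)
  rcases k with _ | _ | k
  · have : 0 < Nat.card ↥(A ⊔ B) := Nat.card_pos
    omega
  · exfalso
    refine hne ((le_sup_right : B ≤ A ⊔ B).trans (eq_of_le_of_card_ge le_sup_left ?_).ge)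
    omega
  · rw [h2, hk, mul_comm 2]
    exact Nat.mul_le_mul_left _ (by omega)

theorem card_two_mul {A I : Subgroup G} (hA : ¬ A ≤ I)
    (hi : ∀ a ∈ A, a ∉ I → ∀ b ∈ A, b ∉ I → a * b ∈ I) : Nat.card A = 2 * Nat.card ↥(A ⊓ I) := by
  obtain ⟨t, ht, htI⟩ := SetLike.not_le_iff_exists.mp hA
  have h2 : (I.subgroupOf A).index = 2 := by
    rw [index_eq_two_iff]
    refine ⟨⟨t, ht⟩, fun b => ?_⟩
    by_cases hb : (b : G) ∈ I
    · refine Or.inr ⟨hb, fun hc => htI ?_⟩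
      have := I.mul_mem (I.inv_mem hb) (show (b : G) * t ∈ I from hc)
      rwa [inv_mul_cancel_left] at this
    · exact Or.inl ⟨hi _ b.2 hb t ht htI, hb⟩
  have := (I.subgroupOf A).card_mul_index
  rw [h2, ← card_map_of_injective A.subtype_injective (K := I.subgroupOf A), subgroupOf_map_subtype, inf_comm,
    mul_comm] at this
  exact this.symm

/-- An involution commuting with a noncentral involution in a nonabelian group of order eight. -/
theorem cent_sq {D : Type*} [Group D] [Finite D] (h8 : Nat.card D = 8) (hna : ∃ a b : D, a * b ≠ b * a)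
    {a b : D} (ha : a * a = 1) (hac : a ∉ center D) (hab : a * b = b * a) : b * b = 1 := by
  classical
  haveI : Fact (Nat.Prime 2) := ⟨Nat.prime_two⟩
  haveI : Nontrivial D := (Finite.one_lt_card_iff_nontrivial).mp (by omega)
  have hp : IsPGroup 2 D := IsPGroup.of_card (n := 3) (by rw [h8]; norm_num)
  have hz := center_eight h8 hna
  haveI := hp.center_nontrivial
  obtain ⟨⟨z, hzc⟩, hz1⟩ := exists_ne (1 : ↥(center D))
  have hz1' : z ≠ 1 := fun e => hz1 (Subtype.ext e)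
  have hcard : Nat.card ↥(center D) = 2 := le_antisymm hz
    (Finite.one_lt_card_iff_nontrivial.mpr inferInstance)
  have hz2 : z * z = 1 := by
    have := congrArg Subtype.val (pow_card_eq_one' (x := (⟨z, hzc⟩ : ↥(center D))))
    rwa [hcard, Subgroup.coe_pow, pow_two] at this
  obtain ⟨X, hX⟩ : ∃ X, X = centralizer ({a} : Set D) := ⟨_, rfl⟩
  have hmem : ∀ v, v ∈ X ↔ a * v = v * a := fun v => by
    rw [hX, mem_centralizer_iff]; simp
  have hle : Nat.card X ≤ 4 := by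
    have hne : X ≠ ⊤ := fun e => hac (mem_center_iff.mpr fun v => ((hmem v).mp (e ▸ mem_top v)).symm)
    have hd := X.card_subgroup_dvd_card
    rw [h8] at hd
    have hlt : Nat.card X ≠ 8 := fun e => hne (eq_top_of_card_eq X (e.trans h8.symm))
    have : Nat.card X ∈ Nat.divisors 8 := Nat.mem_divisors.mpr ⟨hd, by norm_num⟩
    rw [show Nat.divisors 8 = {1, 2, 4, 8} by decide] at this
    simp only [Finset.mem_insert, Finset.mem_singleton] at this
    omega
  have hzcomm : ∀ v, v * z = z * v := mem_center_iff.mp hzc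
  have hza : z ≠ a := fun e => hac (e ▸ hzc)
  have hza1 : z * a ≠ 1 := fun e => hza (by
    calc z = z * (a * a) := by rw [ha, mul_one]
      _ = a := by rw [← mul_assoc, e, one_mul])
  have hne1 : a ≠ 1 := fun e => hac (e ▸ one_mem _)
  haveI : Fintype D := Fintype.ofFinite D
  let s : Finset D := {1, z, a, z * a}
  have hs : s.card = 4 := by
    have h1 : (1 : D) ∉ ({z, a, z * a} : Finset D) := by simp [Ne.symm hz1', Ne.symm hne1, Ne.symm hza1]
    have h2 : z ∉ ({a, z * a} : Finset D) := by simp [hza, hne1]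
    have h3 : a ∉ ({z * a} : Finset D) := by simp [hz1']
    rw [show s = insert 1 (insert z (insert a {z * a})) from rfl, Finset.card_insert_of_notMem h1,
      Finset.card_insert_of_notMem h2, Finset.card_insert_of_notMem h3, Finset.card_singleton]
  have hsX : s ⊆ (X : Set D).toFinset := by
    intro v hv
    rw [Set.mem_toFinset, SetLike.mem_coe, hmem]
    simp only [s, Finset.mem_insert, Finset.mem_singleton] at hv
    rcases hv with rfl | rfl | rfl | rfl
    · simp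
    · exact hzcomm a
    · rfl
    · rw [← mul_assoc, hzcomm a, mul_assoc]
  have heq : s = (X : Set D).toFinset := Finset.eq_of_subset_of_card_le hsX (by
    rw [hs, Set.toFinset_card, ← Nat.card_eq_fintype_card]; exact hle)
  have hb : b ∈ s := by rw [heq, Set.mem_toFinset, SetLike.mem_coe, hmem]; exact hab
  simp only [s, Finset.mem_insert, Finset.mem_singleton] at hb
  rcases hb with rfl | rfl | rfl | rfl
  · exact one_mul 1
  · exact hz2
  · exact ha
  · rw [mul_assoc, ← mul_assoc a z a, hzcomm a, mul_assoc z a a, ha, mul_one, hz2]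

/-- A 2-group over the pair of order-eight quotients normalises `T`. -/
theorem eights_norm {S T Q C W : Subgroup G} {z : G} (hSp : IsPGroup 2 S) (hTS : T ≤ S) (hQT : Q ≤ T)
    (hCQ : C ≤ Q) (hCn : T ≤ normalizer (C : Set G))
    (hdec : ∀ q ∈ Q, ∃ w ∈ W, ∃ c ∈ C, q = w * c) (hW2 : ∀ w ∈ W, w * w = 1)
    (hWC : ∀ w ∈ W, ∀ c ∈ C, w * c = c * w)
    (hcQ : Nat.card Q = 4 * Nat.card C) (hcT : Nat.card T = 8 * Nat.card C)
    {D : Type*} [Group D] [Finite D] (hD8 : Nat.card D = 8) (hDna : ∃ a b : D, a * b ≠ b * a)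
    (π : ↥T →* D) (hπs : Function.Surjective π) (hπ : ∀ v : ↥T, π v = 1 ↔ (v : G) ∈ C)
    (hzC : z ∈ C) (hz1 : z ≠ 1) (hz2 : z * z = 1) (hzT : ∀ v ∈ T, v * z = z * v)
    (hdisj : ∀ y ∈ S, y ∈ normalizer (T : Set G) → y ∉ T → C ⊓ cjS y C = ⊥)
    (hCz : ∀ v ∈ S, v * z = z * v → v ∈ T)
    (hQn : ∀ v ∈ S, v ∈ normalizer (Q : Set G) → v ∈ T)
    (hpair : ∀ a ∈ S ⊓ normalizer (T : Set G), a ∉ T → ∀ b ∈ S ⊓ normalizer (T : Set G), b ∉ T → a * b ∈ T)
    (hfour : ∀ y ∈ S, y ∈ normalizer (T : Set G) → y ∉ T → ∀ X : Subgroup G, X ≤ T →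
      (∀ v ∈ X, v * v = 1) → (∀ v ∈ X, ∀ t ∈ T, t * v = v * t) → Nat.card X ≤ 4) :
    ∀ v ∈ S, v ∈ normalizer (T : Set G) := by
  by_contra hnot
  push Not at hnot
  obtain ⟨x0, hx0S, hx0N⟩ := hnot
  obtain ⟨S1, hS1⟩ : ∃ S1, S1 = S ⊓ normalizer (T : Set G) := ⟨_, rfl⟩
  have hS1S : S1 ≤ S := hS1 ▸ inf_le_left
  have hTS1 : T ≤ S1 := hS1 ▸ le_inf hTS le_normalizer
  have hCT : C ≤ T := hCQ.trans hQT
  have hlt : S1.subgroupOf S < ⊤ := lt_top_iff_ne_top.mpr fun e =>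
    hx0N (hS1.le ((subgroupOf_eq_top.mp e) hx0S)).2
  haveI : Fact (Nat.Prime 2) := ⟨Nat.prime_two⟩
  haveI : Group.IsNilpotent ↥S := hSp.isNilpotent
  obtain ⟨⟨x, hxS⟩, hx, hxS1⟩ := SetLike.exists_of_lt (Group.normalizerCondition_of_isNilpotent _ hlt)
  have hxN : x ∈ normalizer (S1 : Set G) := mem_norm fun w hw =>
    (mem_normalizer_iff.mp hx ⟨w, hS1S hw⟩).mp hw
  obtain ⟨T', hT'⟩ : ∃ T', T' = cjS x T := ⟨_, rfl⟩
  have hcT' : Nat.card T' = Nat.card T := by rw [hT', card_cjS]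
  have hT'S1 : T' ≤ S1 := by
    rw [hT', ← cjS_eq_iff.mpr hxN]; exact cjS_mono hTS1
  have hT'ne : ¬ T' ≤ T := fun e => hxS1 (show x ∈ S1 from hS1.ge
    ⟨hxS, cjS_eq_iff.mp (hT'.symm.trans (eq_of_le_of_card_ge e hcT'.ge))⟩)
  obtain ⟨u, hu⟩ : ∃ u, u = x * z * x⁻¹ := ⟨_, rfl⟩
  have hu2 : u * u = 1 := by
    rw [hu, show x * z * x⁻¹ * (x * z * x⁻¹) = x * (z * z) * x⁻¹ by group, hz2]; group
  have huT' : u ∈ T' := hT' ▸ hu ▸ conj_mem_cjS (hCT hzC)
  have hcomT' : ∀ v ∈ T', v * u = u * v := by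
    intro v hv
    rw [hT', mem_cjS] at hv
    have := hzT _ hv
    calc v * u = x * (x⁻¹ * v * x * z) * x⁻¹ := by rw [hu]; group
      _ = x * (z * (x⁻¹ * v * x)) * x⁻¹ := by rw [this]
      _ = u * v := by rw [hu]; group
  have hcent' : ∀ v ∈ S, v * u = u * v → v ∈ T' := by
    intro v hv hvu
    rw [hT', mem_cjS]
    refine hCz _ (S.mul_mem (S.mul_mem (S.inv_mem hxS) hv) hxS) ?_
    calc x⁻¹ * v * x * z = x⁻¹ * (v * u) * x := by rw [hu]; group
      _ = x⁻¹ * (u * v) * x := by rw [hvu]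
      _ = z * (x⁻¹ * v * x) := by rw [hu]; group
  obtain ⟨e, heT', heT⟩ := SetLike.not_le_iff_exists.mp hT'ne
  have heS1 : e ∈ S1 := hT'S1 heT'
  have heS : e ∈ S := hS1S heS1
  have heN : e ∈ normalizer (T : Set G) := (hS1.le heS1).2
  obtain ⟨I, hI⟩ : ∃ I, I = T ⊓ T' := ⟨_, rfl⟩
  have hIT : I ≤ T := hI ▸ inf_le_left
  have hIT' : I ≤ T' := hI ▸ inf_le_right
  have heI : e ∈ normalizer (I : Set G) := hI ▸ norm_inf (Y := zpowers e) (zpowers_le.mpr heN)
    (zpowers_le.mpr (le_normalizer heT')) (mem_zpowers e)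
  have heI' : ∀ v ∈ I, e⁻¹ * v * e ∈ I := fun v hv => by
    have := (mem_normalizer_iff.mp (inv_mem heI) v).mp hv
    rwa [inv_inv] at this
  have hIi : ∀ a ∈ T, a ∉ I → ∀ b ∈ T, b ∉ I → a * b ∈ I := by
    intro a ha haI b hb hbI
    have haT' : x⁻¹ * a * x ∉ T := fun h' => haI (hI ▸ ⟨ha, hT' ▸ mem_cjS.mpr h'⟩)
    have hbT' : x⁻¹ * b * x ∉ T := fun h' => hbI (hI ▸ ⟨hb, hT' ▸ mem_cjS.mpr h'⟩)
    refine hI ▸ ⟨T.mul_mem ha hb, hT' ▸ mem_cjS.mpr ?_⟩
    have hxi : ∀ v ∈ S1, x⁻¹ * v * x ∈ S ⊓ normalizer (T : Set G) := fun v hv => by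
      have := (mem_normalizer_iff.mp (inv_mem hxN) v).mp hv
      rw [inv_inv] at this
      exact hS1 ▸ this
    have := hpair _ (hxi a (hTS1 ha)) haT' _ (hxi b (hTS1 hb)) hbT'
    rwa [show x⁻¹ * a * x * (x⁻¹ * b * x) = x⁻¹ * (a * b) * x by group] at this
  have hTI : ¬ T ≤ I := fun h' => by
    exact hT'ne (eq_of_le_of_card_ge (h'.trans hIT') hcT'.le).ge
  have hcI : Nat.card T = 2 * Nat.card I := by
    rw [card_two_mul hTI hIi, inf_eq_right.mpr hIT]
  have hQI : Nat.card Q ≤ 2 * Nat.card ↥(Q ⊓ I) := by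
    by_cases hle : Q ≤ I
    · rw [inf_eq_left.mpr hle]; omega
    · exact (card_two_mul hle fun a ha ha' b hb hb' => hIi a (hQT ha) ha' b (hQT hb) hb').le
  have hQ2T : Nat.card T = 2 * Nat.card Q := by omega
  have hQexp : (∀ c ∈ C, c * c = 1) → ∀ q ∈ Q, q * q = 1 := by
    intro hc2 q hq
    obtain ⟨w, hw, c, hc, rfl⟩ := hdec q hq
    rw [show w * c * (w * c) = w * (c * w) * c by group, ← hWC w hw c hc,
      show w * (w * c) * c = (w * w) * (c * c) by group, hW2 w hw, hc2 c hc, one_mul]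
  have hab : (∀ q ∈ Q, q * q = 1) → ∀ a ∈ Q, ∀ b ∈ Q, a * b = b * a := by
    intro h2 a ha b hb
    rw [← inv_eq_of_mul_eq_one_left (h2 _ (Q.mul_mem ha hb)), mul_inv_rev,
      inv_eq_of_mul_eq_one_left (h2 a ha), inv_eq_of_mul_eq_one_left (h2 b hb)]
  have hcentral : ∀ (A B : Subgroup G), A ≤ T → B ≤ T → Nat.card T = 2 * Nat.card A → ¬ B ≤ A →
      ∀ v, (∀ a ∈ A, a * v = v * a) → (∀ b ∈ B, b * v = v * b) → ∀ t ∈ T, t * v = v * t := by
    intro A B hA hB h2 hne v hvA hvB t ht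
    have hle : A ⊔ B ≤ centralizer ({v} : Set G) := sup_le
      (fun a ha => mem_centralizer_iff.mpr (by simpa using (hvA a ha).symm))
      (fun b hb => mem_centralizer_iff.mpr (by simpa using (hvB b hb).symm))
    rw [sup_index_two hA hB h2 hne] at hle
    exact (mem_centralizer_iff.mp (hle ht) v rfl).symm
  have hC2 : 2 ≤ Nat.card C := by
    haveI : Nontrivial ↥C := ⟨⟨⟨z, hzC⟩, 1, fun h' => hz1 (congrArg Subtype.val h')⟩⟩
    exact Finite.one_lt_card
  by_cases huT : u ∈ T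
  swap
  · -- `u` is outside `T`
    have huS1 : u ∈ S1 := hT'S1 huT'
    have huS : u ∈ S := hS1S huS1
    have hCu := hdisj u huS (hS1.le huS1).2 huT
    have hufix : ∀ v ∈ I, u * v * u⁻¹ = v := fun v hv => by
      rw [← hcomT' v (hIT' hv), mul_inv_cancel_right]
    have hIC : ∀ v ∈ I, v ∈ C → v = 1 := fun v hv hvC => mem_bot.mp (hCu.le ⟨hvC, by
      rw [← hufix v hv]; exact conj_mem_cjS hvC⟩)
    have hzI : z ∉ I := fun h' => hz1 (hIC z h' hzC)
    have hCz' : ∀ c ∈ C, c = 1 ∨ c = z := fun c hc => by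
      by_cases hcI : c ∈ I
      · exact Or.inl (hIC c hcI hc)
      · refine Or.inr (mul_inv_eq_one.mp (hIC _ (hIi c (hCT hc) hcI z⁻¹ (T.inv_mem (hCT hzC))
          fun h' => hzI (by simpa using I.inv_mem h')) (C.mul_mem hc (C.inv_mem hzC))))
    have hexp := hQexp fun c hc => by
      rcases hCz' c hc with rfl | rfl
      · exact one_mul 1
      · exact hz2
    have habQ := hab hexp
    have hQu : cjS u Q ≤ T := (cjS_mono hQT).trans (cjS_eq_iff.mpr (hS1.le huS1).2).le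
    have hQuQ : ¬ cjS u Q ≤ Q := fun h' => huT (hQn u huS (cjS_eq_iff.mp
      (eq_of_le_of_card_ge h' (card_cjS u Q).ge)))
    -- all of `Q` is central
    have hQc : ∀ q ∈ Q, ∀ t ∈ T, t * q = q * t := by
      have hbase : ∀ a ∈ Q, a ∈ I → ∀ t ∈ T, t * a = a * t := by
        intro a ha haI
        refine hcentral Q (cjS u Q) hQT hQu hQ2T hQuQ a (fun b hb => habQ b hb a ha) fun b hb => ?_
        have haU : a ∈ cjS u Q := hufix a haI ▸ conj_mem_cjS ha
        rw [mem_cjS] at hb haU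
        have := habQ _ hb _ haU
        calc b * a = u * (u⁻¹ * b * u * (u⁻¹ * a * u)) * u⁻¹ := by group
          _ = u * (u⁻¹ * a * u * (u⁻¹ * b * u)) * u⁻¹ := by rw [this]
          _ = a * b := by group
      intro q hq t ht
      by_cases hqI : q ∈ I
      · exact hbase q hq hqI t ht
      have hzQ : z ∈ Q := hCQ hzC
      have h1 := hbase (q * z) (Q.mul_mem hq hzQ) (hIi q (hQT hq) hqI z (hCT hzC) hzI) t ht
      calc t * q = t * (q * z) * z⁻¹ := by group
        _ = q * z * t * z⁻¹ := by rw [h1]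
        _ = q * (t * z) * z⁻¹ := by rw [hzT t ht]; group
        _ = q * t := by group
    have := hfour u huS (hS1.le huS1).2 huT Q hQT hexp hQc
    omega
  · -- `u` is inside `T`
    have huI : u ∈ I := hI ▸ ⟨huT, huT'⟩
    have hnc : ¬ ∀ t ∈ T, t * u = u * t := fun hc => hT'ne (eq_of_le_of_card_ge
      (fun t ht => hcent' t (hTS ht) (hc t ht)) hcT'.le).ge
    have hCe := hdisj e heS heN heT
    have hcomm : ¬ ∀ t ∈ T, t * u * t⁻¹ * u⁻¹ ∈ C := fun hall => hnc fun t ht => by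
      have ht' : e⁻¹ * t * e ∈ T := by
        have := (mem_normalizer_iff.mp (inv_mem heN) t).mp ht
        rwa [inv_inv] at this
      have h1 : t * u * t⁻¹ * u⁻¹ ∈ cjS e C := by
        have h2 := conj_mem_cjS (g := e) (hall _ ht')
        have h3 : u * e = e * u := (hcomT' e heT').symm
        have h4 : e * u * e⁻¹ = u := by rw [← h3, mul_inv_cancel_right]
        rw [show e * (e⁻¹ * t * e * u * (e⁻¹ * t * e)⁻¹ * u⁻¹) * e⁻¹ =
          t * (e * u * e⁻¹) * t⁻¹ * (e * u * e⁻¹)⁻¹ by group, h4] at h2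
        exact h2
      have := mem_bot.mp (hCe.le ⟨hall t ht, h1⟩)
      rw [mul_inv_eq_one, mul_inv_eq_iff_eq_mul] at this
      exact this
    have hCI : C ≤ I := by
      by_contra hne
      obtain ⟨c, hc, hcI⟩ := SetLike.not_le_iff_exists.mp hne
      refine hcomm fun t ht => ?_
      by_cases htI : t ∈ I
      · rw [hcomT' t (hIT' htI)]; simp
      · have hi : t * c ∈ I := hIi t ht htI c (hCT hc) hcI
        have h1 : u⁻¹ * (t * c) = t * c * u⁻¹ := by
          have := hcomT' _ (hIT' hi)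
          calc u⁻¹ * (t * c) = u⁻¹ * (t * c * u) * u⁻¹ := by group
            _ = u⁻¹ * (u * (t * c)) * u⁻¹ := by rw [this]
            _ = t * c * u⁻¹ := by group
        rw [show t * u * t⁻¹ * u⁻¹ = (t * c) * (c⁻¹ * u * c) * (t * c)⁻¹ * u⁻¹ by group,
          show t * c * (c⁻¹ * u * c) * (t * c)⁻¹ * u⁻¹ = t * c * (c⁻¹ * u * c * u⁻¹) * (t * c)⁻¹ *
            (t * c * u * (t * c)⁻¹ * u⁻¹) by group,
          show t * c * u * (t * c)⁻¹ * u⁻¹ = 1 by rw [hcomT' _ (hIT' hi)]; group, mul_one]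
        refine conj_mem hCn (T.mul_mem ht (hCT hc)) ?_
        rw [show c⁻¹ * u * c * u⁻¹ = c⁻¹ * (u * c * u⁻¹) by group]
        exact C.mul_mem (C.inv_mem hc) (conj_mem hCn huT hc)
    have hπu : π ⟨u, huT⟩ ∉ center D := fun hc => hcomm fun t ht => by
      have h1 : π (⟨t, ht⟩ * ⟨u, huT⟩ * (⟨t, ht⟩ : ↥T)⁻¹ * (⟨u, huT⟩ : ↥T)⁻¹) = 1 := by
        rw [map_mul, map_mul, map_mul, map_inv, map_inv, mem_center_iff.mp hc]
        group
      exact (hπ _).mp h1
    have hIexp : ∀ v ∈ I, v * v = 1 := by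
      have hsq : ∀ v ∈ I, v * v ∈ C := fun v hv => by
        have h1 := cent_sq hD8 hDna (a := π ⟨u, huT⟩) (b := π ⟨v, hIT hv⟩)
          (by rw [← map_mul]; exact (hπ _).mpr (show u * u ∈ C by rw [hu2]; exact C.one_mem)) hπu (by
            rw [← map_mul, ← map_mul]
            exact congrArg π (Subtype.ext (hcomT' v (hIT' hv)).symm))
        rw [← map_mul] at h1
        exact (hπ _).mp h1
      intro v hv
      refine mem_bot.mp (hCe.le ⟨hsq v hv, mem_cjS.mpr ?_⟩)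
      have := hsq _ (heI' v hv)
      rwa [show e⁻¹ * v * e * (e⁻¹ * v * e) = e⁻¹ * (v * v) * e by group] at this
    have hexp := hQexp fun c hc => hIexp c (hCI hc)
    have habQ := hab hexp
    have habI : ∀ a ∈ I, ∀ b ∈ I, a * b = b * a := fun a ha b hb => by
      rw [← inv_eq_of_mul_eq_one_left (hIexp _ (I.mul_mem ha hb)), mul_inv_rev,
        inv_eq_of_mul_eq_one_left (hIexp a ha), inv_eq_of_mul_eq_one_left (hIexp b hb)]
    have hQI' : ¬ Q ≤ I := fun h' => heT (hQn e heS (by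
      rw [eq_of_le_of_card_ge h' (by omega)]; exact heI))
    have hIQ : ¬ I ≤ Q := fun h' => hQI' (eq_of_le_of_card_ge h' (by omega)).ge
    have hbase : ∀ v ∈ Q, v ∈ I → ∀ t ∈ T, t * v = v * t := fun v hv hvI =>
      hcentral Q I hQT hIT hQ2T hIQ v (fun a ha => habQ a ha v hv) fun a ha => habI a ha v hvI
    have h4 := hfour e heS heN heT (Q ⊓ I) (inf_le_left.trans hQT) (fun v hv => hexp v hv.1)
      fun v hv => hbase v hv.1 hv.2
    obtain ⟨Q', hQ'⟩ : ∃ Q', Q' = cjS e Q := ⟨_, rfl⟩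
    have hQ'T : Q' ≤ T := hQ' ▸ (cjS_mono hQT).trans (cjS_eq_iff.mpr heN).le
    have hQ'I : ¬ Q' ≤ I := fun h' => hQI' (by
      rw [← cjS_le_iff (g := e), cjS_eq_iff.mpr heI, ← hQ']; exact h')
    have hQ'Q : ¬ Q' ≤ Q := fun h' => heT (hQn e heS (cjS_eq_iff.mp
      (eq_of_le_of_card_ge (hQ' ▸ h') (card_cjS e Q).ge)))
    obtain ⟨b0, hb0, hb0I⟩ := SetLike.not_le_iff_exists.mp hQ'I
    have hQc : ∀ a ∈ Q, ∀ t ∈ T, t * a = a * t := by
      intro a ha
      by_cases haI : a ∈ I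
      · exact hbase a ha haI
      have hout' : ∀ b ∈ Q', b ∉ I → b * a = a * b := fun b hb hbI => by
        have hi := hIi a (hQT ha) haI b (hQ'T hb) hbI
        have hb2 : b * b = 1 := by
          rw [hQ', mem_cjS] at hb
          calc b * b = e * (e⁻¹ * b * e * (e⁻¹ * b * e)) * e⁻¹ := by group
            _ = 1 := by rw [hexp _ hb]; group
        calc b * a = b⁻¹ * a⁻¹ := by rw [inv_eq_of_mul_eq_one_left hb2, inv_eq_of_mul_eq_one_left (hexp a ha)]
          _ = (a * b)⁻¹ := (mul_inv_rev a b).symm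
          _ = a * b := inv_eq_of_mul_eq_one_left (hIexp _ hi)
      refine hcentral Q Q' hQT hQ'T hQ2T hQ'Q a (fun b hb => habQ b hb a ha) fun b hb => ?_
      by_cases hbI : b ∈ I
      · have hb' : b0 * b ∉ I := fun h' => hb0I (by simpa using I.mul_mem h' (I.inv_mem hbI))
        have h1 := hout' b0 hb0 hb0I
        have h2 := hout' _ (Q'.mul_mem hb0 hb) hb'
        refine mul_left_cancel (a := b0) ?_
        rw [← mul_assoc, h2, ← mul_assoc, ← mul_assoc, h1]
      · exact hout' b hb hbI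
    have := hfour e heS heN heT Q hQT hexp hQc
    omega

namespace Hyp

variable {H K M Q T W : Subgroup G} (h : Hyp H K M Q T) (hm : Mdl K W)
include h hm

theorem M_norm_W : M ≤ normalizer (W : Set G) := norm_le fun m hm' w hw => by
  rw [hm.eq] at hw ⊢
  refine le_core2 (N := cjS m (core2 K)) ?_ (isPGroup_cjS (core2_isPGroup K)) ?_ (conj_mem_cjS hw)
  · rintro _ ⟨c, hc, rfl⟩
    exact conj_mem h.M_norm hm' (core2_le K hc)
  · intro k hk y hy
    rw [mem_cjS] at hy ⊢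
    have hk' : m⁻¹ * k * m ∈ K := by
      have := conj_mem h.M_norm (inv_mem hm') hk
      rwa [inv_inv] at this
    have := core2_norm K _ hk' _ hy
    convert this using 1
    group

theorem three_rank (h3 : W.relIndex K = 3)
    (h4 : Nat.card W = 4 * Nat.card ↥(W ⊓ centralizer (K : Set G)))
    {g : G} (hgT : g ∈ normalizer (T : Set G)) (hgM : g ∉ M) : Cfsg.SectionalPRankLE 2 4 G := by
  classical
  haveI : Fact (Nat.Prime 2) := ⟨Nat.prime_two⟩
  haveI : Fact (Nat.Prime 3) := ⟨Nat.prime_three⟩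
  have hWK := hm.toCore.le_K
  have hTH := h.T_le
  have hKM : K ≤ M := h.K_le.trans h.H_le_M
  -- the cosets of `W` in `K`
  have hidx : (W.subgroupOf K).index = 3 := h3
  haveI hWn : (W.subgroupOf K).Normal := ⟨fun x hx k => by
    rw [mem_subgroupOf] at hx ⊢
    exact conj_mem hm.norm k.2 hx⟩
  have hcard3 : Nat.card (↥K ⧸ W.subgroupOf K) = 3 := by rw [← index_eq_card]; exact hidx
  obtain ⟨d0, hd0⟩ : ∃ d : K, (d : G) ∉ W := by
    by_contra hc
    push Not at hc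
    have : W.subgroupOf K = ⊤ := eq_top_iff.mpr fun k _ => hc k
    rw [this, index_top] at hidx
    norm_num at hidx
  have hgen : ∀ k : K, ∃ i : ℕ, (d0 : G) ^ i * (k : G) ∈ W := by
    intro k
    have hne : (QuotientGroup.mk d0 : ↥K ⧸ W.subgroupOf K) ≠ 1 := fun e => hd0 (by
      have h1 := (QuotientGroup.eq_one_iff (N := W.subgroupOf K) d0).mp e
      exact h1)
    have htop := zpowers_eq_top_of_prime_card hcard3 hne
    have hmem : (QuotientGroup.mk k : ↥K ⧸ W.subgroupOf K)⁻¹ ∈ Submonoid.powers (QuotientGroup.mk d0 : ↥K ⧸ W.subgroupOf K) :=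
      mem_powers_iff_mem_zpowers.mpr (htop ▸ mem_top _)
    obtain ⟨i, hi⟩ := hmem
    refine ⟨i, ?_⟩
    have : d0 ^ i * k ∈ W.subgroupOf K := by
      rw [← QuotientGroup.eq_one_iff, QuotientGroup.mk_mul, QuotientGroup.mk_pow]
      change (QuotientGroup.mk d0 : ↥K ⧸ W.subgroupOf K) ^ i = _ at hi
      rw [hi, inv_mul_cancel]
    exact this
  have hd3 : (d0 : G) ^ 3 ∈ W := by
    have : d0 ^ 3 ∈ W.subgroupOf K := by
      rw [← QuotientGroup.eq_one_iff, QuotientGroup.mk_pow, ← hcard3, pow_card_eq_one']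
    exact this
  obtain ⟨d, hd⟩ : ∃ d, d = (d0 : G) := ⟨_, rfl⟩
  have hdK : d ∈ K := hd ▸ d0.2
  rw [← hd] at hd3 hd0 hgen
  -- a vector fixed by a power of `d` is fixed by `K`
  have hfix : ∀ w ∈ W, d * w * d⁻¹ = w → w ∈ centralizer (K : Set G) := by
    intro w hw hdw
    refine mem_centralizer_iff.mpr fun k hk => ?_
    obtain ⟨i, hi⟩ := hgen ⟨k, hk⟩
    have hc : Commute d w := mul_inv_eq_iff_eq_mul.mp hdw
    have hci : Commute (d ^ i) w := hc.pow_left i
    have : Commute (d ^ i * k) w := hm.comm _ hi _ hw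
    calc k * w = (d ^ i)⁻¹ * ((d ^ i * k) * w) := by group
      _ = (d ^ i)⁻¹ * (w * (d ^ i * k)) := by rw [this.eq]
      _ = ((d ^ i)⁻¹ * w) * (d ^ i * k) := by group
      _ = (w * (d ^ i)⁻¹) * (d ^ i * k) := by rw [(hci.inv_left).eq]
      _ = w * k := by group
  -- no fixed points
  have hZ : W ⊓ centralizer (K : Set G) = ⊥ := by
    let δ : ↥W →* ↥W :=
      { toFun := fun w => ⟨(w : G) * (d * w * d⁻¹), W.mul_mem w.2 (conj_mem hm.norm hdK w.2)⟩
        map_one' := Subtype.ext (show (1 : G) * (d * 1 * d⁻¹) = 1 by group)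
        map_mul' := fun a b => Subtype.ext (by
          show (a : G) * b * (d * ((a : G) * b) * d⁻¹) = (a : G) * (d * a * d⁻¹) * ((b : G) * (d * b * d⁻¹))
          have hb : (b : G) * (d * a * d⁻¹) = d * a * d⁻¹ * b := hm.comm _ b.2 _ (conj_mem hm.norm hdK a.2)
          calc (a : G) * b * (d * ((a : G) * b) * d⁻¹) = (a : G) * ((b : G) * (d * a * d⁻¹)) * (d * b * d⁻¹) := by group
            _ = _ := by rw [hb]; group) }
    have hsurj : W ≤ δ.range.map W.subtype := by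
      conv_lhs => rw [← hm.stable]
      refine commutator_le.mpr fun w hw k hk => ?_
      obtain ⟨i, hi⟩ := hgen ⟨k⁻¹, K.inv_mem hk⟩
      -- `k` acts as `d ^ i`
      have hact : k * w⁻¹ * k⁻¹ = d ^ i * w * (d ^ i)⁻¹ := by
        rw [hm.inv_eq hw]
        obtain ⟨v, hv⟩ : ∃ v, v = d ^ i * k⁻¹ := ⟨_, rfl⟩
        rw [← hv] at hi
        have hk' : k = v⁻¹ * d ^ i := by rw [hv]; group
        rw [hk', show v⁻¹ * d ^ i * w * (v⁻¹ * d ^ i)⁻¹ = v⁻¹ * (d ^ i * w * (d ^ i)⁻¹) * v by group,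
          hm.comm _ (W.inv_mem hi) _ (conj_mem hm.norm (K.pow_mem hdK i) hw), mul_assoc, inv_mul_cancel, mul_one]
      have htel : ∀ j : ℕ, w * (d ^ j * w * (d ^ j)⁻¹) ∈ δ.range.map W.subtype := by
        intro j
        induction j with
        | zero => rw [pow_zero, one_mul, inv_one, mul_one, hm.exp w hw]; exact one_mem _
        | succ j ih =>
          have hj : d ^ j * w * (d ^ j)⁻¹ ∈ W := conj_mem hm.norm (K.pow_mem hdK j) hw
          have h2 : d ^ j * w * (d ^ j)⁻¹ * (d ^ (j + 1) * w * (d ^ (j + 1))⁻¹) ∈ δ.range.map W.subtype :=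
            ⟨δ ⟨_, hj⟩, ⟨_, rfl⟩, by
              show d ^ j * w * (d ^ j)⁻¹ * (d * (d ^ j * w * (d ^ j)⁻¹) * d⁻¹) = _
              rw [pow_succ']; group⟩
          have := mul_mem ih h2
          rwa [show w * (d ^ j * w * (d ^ j)⁻¹) * (d ^ j * w * (d ^ j)⁻¹ * (d ^ (j + 1) * w * (d ^ (j + 1))⁻¹)) =
            w * ((d ^ j * w * (d ^ j)⁻¹) * (d ^ j * w * (d ^ j)⁻¹)) * (d ^ (j + 1) * w * (d ^ (j + 1))⁻¹) by group,
            hm.exp _ hj, mul_one] at this
      rw [show ⁅w, k⁆ = w * (k * w⁻¹ * k⁻¹) by rw [commutatorElement_def]; group, hact]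
      exact htel i
    refine le_bot_iff.mp fun z hz => ?_
    obtain ⟨_, ⟨w, rfl⟩, hwz⟩ := hsurj hz.1
    rw [mem_bot]
    have hdz : d * z * d⁻¹ = z := by rw [← mem_centralizer_iff.mp hz.2 d hdK |>.symm, mul_inv_cancel_right]
    obtain ⟨a, ha⟩ : ∃ a, a = (w : G) := ⟨_, rfl⟩
    have hw' : a ∈ W := ha ▸ w.2
    have hza : z = a * (d * a * d⁻¹) := by rw [ha]; exact hwz.symm
    obtain ⟨b, hb⟩ : ∃ b, b = d * a * d⁻¹ := ⟨_, rfl⟩
    obtain ⟨c, hc⟩ : ∃ c, c = d * b * d⁻¹ := ⟨_, rfl⟩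
    have hb' : b ∈ W := hb ▸ conj_mem hm.norm hdK hw'
    have hc' : c ∈ W := hc ▸ conj_mem hm.norm hdK hb'
    have h1 : b * c = a * b := by
      rw [← hb] at hza
      calc b * c = d * (a * b) * d⁻¹ := by rw [hb, hc, hb]; group
        _ = d * z * d⁻¹ := by rw [hza]
        _ = a * b := hdz.trans hza
    have hca : c = a := mul_left_cancel (h1.trans (hm.comm a hw' b hb'))
    have hd3w : d * c * d⁻¹ = a := by
      rw [hc, hb, show d * (d * (d * a * d⁻¹) * d⁻¹) * d⁻¹ = d ^ 3 * a * (d ^ 3)⁻¹ by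
          simp only [pow_succ, pow_zero, one_mul, mul_inv_rev, mul_assoc],
        hm.comm _ hd3 _ hw', mul_inv_cancel_right]
    rw [hca, ← hb] at hd3w
    rw [hza, ← hb, hd3w, hm.exp a hw']
  rw [hZ, card_bot, mul_one] at h4
  -- the centraliser of `K` in `Q`
  obtain ⟨C, hC⟩ : ∃ C, C = Q ⊓ centralizer (K : Set G) := ⟨_, rfl⟩
  have hCQ : C ≤ Q := hC ▸ inf_le_left
  have hCT : C ≤ T := hCQ.trans h.Q_le_T
  have hCn : H ≤ normalizer (C : Set G) := hC ▸ norm_inf h.Q_norm (norm_cent h.norm_K)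
  have hCp : IsPGroup 2 C := h.Q_p.to_le hCQ
  have hWQ := h.W_le_Q hm
  have hWC : W ⊓ C = ⊥ := le_bot_iff.mp fun x hx => hZ.le ⟨hx.1, (hC.le hx.2).2⟩
  have hdecQ : ∀ q ∈ Q, ∃ w ∈ W, ∃ c ∈ C, q = w * c := by
    intro q hq
    obtain ⟨w, hw, hwc⟩ := exists_inner hm.toCore (P := W) (by rw [h3]; decide)
      (fun k hk => h.Q_move' hm hq hk) (fun x hx => (mem_centralizer_iff.mp (h.Q_cent hm hq) x hx).symm)
    exact ⟨w, hw, w * q, hC ▸ ⟨mul_mem (hWQ hw) hq, hwc⟩, by rw [← mul_assoc, hm.exp w hw, one_mul]⟩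
  have hcardQ : Nat.card Q = 4 * Nat.card C := by
    rw [← h4, ← Nat.card_prod]
    refine (Nat.card_congr (Equiv.ofBijective
      (fun p : ↥W × ↥C => (⟨(p.1 : G) * p.2, mul_mem (hWQ p.1.2) (hCQ p.2.2)⟩ : ↥Q)) ⟨?_, ?_⟩)).symm
    · rintro ⟨a, b⟩ ⟨a', b'⟩ e
      have e' : (a : G) * b = a' * b' := congrArg Subtype.val e
      have hmem : (a' : G)⁻¹ * a ∈ W ⊓ C := ⟨W.mul_mem (W.inv_mem a'.2) a.2, by
        rw [show (a' : G)⁻¹ * a = b' * (b : G)⁻¹ by
          rw [eq_mul_inv_iff_mul_eq, mul_assoc, e']; group]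
        exact C.mul_mem b'.2 (C.inv_mem b.2)⟩
      rw [hWC, mem_bot, inv_mul_eq_one] at hmem
      rw [hmem] at e'
      exact Prod.ext (Subtype.ext hmem.symm) (Subtype.ext (mul_left_cancel e'))
    · rintro ⟨q, hq⟩
      obtain ⟨w, hw, c, hc, rfl⟩ := hdecQ q hq
      exact ⟨(⟨w, hw⟩, ⟨c, hc⟩), rfl⟩
  -- a 2-group over `Q` in `M` has at most two cosets of `Q`
  have htwo : ∀ P : Subgroup G, IsPGroup 2 P → Q ≤ P → P ≤ M → ∀ a ∈ P, a ∉ Q → ∀ b ∈ P, b ∉ Q → a * b ∈ Q := by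
    intro P hP hQP hPM
    obtain ⟨P0, hP0⟩ : ∃ P0 : Subgroup G, ∀ x, x ∈ P0 ↔ x ∈ P ∧ x * d * x⁻¹ * d⁻¹ ∈ W := by
      refine ⟨{ carrier := {x | x ∈ P ∧ x * d * x⁻¹ * d⁻¹ ∈ W}
                one_mem' := ⟨one_mem _, by simp⟩
                mul_mem' := ?_
                inv_mem' := ?_ }, fun x => Iff.rfl⟩
      · rintro x y ⟨hx, hx'⟩ ⟨hy, hy'⟩
        refine ⟨mul_mem hx hy, ?_⟩
        obtain ⟨c, hc⟩ : ∃ c, c = y * d * y⁻¹ * d⁻¹ := ⟨_, rfl⟩
        rw [← hc] at hy'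
        have hMW : M ≤ normalizer (W : Set G) := h.M_norm_W hm
        rw [show x * y * d * (x * y)⁻¹ * d⁻¹ = (x * c * x⁻¹) * (x * d * x⁻¹ * d⁻¹) by rw [hc]; group]
        exact W.mul_mem (conj_mem hMW (hPM hx) hy') hx'
      · rintro x ⟨hx, hx'⟩
        refine ⟨inv_mem hx, ?_⟩
        obtain ⟨c, hc⟩ : ∃ c, c = x * d * x⁻¹ * d⁻¹ := ⟨_, rfl⟩
        rw [← hc] at hx'
        have hMW : M ≤ normalizer (W : Set G) := h.M_norm_W hm
        rw [show x⁻¹ * d * x⁻¹⁻¹ * d⁻¹ = x⁻¹ * c⁻¹ * x⁻¹⁻¹ by rw [hc]; group]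
        exact conj_mem hMW (inv_mem (hPM hx)) (inv_mem hx')
    have hP0Q : P0 ≤ Q := by
      refine (h.hsyl P0 (hP.to_le fun x hx => ((hP0 x).mp hx).1)
        (fun q hq => (hP0 q).mpr ⟨hQP hq, h.Q_move' hm hq hdK⟩)
        (fun x hx => hPM ((hP0 x).mp hx).1) fun x hx k hk => ?_).le
      rw [← hm.eq]
      obtain ⟨hxP, hxd⟩ := (hP0 x).mp hx
      have hxM := hPM hxP
      let X : Subgroup ↥K :=
        { carrier := {k | x * (k : G) * x⁻¹ * (k : G)⁻¹ ∈ W}
          one_mem' := by simp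
          mul_mem' := by
            intro a b ha hb
            show x * ((a : G) * b) * x⁻¹ * ((a : G) * b)⁻¹ ∈ W
            rw [show x * ((a : G) * b) * x⁻¹ * ((a : G) * b)⁻¹ =
              (x * a * x⁻¹ * (a : G)⁻¹) * ((a : G) * (x * b * x⁻¹ * (b : G)⁻¹) * (a : G)⁻¹) by group]
            exact W.mul_mem ha (conj_mem hm.norm a.2 hb)
          inv_mem' := by
            intro a ha
            show x * (a : G)⁻¹ * x⁻¹ * (a : G)⁻¹⁻¹ ∈ W
            rw [show x * (a : G)⁻¹ * x⁻¹ * (a : G)⁻¹⁻¹ = (a : G)⁻¹ * (x * a * x⁻¹ * (a : G)⁻¹)⁻¹ * (a : G)⁻¹⁻¹ by group]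
            exact conj_mem hm.norm (K.inv_mem a.2) (W.inv_mem ha) }
      have hxW : ∀ w ∈ W, x * w * x⁻¹ ∈ W := fun w hw => conj_mem (h.M_norm_W hm) hxM hw
      obtain ⟨i, hi⟩ := hgen ⟨k, hk⟩
      have h1 : (⟨d, hdK⟩ : K) ∈ X := hxd
      have h2 : (⟨_, hWK hi⟩ : K) ∈ X := W.mul_mem (hxW _ hi) (W.inv_mem hi)
      have h5 := X.mul_mem (X.inv_mem (X.pow_mem h1 i)) h2
      have e : ((⟨d, hdK⟩ : K) ^ i)⁻¹ * (⟨d ^ i * k, hWK hi⟩ : K) = ⟨k, hk⟩ := Subtype.ext (by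
        show (d ^ i)⁻¹ * (d ^ i * k) = k
        group)
      rw [e] at h5
      exact h5
    intro a ha haQ b hb hbQ
    refine hP0Q ((hP0 _).mpr ⟨mul_mem ha hb, ?_⟩)
    -- both invert `d` modulo `W`
    have hinv : ∀ y ∈ P, y ∉ Q → y * d * y⁻¹ * d ∈ W := by
      intro y hy hyQ
      have hyd : y * d * y⁻¹ ∈ K := conj_mem h.M_norm (hPM hy) hdK
      obtain ⟨i, hi⟩ := hgen ⟨_, hyd⟩
      rcases (show i % 3 = 0 ∨ i % 3 = 1 ∨ i % 3 = 2 by omega) with e | e | e <;>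
        (have hi' : d ^ (i % 3) * (y * d * y⁻¹) ∈ W := by
          have h6 : (d ^ 3) ^ (i / 3) ∈ W := W.pow_mem hd3 _
          have h7 : d ^ i = (d ^ 3) ^ (i / 3) * d ^ (i % 3) := by rw [← pow_mul, ← pow_add, Nat.div_add_mod]
          rw [h7, mul_assoc] at hi
          exact (Subgroup.mul_mem_cancel_left W h6).mp hi
         rw [e] at hi')
      · rw [pow_zero, one_mul] at hi'
        -- `d` would lie in `W`
        exfalso
        refine hd0 ?_
        have := conj_mem (h.M_norm_W hm) (inv_mem (hPM hy)) hi'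
        rwa [show y⁻¹ * (y * d * y⁻¹) * y⁻¹⁻¹ = d by group] at this
      · rw [pow_one] at hi'
        have := conj_mem hm.norm (K.inv_mem hdK) hi'
        rwa [show d⁻¹ * (d * (y * d * y⁻¹)) * d⁻¹⁻¹ = y * d * y⁻¹ * d by group] at this
      · exfalso
        refine hyQ (hP0Q ((hP0 y).mpr ⟨hy, ?_⟩))
        have h8 : d * (d ^ 2 * (y * d * y⁻¹)) * d⁻¹ ∈ W := conj_mem hm.norm hdK hi'
        have h9 := W.mul_mem (W.inv_mem hd3) h8
        rwa [show (d ^ 3)⁻¹ * (d * (d ^ 2 * (y * d * y⁻¹)) * d⁻¹) = y * d * y⁻¹ * d⁻¹ by group] at h9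
    have h1 := hinv a ha haQ
    have h2 := hinv b hb hbQ
    have haW : ∀ w ∈ W, a * w * a⁻¹ ∈ W := fun w hw => conj_mem (h.M_norm_W hm) (hPM ha) hw
    rw [show a * b * d * (a * b)⁻¹ * d⁻¹ =
      a * (b * d * b⁻¹ * d) * a⁻¹ * (a * d⁻¹ * a⁻¹ * d⁻¹) by group]
    refine W.mul_mem (haW _ h2) ?_
    rw [show a * d⁻¹ * a⁻¹ * d⁻¹ = d * (a * d * a⁻¹ * d)⁻¹ * d⁻¹ by group]
    exact conj_mem hm.norm hdK (W.inv_mem h1)
  -- `T` has index two over `Q`
  obtain ⟨t, htT, htQ⟩ : ∃ t ∈ T, t ∉ Q := by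
    by_contra hc
    push Not at hc
    exact h.T_ne ((le_antisymm hc h.Q_le_T) ▸ h.Q_norm)
  have hcardT : Nat.card T = 8 * Nat.card C := by
    have hi : (Q.subgroupOf T).index = 2 := by
      rw [index_eq_two_iff]
      refine ⟨⟨t, htT⟩, fun b => ?_⟩
      by_cases hb : (b : G) ∈ Q
      · refine Or.inr ⟨hb, fun hc => htQ ?_⟩
        have := Q.mul_mem (Q.inv_mem hb) (show (b : G) * t ∈ Q from hc)
        rwa [inv_mul_cancel_left] at this
      · exact Or.inl ⟨htwo T h.T_p h.Q_le_T (hTH.trans h.H_le_M) _ b.2 hb t htT htQ, hb⟩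
    have := (Q.subgroupOf T).card_mul_index
    rw [hi, Nat.card_congr (subgroupOfEquivOfLe h.Q_le_T).toEquiv, hcardQ] at this
    omega
  obtain ⟨w0, hw0, hw0t⟩ : ∃ w ∈ W, t * w ≠ w * t := by
    by_contra hc
    push Not at hc
    exact htQ ((h.T_cent hm).le ⟨htT, mem_centralizer_iff.mpr fun w hw => (hc w hw).symm⟩)
  -- disjointness
  have hdisj : ∀ y ∈ normalizer (T : Set G), y ∉ M → C ⊓ cjS y C = ⊥ := by
    intro y hy hyM
    have hyT : cjS y T = T := cjS_eq_iff.mpr hy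
    have hTC : T ≤ normalizer ((C ⊓ cjS y C : Subgroup G) : Set G) := by
      refine norm_inf (hTH.trans hCn) ?_
      rw [normalizer_cjS, ← hyT]
      exact cjS_mono (hTH.trans hCn)
    refine h.no_common hy hyM (hCp.to_le inf_le_left) (h.sup.trans (sup_le ?_ hTC)) ?_
    · refine norm_le fun k hk x hx => ?_
      rw [mem_centralizer_iff.mp (hC.le hx.1).2 k hk, mul_inv_cancel_right]
      exact hx
    · refine (cjS_mono h.sup).trans ?_
      rw [cjS_sup, hyT]
      refine sup_le (norm_le fun k hk x hx => ?_) hTC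
      have h1 : y⁻¹ * x * y ∈ centralizer (K : Set G) := (hC.le (mem_cjS.mp hx.2)).2
      have h2 := mem_centralizer_iff.mp h1 _ (mem_cjS.mp hk)
      have h3 : k * x = x * k := by
        calc k * x = y * (y⁻¹ * k * y * (y⁻¹ * x * y)) * y⁻¹ := by group
          _ = y * (y⁻¹ * x * y * (y⁻¹ * k * y)) * y⁻¹ := by rw [h2]
          _ = x * k := by group
      rw [h3, mul_inv_cancel_right]
      exact hx
  -- a Sylow subgroup
  obtain ⟨S, hTS⟩ := h.T_p.exists_le_sylow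
  have hSM : ∀ x ∈ (S : Subgroup G), x ∈ M → x ∈ T := by
    intro x hxS hxM
    have hP : IsPGroup 2 ↥((S : Subgroup G) ⊓ M) := S.isPGroup'.to_le inf_le_left
    by_cases hxQ : x ∈ Q
    · exact h.Q_le_T hxQ
    have := htwo _ hP (le_inf (h.Q_le_T.trans hTS) (h.Q_le_H.trans h.H_le_M)) inf_le_right x ⟨hxS, hxM⟩ hxQ t
      ⟨hTS htT, h.H_le_M (hTH htT)⟩ htQ
    have := T.mul_mem (h.Q_le_T this) (T.inv_mem htT)
    rwa [mul_inv_cancel_right] at this
  refine Spor.SelfCentFour.sectional_of_sylow S ?_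
  by_cases hC1 : C = ⊥
  · -- no normal elementary abelian subgroup of order eight
    refine small_of_rank (Char.FourGen.sectional_rank S.isPGroup' fun B hB hBc hB2 => ?_)
    rw [hC1, card_bot, mul_one] at hcardQ hcardT
    have hWeq : W = Q := eq_of_le_of_card_ge hWQ (by omega)
    obtain ⟨B', hB'⟩ : ∃ B', B' = B.map (S : Subgroup G).subtype := ⟨_, rfl⟩
    have hB'n : (S : Subgroup G) ≤ normalizer (B' : Set G) := norm_le fun s hs x hx => by
      rw [hB'] at hx ⊢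
      obtain ⟨b, hb, rfl⟩ := hx
      exact ⟨_, hB.conj_mem b hb ⟨s, hs⟩, rfl⟩
    have hB'c : ∀ a ∈ B', ∀ b ∈ B', a * b = b * a := by
      rw [hB']
      rintro _ ⟨a, ha, rfl⟩ _ ⟨b, hb, rfl⟩
      exact congrArg (fun z : B => ((z : (S : Subgroup G)) : G)) (hBc.1.1 ⟨a, ha⟩ ⟨b, hb⟩)
    have hB'2 : ∀ a ∈ B', a * a = 1 := by
      rw [hB']
      rintro _ ⟨a, ha, rfl⟩
      rw [← map_mul, ← pow_two, hB2 a ha, map_one]
    rw [← card_map_of_injective (S : Subgroup G).subtype_injective (K := B), ← hB']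
    have hB'S : B' ≤ (S : Subgroup G) := hB' ▸ map_subtype_le _
    -- `B'` lies in `T`
    have hBT : B' ≤ T := by
      by_contra hnle
      obtain ⟨P, hP⟩ : ∃ P, P = T ⊔ B' := ⟨_, rfl⟩
      have hPS : P ≤ (S : Subgroup G) := hP ▸ sup_le hTS hB'S
      have hlt : T.subgroupOf P < ⊤ := lt_top_iff_ne_top.mpr fun e =>
        hnle ((hP ▸ (le_sup_right : B' ≤ T ⊔ B')).trans (subgroupOf_eq_top.mp e))
      haveI : Group.IsNilpotent ↥P := (S.isPGroup'.to_le hPS).isNilpotent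
      obtain ⟨x, hx, hxT⟩ := SetLike.exists_of_lt (Group.normalizerCondition_of_isNilpotent _ hlt)
      have hxP : (x : G) ∈ T ⊔ B' := hP ▸ x.2
      rw [← SetLike.mem_coe, coe_mul_of_left_le_normalizer_right T B' (hTS.trans hB'n)] at hxP
      obtain ⟨a, ha, n, hn, han⟩ := hxP
      have hxN : (x : G) ∈ normalizer (T : Set G) := mem_norm fun y hy => by
        have hyP : y ∈ P := hP ▸ mem_sup_left hy
        exact (mem_normalizer_iff.mp hx ⟨y, hyP⟩).mp hy
      have hnN : n ∈ normalizer (T : Set G) := by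
        rw [show n = a⁻¹ * (x : G) by rw [← show a * n = (x : G) from han]; group]
        exact mul_mem (inv_mem (le_normalizer ha)) hxN
      have hnT : n ∉ T := fun e => hxT (show (x : G) ∈ T from han ▸ T.mul_mem ha e)
      refine hnT (hSM n (hB'S hn) (h.le_M hm.isPGroup hm.ne (h.W_norm hm) ?_))
      -- `n` normalises `W`
      -- the conjugate of a moved vector commutes with it
      have hmove : ∀ v ∈ W, t * v ≠ v * t → n * v * n⁻¹ ∈ W := by
        intro v hv hvt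
        have hvS : v ∈ (S : Subgroup G) := hTS ((hWQ.trans h.Q_le_T) hv)
        obtain ⟨v', hv'⟩ : ∃ v', v' = n * v * n⁻¹ := ⟨_, rfl⟩
        have hvT : v' ∈ T := hv' ▸ (mem_normalizer_iff.mp hnN v).mp ((hWQ.trans h.Q_le_T) hv)
        have h6 : v'⁻¹ = v' := by
          rw [hv', show (n * v * n⁻¹)⁻¹ = n * v⁻¹ * n⁻¹ by group, hm.inv_eq hv]
        have hmem : v * v' ∈ B' := by
          have hb : v * n * v⁻¹ * n⁻¹ ∈ B' := B'.mul_mem (conj_mem hB'n hvS hn) (B'.inv_mem hn)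
          rwa [show v * n * v⁻¹ * n⁻¹ = v * v'⁻¹ by rw [hv']; group, h6] at hb
        have hcomm : v * v' = v' * v := by
          rw [← inv_eq_of_mul_eq_one_left (hB'2 _ hmem), mul_inv_rev, h6, hm.inv_eq hv]
        rw [← hv']
        by_cases hq : v' ∈ Q
        · rwa [← hWeq] at hq
        -- otherwise `v'` acts on `W` as `t`
        exfalso
        have h7 := htwo T h.T_p h.Q_le_T (hTH.trans h.H_le_M) v' hvT hq t htT htQ
        rw [← hWeq] at h7
        have h8 := hm.comm _ h7 _ hv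
        apply hvt
        calc t * v = v'⁻¹ * (v' * t * v) := by group
          _ = v'⁻¹ * (v * (v' * t)) := by rw [h8]
          _ = v'⁻¹ * (v * v') * t := by group
          _ = v * t := by rw [hcomm]; group
      refine mem_norm fun v hv => ?_
      by_cases hvt : t * v = v * t
      · have h1 : t * (v * w0) ≠ v * w0 * t := fun e => hw0t (mul_left_cancel (a := v) (by
          rw [← mul_assoc, ← hvt, mul_assoc, ← mul_assoc v w0 t]; exact e))
        have := W.mul_mem (hmove _ (W.mul_mem hv hw0) h1) (hmove w0 hw0 hw0t)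
        rwa [show n * (v * w0) * n⁻¹ * (n * w0 * n⁻¹) = n * (v * (w0 * w0)) * n⁻¹ by group,
          hm.exp w0 hw0, mul_one] at this
      · exact hmove v hv hvt
    obtain ⟨k, hk⟩ := card_dvd_of_le hBT
    rw [hcardT] at hk
    by_contra hgt
    have heq : B' = T := eq_of_le_of_card_ge hBT (by
      rw [hcardT]
      rcases k with _ | _ | k
      · simp at hk
      · omega
      · nlinarith)
    exact hw0t (hB'c t (heq ▸ htT) w0 (heq ▸ (hWQ.trans h.Q_le_T) hw0))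
  obtain ⟨z, hzC, hz1, hz2, hzT⟩ : ∃ z ∈ C, z ≠ 1 ∧ z * z = 1 ∧ ∀ x ∈ T, x * z = z * x := by
    haveI : Group.IsNilpotent ↥T := h.T_p.isNilpotent
    haveI : (C.subgroupOf T).Normal := normal_subgroupOf_of_le_normalizer (hTH.trans hCn)
    have hne : C.subgroupOf T ≠ ⊥ := fun e => hC1 ((subgroupOf_eq_bot.mp e).eq_bot_of_le hCT)
    have hne2 := Grp.inf_center_ne_bot _ hne
    obtain ⟨u, hu, hu1⟩ := (bot_or_exists_ne_one _).resolve_left hne2
    have hp : IsPGroup 2 ↥T := h.T_p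
    obtain ⟨k, hk⟩ := hp u
    obtain ⟨j, hj, hj2⟩ : ∃ j : ℕ, u ^ 2 ^ j ≠ 1 ∧ (u ^ 2 ^ j) ^ 2 = 1 := by
      induction k with
      | zero => rw [pow_zero, pow_one] at hk; exact absurd hk hu1
      | succ k ih =>
        by_cases h' : u ^ 2 ^ k = 1
        · exact ih h'
        · exact ⟨k, h', by rw [← pow_mul, ← pow_succ]; exact hk⟩
    refine ⟨((u ^ 2 ^ j : ↥T) : G), ?_, fun e => hj (Subtype.ext e), ?_, fun x hx => ?_⟩
    · exact mem_subgroupOf.mp (pow_mem hu.1 _)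
    · rw [← pow_two, ← Subgroup.coe_pow, hj2, OneMemClass.coe_one]
    · exact congrArg Subtype.val (mem_center_iff.mp (pow_mem hu.2 _) ⟨x, hx⟩)
  have hzS : z ∈ T := hCT hzC
  -- the centraliser of `z` in `S` is `T`
  have hCz : ∀ x ∈ (S : Subgroup G), x * z = z * x → x ∈ T := by
    intro x hx hxz
    have hzp : IsPGroup 2 (zpowers z) := hCp.to_le (zpowers_le.mpr hzC)
    have hne : zpowers z ≠ ⊥ := fun e => hz1 (zpowers_eq_bot.mp e)
    have hfix : ∀ y : G, y * z = z * y → y ∈ normalizer (zpowers z : Set G) := fun y hy =>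
      mem_norm fun w hw => by
        obtain ⟨i, rfl⟩ := mem_zpowers_iff.mp hw
        rw [(show Commute y (z ^ i) from Commute.zpow_right hy i).eq, mul_inv_cancel_right]
        exact zpow_mem (mem_zpowers z) i
    refine hSM x hx (h.le_M hzp hne (h.sup.trans (sup_le (fun k hk => hfix k ?_) fun a ha => hfix a (hzT a ha)))
      (hfix x hxz))
    exact mem_centralizer_iff.mp (hC.le hzC).2 k hk
  -- elements of `S` normalising `T` outside `T`
  have hout : ∀ x ∈ (S : Subgroup G), x ∉ T → x ∉ M := fun x hx hxT hxM => hxT (hSM x hx hxM)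
  have hTfix : cjS g T = T := cjS_eq_iff.mpr hgT
  -- quotient maps
  have hmaps : ∀ y ∈ normalizer (T : Set G), y ∉ M → ∀ (hn : (C.subgroupOf T).Normal)
      (hn' : ((cjS y C).subgroupOf T).Normal), ∀ x : ↥T, (x : G) ∈ C → (x : G) ∈ cjS y C → x = 1 :=
    fun y hy hyM _ _ x hx hx' => Subtype.ext (mem_bot.mp ((hdisj y hy hyM).le ⟨hx, hx'⟩))
  haveI hCnT : (C.subgroupOf T).Normal := normal_subgroupOf_of_le_normalizer (hTH.trans hCn)
  obtain ⟨π, hπ⟩ : ∃ π : ↥T →* ↥T ⧸ C.subgroupOf T, π = QuotientGroup.mk' _ := ⟨_, rfl⟩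
  have hπ1 : ∀ x : ↥T, π x = 1 ↔ (x : G) ∈ C := fun x => by
    rw [hπ, QuotientGroup.mk'_apply, QuotientGroup.eq_one_iff, mem_subgroupOf]
  have hD8 : Nat.card (↥T ⧸ C.subgroupOf T) = 8 := by
    have h1 := (C.subgroupOf T).card_mul_index
    rw [Nat.card_congr (subgroupOfEquivOfLe hCT).toEquiv, hcardT, index_eq_card, mul_comm 8] at h1
    exact Nat.eq_of_mul_eq_mul_left Nat.card_pos h1
  have hwT : w0 ∈ T := h.W_le_T hm hw0
  have hDna : ∃ a b : ↥T ⧸ C.subgroupOf T, a * b ≠ b * a := by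
    refine ⟨π ⟨t, htT⟩, π ⟨w0, hwT⟩, fun e => hw0t ?_⟩
    rw [← commutatorElement_eq_one_iff_mul_comm, ← map_commutatorElement, hπ1] at e
    have e' : t * w0 * t⁻¹ * w0⁻¹ ∈ C := e
    have h1 : t * w0 * t⁻¹ * w0⁻¹ ∈ W ⊓ C :=
      ⟨W.mul_mem (conj_mem (h.M_norm_W hm) (h.H_le_M (hTH htT)) hw0) (W.inv_mem hw0), e'⟩
    rw [hWC, mem_bot, mul_inv_eq_one, mul_inv_eq_iff_eq_mul] at h1
    exact h1
  -- central involutions of `T`
  obtain ⟨E, hE⟩ : ∃ E : Set G, E = {e | e ∈ T ∧ e * e = 1 ∧ ∀ x ∈ T, x * e = e * x} := ⟨_, rfl⟩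
  have hE4 : ∀ y ∈ normalizer (T : Set G), y ∉ M → Nat.card ↥E ≤ 4 := by
    intro y hy hyM
    haveI : ((cjS y C).subgroupOf T).Normal := normal_subgroupOf_of_le_normalizer (by
      rw [normalizer_cjS, ← cjS_eq_iff.mpr hy]
      exact cjS_mono (hTH.trans hCn))
    obtain ⟨π', hπ'⟩ : ∃ π' : ↥T →* ↥T ⧸ (cjS y C).subgroupOf T, π' = QuotientGroup.mk' _ := ⟨_, rfl⟩
    have hcC : Nat.card ↥((cjS y C).subgroupOf T) = Nat.card C := by
      rw [Nat.card_congr (subgroupOfEquivOfLe (show cjS y C ≤ T by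
        rw [← cjS_eq_iff.mpr hy]; exact cjS_mono hCT)).toEquiv, card_cjS]
    have hD8' : Nat.card (↥T ⧸ (cjS y C).subgroupOf T) = 8 := by
      have h1 := ((cjS y C).subgroupOf T).card_mul_index
      rw [hcC, hcardT, index_eq_card, mul_comm 8] at h1
      exact Nat.eq_of_mul_eq_mul_left Nat.card_pos h1
    have hna' : ∃ a b : ↥T ⧸ (cjS y C).subgroupOf T, a * b ≠ b * a := by
      have hyT : ∀ u : G, u ∈ T → y * u * y⁻¹ ∈ T := fun u hu => (mem_normalizer_iff.mp hy u).mp hu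
      refine ⟨π' ⟨_, hyT t htT⟩, π' ⟨_, hyT w0 hwT⟩, fun e => hw0t ?_⟩
      rw [← commutatorElement_eq_one_iff_mul_comm, ← map_commutatorElement, hπ', QuotientGroup.mk'_apply,
        QuotientGroup.eq_one_iff, mem_subgroupOf, mem_cjS] at e
      have e' : t * w0 * t⁻¹ * w0⁻¹ ∈ C := by
        convert e using 1
        simp only [commutatorElement_def, Subgroup.coe_mul, Subgroup.coe_inv]
        group
      have h1 : t * w0 * t⁻¹ * w0⁻¹ ∈ W ⊓ C :=
        ⟨W.mul_mem (conj_mem (h.M_norm_W hm) (h.H_le_M (hTH htT)) hw0) (W.inv_mem hw0), e'⟩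
      rw [hWC, mem_bot, mul_inv_eq_one, mul_inv_eq_iff_eq_mul] at h1
      exact h1
    have h1 := center_eight hD8 hDna
    have h2 := center_eight hD8' hna'
    have hcen : ∀ {Y : Type u} [Group Y] (ψ : ↥T →* Y), Function.Surjective ψ → ∀ e : ↥E,
        ∀ he : (e : G) ∈ T, ψ ⟨e, he⟩ ∈ center Y := by
      intro Y _ ψ hψ e he
      refine mem_center_iff.mpr fun v => ?_
      obtain ⟨x, rfl⟩ := hψ v
      rw [← map_mul, ← map_mul]
      refine congrArg ψ (Subtype.ext ?_)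
      exact (hE.le e.2).2.2 x x.2
    have hEm : ∀ e : ↥E, (e : G) ∈ T := fun e => (hE.le e.2).1
    refine le_trans (Nat.card_le_card_of_injective (β := ↥(center (↥T ⧸ C.subgroupOf T)) × ↥(center (↥T ⧸ (cjS y C).subgroupOf T)))
      (fun e => (⟨π ⟨e, hEm e⟩, hcen π (hπ ▸ QuotientGroup.mk'_surjective _) e (hEm e)⟩,
        ⟨π' ⟨e, hEm e⟩, hcen π' (hπ' ▸ QuotientGroup.mk'_surjective _) e (hEm e)⟩)) fun a b hab => ?_) ?_
    · simp only [Prod.mk.injEq, Subtype.mk.injEq] at hab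
      obtain ⟨r, hr⟩ : ∃ r : ↥T, r = (⟨a, hEm a⟩ : ↥T)⁻¹ * ⟨b, hEm b⟩ := ⟨_, rfl⟩
      have r1 : (r : G) ∈ C := (hπ1 r).mp (by rw [hr, map_mul, map_inv, hab.1, inv_mul_cancel])
      have r2 : (r : G) ∈ cjS y C := by
        have : π' r = 1 := by rw [hr, map_mul, map_inv, hab.2, inv_mul_cancel]
        rw [hπ', QuotientGroup.mk'_apply, QuotientGroup.eq_one_iff, mem_subgroupOf] at this
        exact this
      have := hmaps y hy hyM inferInstance inferInstance r r1 r2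
      rw [hr, inv_mul_eq_one] at this
      exact Subtype.ext (congrArg (fun v : ↥T => (v : G)) this)
    · rw [Nat.card_prod]
      exact (Nat.mul_le_mul h1 h2).trans (by norm_num)
  -- at most two cosets of `T` in its normaliser in `S`
  obtain ⟨S1, hS1⟩ : ∃ S1, S1 = (S : Subgroup G) ⊓ normalizer (T : Set G) := ⟨_, rfl⟩
  have hTS1 : T ≤ S1 := hS1 ▸ le_inf hTS le_normalizer
  have hzE : z ∈ E := by rw [hE]; exact ⟨hzS, hz2, hzT⟩
  have hEconj : ∀ x ∈ normalizer (T : Set G), ∀ e ∈ E, x * e * x⁻¹ ∈ E := by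
    intro x hx e he
    rw [hE] at he ⊢
    obtain ⟨he1, he2, he3⟩ := he
    refine ⟨(mem_normalizer_iff.mp hx e).mp he1, ?_, fun a ha => ?_⟩
    · rw [show x * e * x⁻¹ * (x * e * x⁻¹) = x * (e * e) * x⁻¹ by group, he2]; group
    · have h5 : x⁻¹ * a * x ∈ T := by
        have := (mem_normalizer_iff.mp (inv_mem hx) a).mp ha
        rwa [inv_inv] at this
      calc a * (x * e * x⁻¹) = x * (x⁻¹ * a * x * e) * x⁻¹ := by group
        _ = x * (e * (x⁻¹ * a * x)) * x⁻¹ := by rw [he3 _ h5]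
        _ = x * e * x⁻¹ * a := by group
  have hpair : ∀ a ∈ S1, a ∉ T → ∀ b ∈ S1, b ∉ T → a * b ∈ T := by
    intro a ha haT b hb hbT
    have haN := (hS1.le ha).2
    have haM := hout a (hS1.le ha).1 haT
    haveI : Finite ↥E := inferInstance
    -- the index of `T`
    obtain ⟨i, hi⟩ : ∃ i, i = (T.subgroupOf S1).index := ⟨_, rfl⟩
    let φ : ↥S1 ⧸ T.subgroupOf S1 → ↥E := Quotient.lift (fun x : ↥S1 => (⟨(x : G) * z * (x : G)⁻¹,
      hEconj _ (hS1.le x.2).2 z hzE⟩ : ↥E)) fun u v huv => Subtype.ext (by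
        have h5 : u⁻¹ * v ∈ T.subgroupOf S1 := QuotientGroup.leftRel_apply.mp huv
        have h6 := hzT _ (mem_subgroupOf.mp h5)
        show (u : G) * z * (u : G)⁻¹ = (v : G) * z * (v : G)⁻¹
        calc (u : G) * z * (u : G)⁻¹ = (u : G) * (z * ((u⁻¹ * v : ↥S1) : G)) * (v : G)⁻¹ := by push_cast; group
          _ = (u : G) * (((u⁻¹ * v : ↥S1) : G) * z) * (v : G)⁻¹ := by rw [h6]
          _ = (v : G) * z * (v : G)⁻¹ := by push_cast; group)
    have hφ1 : ∀ q, (φ q : G) ≠ 1 := fun q => Quotient.inductionOn q fun u e => hz1 (by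
      have e' : (u : G) * z * (u : G)⁻¹ = 1 := e
      calc z = (u : G)⁻¹ * ((u : G) * z * (u : G)⁻¹) * u := by group
        _ = 1 := by rw [e']; group)
    have hinj : Function.Injective φ := fun q r => Quotient.inductionOn₂ q r fun u v e => by
      refine Quotient.sound (QuotientGroup.leftRel_apply.mpr (mem_subgroupOf.mpr ?_))
      have e' : (u : G) * z * (u : G)⁻¹ = (v : G) * z * (v : G)⁻¹ := congrArg Subtype.val e
      have hu2 : ((u⁻¹ * v : ↥S1) : G) ∈ (S : Subgroup G) := (hS1.le (u⁻¹ * v).2).1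
      refine hCz _ hu2 ?_
      push_cast
      calc (u : G)⁻¹ * v * z = (u : G)⁻¹ * ((v : G) * z * (v : G)⁻¹) * v := by group
        _ = (u : G)⁻¹ * ((u : G) * z * (u : G)⁻¹) * v := by rw [e']
        _ = z * ((u : G)⁻¹ * v) := by group
    have hlt : Nat.card (↥S1 ⧸ T.subgroupOf S1) < 4 := by
      have h1E : (1 : G) ∈ E := by rw [hE]; exact ⟨one_mem _, mul_one 1, fun x _ => by simp⟩
      refine lt_of_lt_of_le ?_ (hE4 a haN haM)
      haveI : Fintype ↥E := Fintype.ofFinite _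
      haveI : Fintype (↥S1 ⧸ T.subgroupOf S1) := Fintype.ofFinite _
      rw [Nat.card_eq_fintype_card, Nat.card_eq_fintype_card]
      exact Fintype.card_lt_of_injective_of_notMem φ hinj (b := ⟨1, h1E⟩) fun ⟨q, hq⟩ => hφ1 q (congrArg Subtype.val hq)
    rw [← index_eq_card, ← hi] at hlt
    have hS1p : IsPGroup 2 S1 := S.isPGroup'.to_le (hS1 ▸ inf_le_left)
    obtain ⟨k, hk⟩ := IsPGroup.index (p := 2) hS1p (T.subgroupOf S1)
    have hk2 : k ≤ 1 := by
      by_contra hk2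
      have : 4 ≤ 2 ^ k := le_trans (by norm_num) (Nat.pow_le_pow_right (by norm_num : 0 < 2) (show 2 ≤ k by omega))
      rw [← hk, ← hi] at this
      omega
    have ha' : (⟨a, ha⟩ : ↥S1) ∉ T.subgroupOf S1 := haT
    have hb' : (⟨b, hb⟩ : ↥S1) ∉ T.subgroupOf S1 := hbT
    rcases (show k = 0 ∨ k = 1 by omega) with rfl | rfl
    · rw [pow_zero, index_eq_one] at hk
      exact absurd (hk ▸ mem_top _) ha'
    · exact (Subgroup.mul_mem_iff_of_index_two (H := T.subgroupOf S1) (by rw [hk, pow_one]) (a := (⟨a, ha⟩ : ↥S1))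
        (b := (⟨b, hb⟩ : ↥S1))).mpr (iff_of_false ha' hb')
  -- `S` normalises `T`
  have hSeq : ∀ x ∈ (S : Subgroup G), x ∈ normalizer (T : Set G) :=
    eights_norm (W := W) S.isPGroup' hTS h.Q_le_T hCQ (hTH.trans hCn) hdecQ hm.exp
      (fun w hw c hc => mem_centralizer_iff.mp (hC.le hc).2 w (hWK hw))
      hcardQ hcardT hD8 hDna π (hπ ▸ QuotientGroup.mk'_surjective _) hπ1 hzC hz1 hz2 hzT
      (fun y hyS hy hyT => hdisj y hy (hout y hyS hyT)) hCz
      (fun v hv hvn => hSM v hv (h.le_M h.Q_p h.Q_ne h.Q_norm hvn))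
      (by rw [← hS1]; exact hpair)
      (fun y hyS hy hyT X hXT hX2 hXc => le_trans
        (Nat.card_le_card_of_injective (β := ↥E) (fun v => ⟨v, hE.ge ⟨hXT v.2, hX2 v v.2, hXc v v.2⟩⟩)
          fun a b hab => Subtype.ext (congrArg (fun e : ↥E => (e : G)) hab))
        (hE4 y hy (hout y hyS hyT)))
  obtain ⟨y, hy, hyM, hy'⟩ : ∃ y ∈ normalizer (T : Set G), y ∉ M ∧
      ∀ v ∈ (S : Subgroup G), v ∉ T → v * y⁻¹ ∈ T ∧ y * y ∈ T := by
    by_cases hex : ∃ y ∈ (S : Subgroup G), y ∉ T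
    · obtain ⟨y, hyS, hyT⟩ := hex
      have hy1 : y ∈ S1 := hS1.ge ⟨hyS, hSeq y hyS⟩
      refine ⟨y, hSeq y hyS, hout y hyS hyT, fun v hv hvT => ⟨hpair v (hS1.ge ⟨hv, hSeq v hv⟩) hvT y⁻¹
        (inv_mem hy1) (fun e => hyT (by simpa using T.inv_mem e)), hpair y hy1 hyT y hy1 hyT⟩⟩
    · exact ⟨g, hgT, hgM, fun v hv hvT => absurd ⟨v, hv, hvT⟩ hex⟩
  have hCyn : T ≤ normalizer (cjS y C : Set G) := by
    rw [normalizer_cjS, ← cjS_eq_iff.mpr hy]
    exact cjS_mono (hTH.trans hCn)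
  haveI : ((cjS y C).subgroupOf T).Normal := normal_subgroupOf_of_le_normalizer hCyn
  have hy8 : Nat.card (↥T ⧸ (cjS y C).subgroupOf T) = 8 := by
    have h1 := ((cjS y C).subgroupOf T).card_mul_index
    rw [Nat.card_congr (subgroupOfEquivOfLe (show cjS y C ≤ T from
      (cjS_mono hCT).trans (cjS_eq_iff.mpr hy).le)).toEquiv, card_cjS, hcardT, index_eq_card, mul_comm 8] at h1
    exact Nat.eq_of_mul_eq_mul_left Nat.card_pos h1
  have hyna : ∃ a b : ↥T ⧸ (cjS y C).subgroupOf T, a * b ≠ b * a := by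
    obtain ⟨a, b, hab⟩ := hDna
    obtain ⟨a, rfl⟩ := (hπ ▸ QuotientGroup.mk'_surjective _ : Function.Surjective π) a
    obtain ⟨b, rfl⟩ := (hπ ▸ QuotientGroup.mk'_surjective _ : Function.Surjective π) b
    have hyT : ∀ v : ↥T, y * v * y⁻¹ ∈ T := fun v => (mem_normalizer_iff.mp hy v).mp v.2
    refine ⟨QuotientGroup.mk' _ ⟨_, hyT a⟩, QuotientGroup.mk' _ ⟨_, hyT b⟩, fun e => hab ?_⟩
    rw [← map_mul, ← map_mul, QuotientGroup.mk'_apply, QuotientGroup.mk'_apply, QuotientGroup.eq,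
      mem_subgroupOf, mem_cjS] at e
    rw [← map_mul, ← map_mul, hπ, QuotientGroup.mk'_apply, QuotientGroup.mk'_apply, QuotientGroup.eq,
      mem_subgroupOf]
    convert e using 1
    push_cast
    group
  obtain ⟨Y0, hY0⟩ : ∃ Y0, Y0 = T.subgroupOf (S : Subgroup G) := ⟨_, rfl⟩
  let ι : ↥Y0 →* ↥T :=
    { toFun := fun v => ⟨((v : ↥(S : Subgroup G)) : G), mem_subgroupOf.mp (hY0.le v.2)⟩
      map_one' := rfl
      map_mul' := fun _ _ => rfl }
  obtain ⟨π', hπ'⟩ : ∃ π' : ↥T →* ↥T ⧸ (cjS y C).subgroupOf T, π' = QuotientGroup.mk' _ := ⟨_, rfl⟩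
  have hπ'1 : ∀ v : ↥T, π' v = 1 ↔ (v : G) ∈ cjS y C := fun v => by
    rw [hπ', QuotientGroup.mk'_apply, QuotientGroup.eq_one_iff, mem_subgroupOf]
  refine smallSections_of_pair Y0 hD8 hy8 hDna hyna (π.comp ι) (π'.comp ι) ?_ ?_ ?_
  · refine le_bot_iff.mp fun v hv => ?_
    exact Subtype.ext (Subtype.ext (mem_bot.mp ((hdisj y hy hyM).le
      ⟨(hπ1 (ι v)).mp hv.1, (hπ'1 (ι v)).mp hv.2⟩)))
  · intro a b ha hb
    rw [hY0, mem_subgroupOf] at ha hb ⊢
    exact hpair _ (hS1.ge ⟨a.2, hSeq _ a.2⟩) ha _ (hS1.ge ⟨b.2, hSeq _ b.2⟩) hb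
  · intro v hv x hx
    rw [hY0, mem_subgroupOf] at hv
    obtain ⟨hvy, hyy⟩ := hy' _ v.2 hv
    refine ⟨fun h1 => (hπ'1 _).mpr ?_, fun h1 => (hπ1 _).mpr ?_⟩
    · have h2 := conj_mem hCyn hvy (conj_mem_cjS (g := y) ((hπ1 (ι x)).mp h1))
      show (v : G) * ((x : ↥(S : Subgroup G)) : G) * (v : G)⁻¹ ∈ cjS y C
      convert h2 using 1
      show _ = (v : G) * y⁻¹ * (y * ((x : ↥(S : Subgroup G)) : G) * y⁻¹) * ((v : G) * y⁻¹)⁻¹
      group
    · have h2 : y⁻¹ * ((x : ↥(S : Subgroup G)) : G) * y ∈ C := mem_cjS.mp ((hπ'1 (ι x)).mp h1)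
      have h3 := conj_mem (hTH.trans hCn) hvy (conj_mem (hTH.trans hCn) hyy h2)
      show (v : G) * ((x : ↥(S : Subgroup G)) : G) * (v : G)⁻¹ ∈ C
      convert h3 using 1
      group

end Hyp

end Cfsg.Agent.Invol.PushNorm
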