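import Cfsg.Agent.Lib.Invol.PushNorm.Mdl
import Cfsg.Agent.Lib.Invol.PushNorm.Three
import Cfsg.Agent.Lib.Invol.PushNorm.FiveFacts

/-!
# Coordinates for the block with five points
-/

set_option autoImplicit false
set_option linter.style.haveILetI false
set_option linter.unusedSectionVars false

namespace Cfsg.Agent.Invol.PushNorm

open Subgroup Equiv
open Five (z0 t1 s01 c3 co1 act)

universe u

variable {G : Type u} [Group G] [Finite G]

theorem act_mul (σ τ : Perm (Fin 5)) (v : Fin 5 → ZMod 2) : act (σ * τ) v = act σ (act τ v) :=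
  funext fun i => by simp [act]

theorem act_one (v : Fin 5 → ZMod 2) : act 1 v = v := rfl

theorem act_add (σ : Perm (Fin 5)) (v w : Fin 5 → ZMod 2) : act σ (v + w) = act σ v + act σ w := rfl

theorem act_co1 (σ : Perm (Fin 5)) (i : Fin 5) : act σ (co1 i) = co1 (σ i) := funext fun j => by
  simp only [act, co1, Perm.inv_def, Equiv.symm_apply_eq]

theorem act_even (σ : Perm (Fin 5)) {v : Fin 5 → ZMod 2} (h : Even5 v) : Even5 (act σ v) :=
  (Fintype.sum_equiv σ⁻¹ _ _ fun _ => rfl).trans h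

/-- A permutation of order three fixing a pair fixes both of its points. -/
theorem fix_of_cube {σ : Perm (Fin 5)} (h3 : σ * σ * σ = 1) {p q : Fin 5} (hpq : p ≠ q)
    (h : act σ (pairVec p q) = pairVec p q) : σ p = p ∧ σ q = q := by
  have key : ∀ x, x = p ∨ x = q → σ⁻¹ x = p ∨ σ⁻¹ x = q := fun x hx => by
    have := congrFun h x
    simp only [act, pairVec, if_pos hx] at this
    by_contra hc
    rw [if_neg hc] at this
    exact zero_ne_one this
  have h3' : ∀ x, σ⁻¹ (σ⁻¹ (σ⁻¹ x)) = x := fun x => by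
    have : σ⁻¹ * σ⁻¹ * σ⁻¹ = 1 := by
      rw [show σ⁻¹ * σ⁻¹ * σ⁻¹ = (σ * σ * σ)⁻¹ by group, h3, inv_one]
    exact congrArg (fun f : Perm (Fin 5) => f x) this
  have hne : σ⁻¹ p ≠ σ⁻¹ q := σ⁻¹.injective.ne hpq
  have hp : σ⁻¹ p = p := by
    refine (key p (Or.inl rfl)).resolve_right fun e => ?_
    have e' : σ⁻¹ q = p := (key q (Or.inr rfl)).resolve_right fun e' => hne (e.trans e'.symm)
    exact hpq ((h3' p).symm.trans (by rw [e, e', e]))
  have hq : σ⁻¹ q = q := (key q (Or.inr rfl)).resolve_left fun e => hne (hp.trans e.symm)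
  exact ⟨(Perm.inv_eq_iff_eq.mp hp).symm, (Perm.inv_eq_iff_eq.mp hq).symm⟩

theorem co1_ne : ∀ i : Fin 5, co1 i ≠ 0 := by decide

theorem zmod_two_cases : ∀ t : ZMod 2, t = 0 ∨ t = 1 := by decide

/-- Coordinates for the block with five points. -/
structure FrFive (H K M Q T W : Subgroup G) where
  hyp : Hyp H K M Q T
  mdl : Mdl K W
  π : G → Perm (Fin 5)
  co : G → Fin 5 → ZMod 2
  π_mul : ∀ a ∈ M, ∀ b ∈ M, π (a * b) = π a * π b
  π_sign : ∀ k ∈ K, Perm.sign (π k) = 1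
  π_surj : ∀ σ : Perm (Fin 5), Perm.sign σ = 1 → ∃ k ∈ K, π k = σ
  π_ker : ∀ k ∈ K, (π k = 1 ↔ k ∈ W)
  co_mul : ∀ a ∈ W, ∀ b ∈ W, co (a * b) = co a + co b
  co_even : ∀ a ∈ W, Even5 (co a)
  co_surj : ∀ v, Even5 v → ∃ a ∈ W, co a = v
  co_ker : ∀ a ∈ W, (co a = 0 ↔ a ∈ centralizer (K : Set G))
  co_act : ∀ m ∈ M, ∀ a ∈ W, co (m * a * m⁻¹) = act (π m) (co a)
  πT : ∀ t ∈ T, π t * z0 = z0 * π t
  g : G
  gT : g ∈ normalizer (T : Set G)
  gM : g ∉ M

/-- Coordinates exist. -/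
theorem exists_five {H K M Q T W : Subgroup G} (h : Hyp H K M Q T) (hm : Mdl K W) (P : PermMod K W)
    {g : G} (gT : g ∈ normalizer (T : Set G)) (gM : g ∉ M) : Nonempty (FrFive H K M Q T W) := by
  classical
  haveI : Fact (Nat.Prime 2) := ⟨Nat.prime_two⟩
  have hMW : M ≤ normalizer (W : Set G) := h.M_norm_W hm
  have hMZ : M ≤ normalizer ((W ⊓ centralizer (K : Set G) : Subgroup G) : Set G) :=
    norm_inf hMW (norm_cent h.M_norm)
  have hKM : K ≤ M := h.K_le.trans h.H_le_M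
  obtain ⟨co0, hco0⟩ : ∃ co0 : G → Fin 5 → ZMod 2, ∀ a (ha : a ∈ W), co0 a = Multiplicative.toAdd (P.ψ ⟨a, ha⟩) :=
    ⟨fun a => if ha : a ∈ W then Multiplicative.toAdd (P.ψ ⟨a, ha⟩) else 0, fun a ha => dif_pos ha⟩
  have hadd : ∀ a ∈ W, ∀ b ∈ W, co0 (a * b) = co0 a + co0 b := fun a ha b hb => by
    rw [hco0 a ha, hco0 b hb, hco0 _ (W.mul_mem ha hb), ← toAdd_mul, ← map_mul]
    rfl
  have heven : ∀ a ∈ W, Even5 (co0 a) := fun a ha => by rw [hco0 a ha]; exact P.even _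
  have hsurj : ∀ v, Even5 v → ∃ a ∈ W, co0 a = v := fun v hv => by
    obtain ⟨u, hu⟩ := P.surjψ v hv
    exact ⟨u, u.2, (hco0 _ u.2).trans hu⟩
  have hker : ∀ a ∈ W, (co0 a = 0 ↔ a ∈ centralizer (K : Set G)) := fun a ha => by
    rw [hco0 a ha]
    exact toAdd_eq_zero.trans (P.kerψ ⟨a, ha⟩)
  have hinv : ∀ a ∈ W, a⁻¹ = a := fun a ha => hm.inv_eq ha
  have heq : ∀ a ∈ W, ∀ b ∈ W, (co0 a = co0 b ↔ a * b ∈ centralizer (K : Set G)) := fun a ha b hb => by
    rw [← hker _ (W.mul_mem ha hb), hadd a ha b hb, add_eq_zero_iff_eq_neg, ZModModule.neg_eq_self]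
  -- conjugation respects the coordinates
  have hcong : ∀ m ∈ M, ∀ a ∈ W, ∀ b ∈ W, (co0 (m * a * m⁻¹) = co0 (m * b * m⁻¹) ↔ co0 a = co0 b) := by
    intro m hmM a ha b hb
    rw [heq _ (conj_mem hMW hmM ha) _ (conj_mem hMW hmM hb), heq a ha b hb,
      show m * a * m⁻¹ * (m * b * m⁻¹) = m * (a * b) * m⁻¹ by group]
    constructor
    · intro h'
      exact ((mem_normalizer_iff.mp (hMZ hmM) _).mpr ⟨conj_mem hMW hmM (W.mul_mem ha hb), h'⟩).2
    · intro h'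
      exact (conj_mem hMZ hmM (show a * b ∈ W ⊓ centralizer (K : Set G) from ⟨W.mul_mem ha hb, h'⟩)).2
  have hact0 : ∀ (k : G) (hk : k ∈ K), ∀ a ∈ W, co0 (k * a * k⁻¹) = act (P.ρ ⟨k, hk⟩) (co0 a) := by
    intro k hk a ha
    rw [hco0 a ha, hco0 _ (conj_mem hm.norm hk ha)]
    exact funext fun i => P.act ⟨k, hk⟩ ⟨a, ha⟩ _ i
  choose u hu hcu using fun i => hsurj (co1 i) (Five.co1_facts.1 i)
  have hlift : ∀ σ : Perm (Fin 5), Perm.sign σ = 1 → ∃ k : ↥K, P.ρ k = σ := fun σ hσ =>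
    MonoidHom.mem_range.mp (P.rangeρ.ge (Perm.mem_alternatingGroup.mpr hσ))
  have hsign : ∀ k : ↥K, Perm.sign (P.ρ k) = 1 := fun k =>
    Perm.mem_alternatingGroup.mp (P.rangeρ.le (MonoidHom.mem_range.mpr ⟨k, rfl⟩))
  -- the complements of points are permuted
  have hpts : ∀ m ∈ M, ∀ i, ∃ j, co0 (m * u i * m⁻¹) = co1 j := by
    intro m hmM i
    obtain ⟨v, hv⟩ : ∃ v, v = co0 (m * u i * m⁻¹) := ⟨_, rfl⟩
    rw [← hv]
    have hv0 : v ≠ 0 := fun e => by
      have h1 : co0 (m * u i * m⁻¹) = co0 (m * 1 * m⁻¹) := by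
        rw [← hv, e, mul_one, mul_inv_cancel, (hker 1 W.one_mem).mpr (one_mem _)]
      rw [hcong m hmM _ (hu i) 1 W.one_mem, hcu, (hker 1 W.one_mem).mpr (one_mem _)] at h1
      exact co1_ne i h1
    rcases Five.co1_facts.2.2 v (hv ▸ heven _ (conj_mem hMW hmM (hu i))) hv0 with h1 | ⟨p, q, hpq, hvp⟩
    · exact h1
    exfalso
    obtain ⟨a, b, ha3, hb3, ha, hb, haf, hbf, hab, hab1⟩ := Five.co1_stab i
    obtain ⟨ka, hka⟩ := hlift a ha
    obtain ⟨kb, hkb⟩ := hlift b hb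
    have hK : ∀ k : ↥K, m * (k : G) * m⁻¹ ∈ K := fun k => conj_mem h.M_norm hmM k.2
    let c : ↥K →* ↥K :=
      { toFun := fun k => ⟨m * (k : G) * m⁻¹, hK k⟩
        map_one' := Subtype.ext (show m * (1 : G) * m⁻¹ = 1 by group)
        map_mul' := fun x y => Subtype.ext
          (show m * ((x : G) * y) * m⁻¹ = m * x * m⁻¹ * (m * y * m⁻¹) by group) }
    have hc : ∀ k, P.ρ (c k) = 1 ↔ P.ρ k = 1 := fun k => by
      rw [P.kerρ, P.kerρ]
      exact ((mem_normalizer_iff.mp (hMW hmM) _).symm)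
    have hfix : ∀ k : ↥K, act (P.ρ k) (co1 i) = co1 i → act (P.ρ (c k)) v = v := by
      intro k hk
      rw [hv]
      show act (P.ρ ⟨m * (k : G) * m⁻¹, hK k⟩) _ = _
      rw [← hact0 _ _ _ (conj_mem hMW hmM (hu i)),
        show m * (k : G) * m⁻¹ * (m * u i * m⁻¹) * (m * (k : G) * m⁻¹)⁻¹ = m * ((k : G) * u i * (k : G)⁻¹) * m⁻¹ by group,
        hcong m hmM _ (conj_mem hm.norm k.2 (hu i)) _ (hu i), hact0 _ k.2 _ (hu i), hcu]
      exact hk
    obtain ⟨ha', ha''⟩ := fix_of_cube (σ := P.ρ (c ka)) (by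
      rw [← map_mul, ← map_mul, ← map_mul, ← map_mul, hc, map_mul, map_mul, hka, ha3]) hpq
      (hvp ▸ hfix ka (by rw [hka]; exact haf))
    obtain ⟨hb', hb''⟩ := fix_of_cube (σ := P.ρ (c kb)) (by
      rw [← map_mul, ← map_mul, ← map_mul, ← map_mul, hc, map_mul, map_mul, hkb, hb3]) hpq
      (hvp ▸ hfix kb (by rw [hkb]; exact hbf))
    refine hpq (Five.two_fixed (P.ρ (c (ka * kb))) ?_ (hsign _) ?_ p q ?_ ?_)
    · rw [← map_mul, ← map_mul, hc, map_mul, map_mul, hka, hkb, hab]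
    · rw [Ne, hc, map_mul, hka, hkb]; exact hab1
    · rw [map_mul, map_mul, Perm.mul_apply, hb', ha']
    · rw [map_mul, map_mul, Perm.mul_apply, hb'', ha'']
  choose! f hf using hpts
  have hfinj : ∀ m ∈ M, Function.Injective (f m) := fun m hmM i j e => by
    refine Five.co1_facts.2.1 i j ?_
    rw [← hcu i, ← hcu j, ← hcong m hmM _ (hu i) _ (hu j), hf m hmM i, hf m hmM j, e]
  obtain ⟨π0, hπ0⟩ : ∃ π0 : G → Perm (Fin 5), ∀ m ∈ M, ∀ i, π0 m i = f m i :=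
    ⟨fun m => if hmM : m ∈ M then Equiv.ofBijective _ (Finite.injective_iff_bijective.mp (hfinj m hmM)) else 1,
      fun m hmM i => by simp [hmM]⟩
  have hco_act : ∀ m ∈ M, ∀ a ∈ W, co0 (m * a * m⁻¹) = act (π0 m) (co0 a) := by
    intro m hmM a ha
    let U : AddSubgroup (Fin 5 → ZMod 2) :=
      { carrier := {v | ∃ b ∈ W, co0 b = v ∧ co0 (m * b * m⁻¹) = act (π0 m) v}
        zero_mem' := ⟨1, W.one_mem, (hker 1 W.one_mem).mpr (one_mem _), by
          rw [mul_one, mul_inv_cancel, (hker 1 W.one_mem).mpr (one_mem _)]; rfl⟩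
        add_mem' := fun {v w} ⟨b, hb, hbv, hbm⟩ ⟨d, hd, hdw, hdm⟩ => ⟨b * d, W.mul_mem hb hd,
          by rw [hadd b hb d hd, hbv, hdw], by
            rw [show m * (b * d) * m⁻¹ = m * b * m⁻¹ * (m * d * m⁻¹) by group,
              hadd _ (conj_mem hMW hmM hb) _ (conj_mem hMW hmM hd), hbm, hdm, act_add]⟩
        neg_mem' := fun {v} hv => by rw [ZModModule.neg_eq_self]; exact hv }
    have hU : co0 a ∈ U := by
      rw [Five.co1_span _ (heven a ha)]
      refine U.sum_mem fun i _ => ?_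
      rcases zmod_two_cases (co0 a i) with e | e
      · rw [e, zero_smul]; exact U.zero_mem
      · rw [e, one_smul]; exact ⟨u i, hu i, hcu i, by rw [hf m hmM i, act_co1, hπ0 m hmM i]⟩
    obtain ⟨b, hb, hbv, hbm⟩ := hU
    rw [← hbm, hcong m hmM a ha b hb, hbv]
  have hext : ∀ σ τ : Perm (Fin 5), (∀ v, Even5 v → act σ v = act τ v) → σ = τ := fun σ τ hst =>
    Equiv.ext fun i => Five.co1_facts.2.1 _ _ (by
      rw [← act_co1, ← act_co1]; exact hst _ (Five.co1_facts.1 i))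
  have hmul : ∀ a ∈ M, ∀ b ∈ M, π0 (a * b) = π0 a * π0 b := fun a ha b hb => hext _ _ fun v hv => by
    obtain ⟨w, hw, rfl⟩ := hsurj v hv
    rw [act_mul, ← hco_act _ (M.mul_mem ha hb) w hw, ← hco_act b hb w hw,
      ← hco_act a ha _ (conj_mem hMW hb hw)]
    congr 1
    group
  have hK0 : ∀ (k : G) (hk : k ∈ K), π0 k = P.ρ ⟨k, hk⟩ := fun k hk => hext _ _ fun v hv => by
    obtain ⟨w, hw, rfl⟩ := hsurj v hv
    rw [← hco_act k (hKM hk) w hw, hact0 k hk w hw]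
  -- a conjugate centralises the chosen involution
  have hTM : T ≤ M := h.T_le.trans h.H_le_M
  let θ : ↥T →* Perm (Fin 5) := MonoidHom.mk' (fun t => π0 t) fun a b => hmul _ (hTM a.2) _ (hTM b.2)
  obtain ⟨D, hD⟩ : ∃ D : Subgroup (Perm (Fin 5)), D = centralizer ({z0} : Set (Perm (Fin 5))) := ⟨_, rfl⟩
  have hDmem : ∀ σ, σ ∈ D ↔ σ * z0 = z0 * σ := fun σ => by rw [hD, mem_centralizer_singleton_iff]
  have hD8 : Nat.card D = 8 := (Nat.card_congr (Equiv.subtypeEquivRight hDmem)).trans Five.card_cent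
  have hDp : IsPGroup 2 D := IsPGroup.of_card (n := 3) (by rw [hD8]; norm_num)
  have hidx : ¬ 2 ∣ D.index := by
    have := D.card_mul_index
    rw [hD8, Nat.card_perm, Nat.card_fin] at this
    have h120 : Nat.factorial 5 = 120 := by decide
    omega
  obtain ⟨S, hS⟩ := (h.T_p.of_surjective θ.rangeRestrict θ.rangeRestrict_surjective).exists_le_sylow
  obtain ⟨x, hx⟩ := MulAction.exists_smul_eq (Perm (Fin 5)) S (hDp.toSylow hidx)
  have hxT : ∀ t ∈ T, x * π0 t * x⁻¹ * z0 = z0 * (x * π0 t * x⁻¹) := fun t ht => by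
    refine (hDmem _).mp ?_
    show x * π0 t * x⁻¹ ∈ ((hDp.toSylow hidx : Sylow 2 (Perm (Fin 5))) : Subgroup (Perm (Fin 5)))
    rw [← hx, Sylow.coe_subgroup_smul]
    exact ⟨π0 t, hS ⟨⟨t, ht⟩, rfl⟩, rfl⟩
  refine ⟨{ hyp := h, mdl := hm, π := fun m => x * π0 m * x⁻¹, co := fun a => act x (co0 a)
            π_mul := fun a ha b hb => ?_, π_sign := fun k hk => ?_, π_surj := fun σ hσ => ?_
            π_ker := fun k hk => ?_, co_mul := fun a ha b hb => by rw [hadd a ha b hb, act_add]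
            co_even := fun a ha => act_even x (heven a ha), co_surj := fun v hv => ?_
            co_ker := fun a ha => ?_, co_act := fun m hmM a ha => ?_, πT := hxT, g := g, gT := gT, gM := gM }⟩
  · show x * π0 (a * b) * x⁻¹ = x * π0 a * x⁻¹ * (x * π0 b * x⁻¹)
    rw [hmul a ha b hb]; group
  · rw [hK0 k hk, map_mul, map_mul, map_inv, hsign]; group
  · obtain ⟨k, hk⟩ := hlift (x⁻¹ * σ * x) (by rw [map_mul, map_mul, map_inv, hσ]; group)
    exact ⟨k, k.2, by show x * π0 k * x⁻¹ = σ; rw [hK0 k k.2, hk]; group⟩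
  · show x * π0 k * x⁻¹ = 1 ↔ k ∈ W
    rw [conj_eq_one_iff, hK0 k hk]
    exact P.kerρ _
  · obtain ⟨a, ha, hav⟩ := hsurj (act x⁻¹ v) (act_even _ hv)
    exact ⟨a, ha, by show act x (co0 a) = v; rw [hav, ← act_mul, mul_inv_cancel, act_one]⟩
  · rw [← hker a ha]
    refine ⟨fun e => ?_, fun e => by show act x (co0 a) = 0; rw [e]; rfl⟩
    have e' : act x (co0 a) = 0 := e
    rw [← act_one (co0 a), ← inv_mul_cancel x, act_mul, e']
    rfl
  · show act x (co0 (m * a * m⁻¹)) = act (x * π0 m * x⁻¹) (act x (co0 a))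
    rw [hco_act m hmM a ha, ← act_mul, ← act_mul]
    congr 1
    group

end Cfsg.Agent.Invol.PushNorm
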