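import Cfsg.Agent.Lib.Invol.PushNorm.Five
import Cfsg.Agent.Lib.Char.FourGenMain

/-!
# The block with five points: no large normal elementary subgroup in a Sylow subgroup
-/

set_option autoImplicit false
set_option linter.style.haveILetI false
set_option linter.unusedSectionVars false

namespace Cfsg.Agent.Invol.PushNorm

open Subgroup
open Five (z0 t1 s01 act)

universe u

variable {G : Type u} [Group G] [Finite G]

namespace FrFive

variable {H K M Q T W : Subgroup G} (R : FrFive H K M Q T W)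
include R

theorem img_W {c : G} (hc : c ∈ T) (h1 : R.π c = 1) : c ∈ W := R.Q_eq.le (R.T_ker hc h1)

theorem conj_norm {y : G} (hy : y ∈ normalizer (T : Set G)) : T ≤ normalizer (cjS y W : Set G) := by
  rw [normalizer_cjS]
  exact (cjS_eq_iff.mpr hy).ge.trans (cjS_mono (R.T_le_M.trans R.M_W))

/-- What commutes with an inducer of the central involution lies in the other module. -/
theorem fix_mem {a : G} (ha : a ∈ cjS R.g W) (haz : R.π a = z0) :
    Nat.card ↥(W ⊓ cjS R.g W) ≤ 4 ∧ ∀ w ∈ W, a * w = w * a → w ∈ cjS R.g W := by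
  have hA := R.conj_T R.gT
  obtain ⟨X, hX⟩ : ∃ X, X = W ⊓ centralizer ({a} : Set G) := ⟨_, rfl⟩
  have hmem : ∀ w, w ∈ X ↔ w ∈ W ∧ w * a = a * w := fun w => by rw [hX, mem_inf, mem_cent]
  have hle : W ⊓ cjS R.g W ≤ X := fun w hw =>
    (hmem w).mpr ⟨hw.1, comm_of_exp (R.conj_exp R.g) hw.2 ha⟩
  have hX4 : Nat.card X ≤ 4 := by
    have h := R.card_le_co (X := X) (fun w hw => ((hmem w).mp hw).1) (p := fun v => act z0 v = v) fun w hw => by
      rw [← haz]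
      exact R.co_comm (R.T_le_M (hA ha)) ((hmem w).mp hw).1 ((hmem w).mp hw).2.symm
    rw [R.Z_bot, card_bot, one_mul] at h
    exact h.trans Five.fix_z0
  have h4 : 4 ≤ Nat.card ↥(W ⊓ cjS R.g W) := by
    have h1 := card_eq_relIndex_mul W (cjS R.g W)
    rw [card_cjS, R.card_W', inf_comm] at h1
    have h2 : W.relIndex (cjS R.g W) ≤ 4 :=
      (congrArg (fun X : Subgroup G => X.relIndex (cjS R.g W)) R.Q_eq).ge.trans (R.card_img_le hA (R.conj_exp R.g))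
    by_contra hlt
    have := Nat.mul_le_mul h2 (show Nat.card ↥(W ⊓ cjS R.g W) ≤ 3 by omega)
    omega
  have heq := eq_of_le_of_card_ge hle (hX4.trans h4)
  refine ⟨(card_le_of_le hle).trans hX4, fun w hw hc => ?_⟩
  exact (heq.ge ((hmem w).mpr ⟨hw, hc.symm⟩)).2

/-- A normal elementary subgroup of `T` lies in one of the two modules. -/
theorem normal_elem {A : Subgroup G} (hA : A ≤ T) (h2 : ∀ a ∈ A, a * a = 1)
    (hn : T ≤ normalizer (A : Set G)) : A ≤ W ∨ A ≤ cjS R.g W := by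
  by_cases hW : A ≤ W
  · exact Or.inl hW
  refine Or.inr ?_
  obtain ⟨-, -, -, htt, -, -, -, htc, hts, -, -⟩ := Five.facts
  obtain ⟨kt, hkt, hktσ⟩ := R.inner_lift htc hts
  obtain ⟨s, hs, hsσ, a, ha, haσ, -⟩ := R.outer
  have hW' := R.conj_T R.gT
  -- an element of `A` inducing the central involution
  obtain ⟨a0, ha0, ha0σ⟩ : ∃ a0 ∈ A, R.π a0 = z0 := by
    obtain ⟨b, hb, hbW⟩ := SetLike.not_le_iff_exists.mp hW
    obtain ⟨hbz, hb2⟩ := R.img_props hA h2 ((R.mem_img hA).mpr ⟨b, hb, rfl⟩)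
    have hbM := R.T_le_M (hA hb)
    rcases Five.normal_z0 _ hbz hb2 (fun e => hbW (R.img_W (hA hb) e)) with e | e | e
    · exact ⟨b, hb, e⟩
    · refine ⟨b * (kt * b * kt⁻¹), mul_mem hb (conj_mem hn hkt.1 hb), ?_⟩
      have hkM := R.T_le_M hkt.1
      rw [R.π_mul b hbM _ (mul_mem (mul_mem hkM hbM) (inv_mem hkM)), R.π_conj hkM hbM, hktσ,
        inv_eq_of_mul_eq_one_left htt, e]
    · refine ⟨b * (s * b * s⁻¹), mul_mem hb (conj_mem hn (hW' hs) hb), ?_⟩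
      have hsM := R.T_le_M (hW' hs)
      rw [R.π_mul b hbM _ (mul_mem (mul_mem hsM hbM) (inv_mem hsM)), R.π_conj hsM hbM, hsσ,
        inv_eq_of_mul_eq_one_left (show s01 * s01 = 1 by simp [Five.s01]), e]
  -- a moved vector
  obtain ⟨hev, hmove⟩ := pair_move
  obtain ⟨u, hu, huv⟩ := R.co_surj _ hev
  obtain ⟨c, hc⟩ : ∃ c, c = u * a0 * u⁻¹ * a0⁻¹ := ⟨_, rfl⟩
  have ha0M := R.T_le_M (hA ha0)
  have hau : a0 * u⁻¹ * a0⁻¹ ∈ W := conj_mem R.M_W ha0M (W.inv_mem hu)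
  have hcW : c ∈ W := by
    rw [hc, show u * a0 * u⁻¹ * a0⁻¹ = u * (a0 * u⁻¹ * a0⁻¹) by group]
    exact W.mul_mem hu hau
  have hcA : c ∈ A := hc ▸ A.mul_mem (conj_mem hn (R.W_le_T hu) ha0) (A.inv_mem ha0)
  have hcco : R.co c = pairVec 0 1 := by
    rw [hc, show u * a0 * u⁻¹ * a0⁻¹ = u * (a0 * u⁻¹ * a0⁻¹) by group, R.co_mul u hu _ hau,
      R.co_act a0 ha0M _ (W.inv_mem hu), R.mdl.inv_eq hu, huv, ha0σ, hmove]
  -- every element of `A` agrees with one of `W'` modulo `W`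
  have hrep : ∀ b ∈ A, ∃ b' ∈ cjS R.g W, b * b'⁻¹ ∈ W := by
    intro b hb
    obtain ⟨hbz, hb2⟩ := R.img_props hA h2 ((R.mem_img hA).mpr ⟨b, hb, rfl⟩)
    have hfix : act (R.π b) (pairVec 0 1) = pairVec 0 1 :=
      hcco ▸ R.co_comm (R.T_le_M (hA hb)) hcW (comm_of_exp h2 hb hcA)
    obtain ⟨b', hb', e⟩ : ∃ b' ∈ cjS R.g W, R.π b' = R.π b := by
      rcases Five.fix_pair _ hbz hb2 hfix with e | e | e | e
      · exact ⟨1, one_mem _, by rw [R.π_one, e]⟩
      · exact ⟨a, ha, by rw [haσ, e]⟩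
      · exact ⟨s, hs, by rw [hsσ, e]⟩
      · exact ⟨s * a, mul_mem hs ha, by rw [R.π_mul s (R.T_le_M (hW' hs)) a (R.T_le_M (hW' ha)), hsσ, haσ, e]⟩
    refine ⟨b', hb', R.img_W (T.mul_mem (hA hb) (T.inv_mem (hW' hb'))) ?_⟩
    rw [R.π_mul _ (R.T_le_M (hA hb)) _ (inv_mem (R.T_le_M (hW' hb'))), R.π_inv (R.T_le_M (hW' hb')), e,
      mul_inv_cancel]
  -- an element inducing the central involution lies in `W'`
  have ha0W' : a0 ∈ cjS R.g W := by
    obtain ⟨w, hw⟩ : ∃ w, w = a0 * a⁻¹ := ⟨_, rfl⟩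
    have hwW : w ∈ W := hw ▸ R.img_W (T.mul_mem (hA ha0) (T.inv_mem (hW' ha))) (by
      rw [R.π_mul _ ha0M _ (inv_mem (R.T_le_M (hW' ha))), R.π_inv (R.T_le_M (hW' ha)), ha0σ, haσ, mul_inv_cancel])
    have ha0w : a0 = w * a := by rw [hw, inv_mul_cancel_right]
    have h1 := h2 a0 ha0
    rw [ha0w] at h1
    have hcm : a * w = w * a := by
      calc a * w = w⁻¹ * (w * a * (w * a)) * a⁻¹ := by group
        _ = w⁻¹ * a⁻¹ := by rw [h1, mul_one]
        _ = w * a := by rw [R.mdl.inv_eq hwW, inv_eq_of_mul_eq_one_left (R.conj_exp R.g a ha)]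
    exact ha0w ▸ mul_mem ((R.fix_mem ha haσ).2 w hwW hcm) ha
  intro b hb
  obtain ⟨b', hb', hw⟩ := hrep b hb
  obtain ⟨w, hwd⟩ : ∃ w, w = b * b'⁻¹ := ⟨_, rfl⟩
  rw [← hwd] at hw
  have hbw : b = w * b' := by rw [hwd, inv_mul_cancel_right]
  have h1 : b * a0 = a0 * b := comm_of_exp h2 hb ha0
  have h3 : b' * a0 = a0 * b' := comm_of_exp (R.conj_exp R.g) hb' ha0W'
  have hcm : a0 * w = w * a0 := by
    refine mul_right_cancel (b := b') ?_
    calc a0 * w * b' = a0 * b := by rw [hbw, mul_assoc]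
      _ = b * a0 := h1.symm
      _ = w * a0 * b' := by rw [hbw, mul_assoc, h3, ← mul_assoc]
  exact hbw ▸ mul_mem ((R.fix_mem ha0W' ha0σ).2 w hw hcm) hb'

/-- An element of `N(T)` outside `M` interchanges the modules. -/
theorem swap {y : G} (hy : y ∈ normalizer (T : Set G)) (hyM : y ∉ M) :
    cjS y W = cjS R.g W ∧ cjS y (cjS R.g W) = W := by
  have hNW : normalizer (W : Set G) ≤ M :=
    R.hyp.le_M R.mdl.isPGroup R.mdl.ne (R.hyp.sup.trans (sup_le R.mdl.toCore.norm (R.T_le_M.trans R.M_W)))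
  have hne : cjS y W ≠ W := fun e => hyM (hNW (cjS_eq_iff.mp e))
  have h1 : cjS y W = cjS R.g W := by
    rcases R.normal_elem (R.conj_T hy) (R.conj_exp y) (R.conj_norm hy) with h | h
    · exact absurd (eq_of_le_of_card_ge h (card_cjS y W).ge) hne
    · exact eq_of_le_of_card_ge h (by rw [card_cjS, card_cjS])
  refine ⟨h1, ?_⟩
  have hyg : y * R.g ∈ normalizer (T : Set G) := mul_mem hy R.gT
  rw [cjS_cjS]
  rcases R.normal_elem (R.conj_T hyg) (R.conj_exp _) (R.conj_norm hyg) with h | h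
  · exact eq_of_le_of_card_ge h (card_cjS _ W).ge
  · exfalso
    have e : cjS (y * R.g) W = cjS R.g W := eq_of_le_of_card_ge h (by rw [card_cjS, card_cjS])
    rw [← cjS_cjS] at e
    exact R.gM (hNW (cjS_eq_iff.mp (cjS_inj (e.trans h1.symm))))

/-- `T` is a Sylow 2-subgroup of `M`. -/
theorem sylow_M {P : Subgroup G} (hP : IsPGroup 2 P) (hTP : T ≤ P) (hPM : P ≤ M) : P ≤ T := by
  haveI : Fact (Nat.Prime 2) := ⟨Nat.prime_two⟩
  obtain ⟨θ, hθ⟩ : ∃ θ : ↥P →* Equiv.Perm (Fin 5), ∀ p, θ p = R.π p :=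
    ⟨MonoidHom.mk' (fun p => R.π p) fun a b => R.π_mul _ (hPM a.2) _ (hPM b.2), fun _ => rfl⟩
  obtain ⟨n, hn⟩ := (hP.of_surjective θ.rangeRestrict θ.rangeRestrict_surjective).exists_card_eq
  have h8 : Nat.card θ.range ≤ 8 := by
    have hd := θ.range.card_subgroup_dvd_card
    rw [Nat.card_perm, Nat.card_fin, show Nat.factorial 5 = 120 by decide, hn] at hd
    rw [hn]
    by_contra hgt
    have h4 : 4 ≤ n := by
      by_contra hc
      have := Nat.pow_le_pow_right (n := 2) (by norm_num) (show n ≤ 3 by omega)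
      omega
    have := Nat.le_of_dvd (by norm_num) ((Nat.pow_dvd_pow 2 h4).trans hd)
    exact absurd ((Nat.pow_dvd_pow 2 h4).trans hd) (by norm_num)
  obtain ⟨I, hI⟩ : ∃ I, I = R.tHom.range := ⟨_, rfl⟩
  have hIle : I ≤ θ.range := fun σ hσ => by
    rw [hI] at hσ
    obtain ⟨t, rfl⟩ := hσ
    exact ⟨⟨t, hTP t.2⟩, hθ _⟩
  obtain ⟨V, hV⟩ : ∃ V : Subgroup (Equiv.Perm (Fin 5)),
      V = centralizer ({z0} : Set (Equiv.Perm (Fin 5))) ⊓ alternatingGroup (Fin 5) := ⟨_, rfl⟩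
  have hVmem : ∀ τ, τ ∈ V ↔ τ * z0 = z0 * τ ∧ Equiv.Perm.sign τ = 1 := fun τ => by
    rw [hV, mem_inf, mem_centralizer_singleton_iff, Equiv.Perm.mem_alternatingGroup]
  have h4 : Nat.card V = 4 := (Nat.card_congr (Equiv.subtypeEquivRight hVmem)).trans Five.card_cent_even
  have hVI : V ≤ I := fun σ hσ => by
    obtain ⟨k, hk, rfl⟩ := R.inner_lift ((hVmem σ).mp hσ).1 ((hVmem σ).mp hσ).2
    exact hI ▸ ⟨⟨k, hk.1⟩, rfl⟩
  obtain ⟨s, hs, hsσ, -⟩ := R.outer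
  have hI8 : 8 ≤ Nat.card I := by
    obtain ⟨k, hk⟩ := card_dvd_of_le hVI
    rw [h4] at hk
    rcases k with _ | _ | k
    · have : 0 < Nat.card I := Nat.card_pos
      omega
    · exfalso
      have hsI : s01 ∈ V := by
        rw [eq_of_le_of_card_ge hVI (by omega)]
        exact hI ▸ ⟨⟨s, R.conj_T R.gT hs⟩, hsσ⟩
      exact Five.facts.2.2.2.2.2.2.2.2.2.2 ((hVmem _).mp hsI).2
    · rw [hk]; omega
  have heq := eq_of_le_of_card_ge hIle (h8.trans hI8)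
  intro r hr
  obtain ⟨t, ht⟩ := hI.le (show θ ⟨r, hr⟩ ∈ I from heq ▸ ⟨⟨r, hr⟩, rfl⟩)
  have ht' : R.π t = R.π r := ht.trans (hθ _)
  have htr : (t : G)⁻¹ * r ∈ P := P.mul_mem (P.inv_mem (hTP t.2)) hr
  have hq : (t : G)⁻¹ * r ∈ Q := R.mem_Q_of_triv (hPM htr) (hP.to_le (zpowers_le.mpr htr))
    (R.Q_eq.symm ▸ R.M_W (hPM htr)) (by
      rw [R.π_mul _ (inv_mem (R.T_le_M t.2)) r (hPM hr), R.π_inv (R.T_le_M t.2), ht', inv_mul_cancel])
  have := T.mul_mem t.2 (R.hyp.Q_le_T hq)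
  rwa [mul_inv_cancel_left] at this

/-- The block with five points forces sectional rank at most four. -/
theorem five_rank : Cfsg.SectionalPRankLE 2 4 G := by
  haveI : Fact (Nat.Prime 2) := ⟨Nat.prime_two⟩
  -- a 2-element interchanging the modules
  obtain ⟨k, m, hm, hgm⟩ : ∃ k m : ℕ, Odd m ∧ orderOf R.g = 2 ^ k * m := by
    obtain ⟨k, m, hm, e⟩ := Nat.exists_eq_pow_mul_and_not_dvd (orderOf_pos R.g).ne' 2 (by norm_num)
    exact ⟨k, m, Nat.not_even_iff_odd.mp fun h => hm h.two_dvd, e⟩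
  have hgW := R.swap R.gT R.gM
  have hggM : R.g * R.g ∈ M := by
    by_contra h
    have e := (R.swap (mul_mem R.gT R.gT) h).1
    rw [← cjS_cjS, hgW.2] at e
    exact R.gM (R.hyp.le_M R.mdl.isPGroup R.mdl.ne
      (R.hyp.sup.trans (sup_le R.mdl.toCore.norm (R.T_le_M.trans R.M_W))) (cjS_eq_iff.mp e.symm))
  have hgM : R.g ^ m ∉ M := fun h => R.gM (by
    obtain ⟨i, rfl⟩ := hm
    rw [pow_succ, pow_mul, pow_two] at h
    simpa using M.mul_mem (M.inv_mem (M.pow_mem hggM i)) h)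
  have hgN : R.g ^ m ∈ normalizer (T : Set G) := (normalizer (T : Set G)).pow_mem R.gT m
  have hg2 : IsPGroup 2 (zpowers (R.g ^ m)) := IsPGroup.of_card (n := k) (by
    rw [Nat.card_zpowers, orderOf_pow R.g, hgm, Nat.gcd_eq_right (dvd_mul_left m _),
      Nat.mul_div_cancel _ (Nat.pos_of_ne_zero fun e => by simp [e] at hm)])
  obtain ⟨S, hS⟩ := (R.hyp.T_p.to_sup_of_normal_left' hg2 (zpowers_le.mpr hgN)).exists_le_sylow
  have hTS : T ≤ (S : Subgroup G) := le_sup_left.trans hS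
  have hyS : R.g ^ m ∈ (S : Subgroup G) := hS (mem_sup_right (mem_zpowers _))
  have hSM : ∀ r ∈ (S : Subgroup G), r ∈ M → r ∈ T := fun r hr hrM =>
    R.sylow_M (P := (S : Subgroup G) ⊓ M) (S.isPGroup'.to_le inf_le_left) (le_inf hTS R.T_le_M) inf_le_right
      ⟨hr, hrM⟩
  obtain ⟨s, hs, -, a, ha, haσ, -⟩ := R.outer
  refine Spor.SelfCentFour.sectional_of_sylow S
    (small_of_rank (Char.FourGen.sectional_rank S.isPGroup' fun B hBn hBc hB2 => ?_))
  obtain ⟨B', hB'⟩ : ∃ B', B' = B.map (S : Subgroup G).subtype := ⟨_, rfl⟩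
  have hB'S : B' ≤ (S : Subgroup G) := hB' ▸ map_subtype_le _
  have hB'2 : ∀ b ∈ B', b * b = 1 := by
    intro b hb
    rw [hB'] at hb
    obtain ⟨c, hc, rfl⟩ := hb
    rw [← pow_two, ← map_pow, hB2 c hc, map_one]
  have hB'n : (S : Subgroup G) ≤ normalizer (B' : Set G) := norm_le fun r hr b hb => by
    rw [hB'] at hb ⊢
    obtain ⟨c, hc, rfl⟩ := hb
    exact ⟨_, hBn.conj_mem c hc ⟨r, hr⟩, rfl⟩
  have hcard : Nat.card B = Nat.card B' := by
    rw [hB', card_map_of_injective (S : Subgroup G).subtype_injective]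
  rw [hcard]
  have hAT : B' ⊓ T ≤ T := inf_le_right
  have hA2 : ∀ b ∈ B' ⊓ T, b * b = 1 := fun b hb => hB'2 b hb.1
  have hAn : T ≤ normalizer ((B' ⊓ T : Subgroup G) : Set G) := norm_inf (hTS.trans hB'n) le_normalizer
  -- anything interchanging the modules and normalising the intersection pins it down
  have hpin : ∀ y ∈ normalizer (T : Set G), y ∉ M → y ∈ normalizer ((B' ⊓ T : Subgroup G) : Set G) →
      B' ⊓ T ≤ W ⊓ cjS R.g W := by
    intro y hy hyM hyB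
    obtain ⟨e1, e2⟩ := R.swap hy hyM
    have hfix := cjS_eq_iff.mpr hyB
    rcases R.normal_elem hAT hA2 hAn with h | h
    · exact le_inf h (hfix.ge.trans ((cjS_mono h).trans e1.le))
    · exact le_inf (hfix.ge.trans ((cjS_mono h).trans e2.le)) h
  by_cases hBT : B' ≤ T
  · have hle := hpin _ hgN hgM (norm_inf (Y := zpowers (R.g ^ m)) (zpowers_le.mpr (hB'n hyS))
      (zpowers_le.mpr hgN) (mem_zpowers _))
    exact (card_le_of_le ((le_inf le_rfl hBT).trans hle)).trans (R.fix_mem ha haσ).1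
  exfalso
  obtain ⟨P, hP⟩ : ∃ P, P = T ⊔ B' := ⟨_, rfl⟩
  have hPp : IsPGroup 2 P := S.isPGroup'.to_le (hP ▸ sup_le hTS hB'S)
  haveI : Group.IsNilpotent ↥P := hPp.isNilpotent
  have hlt : T.subgroupOf P < ⊤ := lt_top_iff_ne_top.mpr fun e =>
    hBT ((le_sup_right.trans hP.ge).trans (subgroupOf_eq_top.mp e))
  obtain ⟨⟨x, hxP⟩, hxN, hxT⟩ := SetLike.exists_of_lt (Group.normalizerCondition_of_isNilpotent _ hlt)
  have hx1 : x ∈ (normalizer (T : Set G)) := mem_norm fun t ht => by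
    have htP : t ∈ P := hP ▸ mem_sup_left ht
    have h := (mem_normalizer_iff.mp hxN ⟨t, htP⟩).mp (mem_subgroupOf.mpr ht)
    exact mem_subgroupOf.mp h
  have hx2 := hP.le hxP
  rw [← SetLike.mem_coe, coe_mul_of_left_le_normalizer_right T B' (hTS.trans hB'n)] at hx2
  obtain ⟨t, ht, b, hb, rfl⟩ := hx2
  have hbN : b ∈ normalizer (T : Set G) := by
    have := (normalizer (T : Set G)).mul_mem ((normalizer (T : Set G)).inv_mem (le_normalizer ht)) hx1
    rwa [inv_mul_cancel_left] at this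
  have hbT : b ∉ T := fun e => hxT (mem_subgroupOf.mpr (T.mul_mem ht e))
  have hbM : b ∉ M := fun e => hbT (hSM b (hB'S hb) e)
  have hle := hpin b hbN hbM (norm_inf (Y := zpowers b) (zpowers_le.mpr (le_normalizer hb))
    (zpowers_le.mpr hbN) (mem_zpowers _))
  obtain ⟨e1, -⟩ := R.swap hbN hbM
  refine R.hyp.W'_not R.mdl R.gT R.gM (e1.ge.trans ?_)
  rintro _ ⟨w, hw, rfl⟩
  show b * w * b⁻¹ ∈ Q
  rw [R.Q_eq]
  have h1 : w * b * w⁻¹ * b⁻¹ ∈ B' := B'.mul_mem (conj_mem hB'n (hTS (R.W_le_T hw)) hb) (B'.inv_mem hb)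
  have h2 : w * b * w⁻¹ * b⁻¹ ∈ T := by
    rw [show w * b * w⁻¹ * b⁻¹ = w * (b * w⁻¹ * b⁻¹) by group]
    exact T.mul_mem (R.W_le_T hw) ((mem_normalizer_iff.mp hbN _).mp (T.inv_mem (R.W_le_T hw)))
  have h3 := (hle ⟨h1, h2⟩).1
  have h4 : b * w⁻¹ * b⁻¹ ∈ W := by
    have := W.mul_mem (W.inv_mem hw) h3
    rwa [show w⁻¹ * (w * b * w⁻¹ * b⁻¹) = b * w⁻¹ * b⁻¹ by group] at this
  rwa [R.mdl.inv_eq hw] at h4

end FrFive

end Cfsg.Agent.Invol.PushNorm
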