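import Mathlib

/-!
# The even weight module on five points under the alternating group
-/

set_option autoImplicit false

namespace Cfsg.Agent.Invol.PushNorm

open Equiv

/-- Even weight vectors. -/
def Even5 (v : Fin 5 → ZMod 2) : Prop := ∑ i, v i = 0

instance (v : Fin 5 → ZMod 2) : Decidable (Even5 v) := inferInstanceAs (Decidable (∑ i, v i = 0))

/-- The vector of weight two at two points. -/
def pairVec (a b : Fin 5) : Fin 5 → ZMod 2 := fun i => if i = a ∨ i = b then 1 else 0

theorem exists_pair_diff : ∀ v : Fin 5 → ZMod 2, Even5 v → v ≠ 0 →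
    ∃ a b c : Fin 5, a ≠ b ∧ b ≠ c ∧ a ≠ c ∧
      ∃ p q : Fin 5, p ≠ q ∧ (fun i => v i + v ((swap a b * swap b c) i)) = pairVec p q := by
  decide

theorem three_cycle_even : ∀ a b c : Fin 5, a ≠ b → b ≠ c → a ≠ c → Perm.sign (swap a b * swap b c) = 1 := by
  intro a b c h1 h2 _
  rw [map_mul, Perm.sign_swap h1, Perm.sign_swap h2]
  decide

theorem pair_step : ∀ p q : Fin 5, p ≠ q → ∀ r : Fin 5, r ≠ p → r ≠ q →
    (fun i => pairVec p q ((swap p r * swap r q) i)) = pairVec p r ∨
      (fun i => pairVec p q ((swap q r * swap r p) i)) = pairVec p r := by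
  decide

theorem pairVec_comm : ∀ p q : Fin 5, pairVec p q = pairVec q p := by decide

theorem even_basis : ∀ v : Fin 5 → ZMod 2, Even5 v →
    v = v 1 • pairVec 0 1 + v 2 • pairVec 0 2 + v 3 • pairVec 0 3 + v 4 • pairVec 0 4 := by
  decide

/-- A subgroup of the even weight vectors invariant under the alternating group is trivial or everything. -/
theorem even_top (U : AddSubgroup (Fin 5 → ZMod 2)) (he : ∀ v ∈ U, Even5 v)
    (hinv : ∀ σ : Perm (Fin 5), Perm.sign σ = 1 → ∀ v ∈ U, (fun i => v (σ i)) ∈ U)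
    (hne : ∃ v ∈ U, v ≠ 0) : ∀ w, Even5 w → w ∈ U := by
  obtain ⟨v, hv, hv0⟩ := hne
  obtain ⟨a, b, c, hab, hbc, hac, p, q, hpq, hd⟩ := exists_pair_diff v (he v hv) hv0
  have h1 : pairVec p q ∈ U := by
    rw [← hd]
    exact U.add_mem hv (hinv _ (three_cycle_even a b c hab hbc hac) v hv)
  have hstep : ∀ p q r : Fin 5, p ≠ q → r ≠ p → r ≠ q → pairVec p q ∈ U → pairVec p r ∈ U := by
    intro p q r hpq hrp hrq h
    rcases pair_step p q hpq r hrp hrq with e | e <;> rw [← e]
    · exact hinv _ (three_cycle_even p r q hrp.symm hrq hpq) _ h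
    · exact hinv _ (three_cycle_even q r p hrq.symm hrp hpq.symm) _ h
  have hall : ∀ r, r ≠ p → pairVec p r ∈ U := fun r hrp => by
    rcases eq_or_ne r q with rfl | hrq
    · exact h1
    · exact hstep p q r hpq hrp hrq h1
  have hzero : ∀ r, r ≠ 0 → pairVec 0 r ∈ U := fun r hr => by
    rcases eq_or_ne p 0 with rfl | hp
    · exact hall r hr
    · have h0 : pairVec 0 p ∈ U := by rw [pairVec_comm]; exact hall 0 hp.symm
      rcases eq_or_ne r p with rfl | hrp
      · exact h0
      · exact hstep 0 p r hp.symm hr hrp h0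
  intro w hw
  rw [even_basis w hw]
  have hs : ∀ (t : ZMod 2) r, r ≠ 0 → t • pairVec 0 r ∈ U := fun t r hr => by
    rcases (show t = 0 ∨ t = 1 by revert t; decide) with rfl | rfl
    · rw [zero_smul]; exact U.zero_mem
    · rw [one_smul]; exact hzero r hr
  exact U.add_mem (U.add_mem (U.add_mem (hs _ 1 (by decide)) (hs _ 2 (by decide))) (hs _ 3 (by decide)))
    (hs _ 4 (by decide))

end Cfsg.Agent.Invol.PushNorm
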