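import Cfsg.Agent.Lib.Invol.PushNorm.Shapes
import Cfsg.Agent.Lib.Invol.PushNorm.Perm

/-!
# The module `W`: irreducibility, faithfulness, and what follows
-/

set_option autoImplicit false
set_option linter.style.haveILetI false
set_option linter.unusedSectionVars false

namespace Cfsg.Agent.Invol.PushNorm

open Subgroup
open Cfsg.Agent.Transfer.QRC (core2 core2_le core2_norm le_core2 core2_isPGroup norm_of_conj pCore_normal_two)
open scoped commutatorElement Matrix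

universe u

variable {G : Type u} [Group G] [Finite G]

/-- `W` is an irreducible faithful module modulo the fixed points of `K`. -/
structure Mdl (K W : Subgroup G) : Prop extends Core K W where
  irr : ∀ X : Subgroup G, W ⊓ centralizer (K : Set G) ≤ X → X ≤ W → K ≤ normalizer (X : Set G) →
    X = W ⊓ centralizer (K : Set G) ∨ X = W
  faith : K ⊓ centralizer (W : Set G) ≤ W
  ne : W ≠ ⊥

theorem norm_cent {Y K : Subgroup G} (h : Y ≤ normalizer (K : Set G)) :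
    Y ≤ normalizer ((centralizer (K : Set G) : Subgroup G) : Set G) := norm_le fun y hy x hx =>
  mem_centralizer_iff.mpr fun k hk => by
    have h1 : y⁻¹ * k * y ∈ K := by
      have := conj_mem h (inv_mem hy) hk
      rwa [inv_inv] at this
    have h2 := mem_centralizer_iff.mp hx _ h1
    calc k * (y * x * y⁻¹) = y * (y⁻¹ * k * y * x) * y⁻¹ := by group
      _ = y * (x * (y⁻¹ * k * y)) * y⁻¹ := by rw [h2]
      _ = y * x * y⁻¹ * k := by group

theorem Core.le_K {K W : Subgroup G} (h : Core K W) : W ≤ K := h.eq ▸ core2_le K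

theorem Core.norm {K W : Subgroup G} (h : Core K W) : K ≤ normalizer (W : Set G) := h.eq ▸ norm_of_conj (core2_norm K)

theorem Core.inv_eq {K W : Subgroup G} (h : Core K W) {a : G} (ha : a ∈ W) : a⁻¹ = a :=
  inv_eq_of_mul_eq_one_left (h.exp a ha)

theorem Core.isPGroup {K W : Subgroup G} (h : Core K W) : IsPGroup 2 W := h.eq ▸ core2_isPGroup K

/-- A proper invariant subgroup of index two is impossible. -/
theorem Core.not_index_two {K W X : Subgroup G} (h : Core K W) (hXW : X ≤ W) (hK : K ≤ normalizer (X : Set G))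
    (h2 : Nat.card W = 2 * Nat.card X) : False := by
  have hlt : X ≠ W := fun e => by
    rw [e] at h2
    have := Nat.card_pos (α := W)
    omega
  refine hlt (le_antisymm hXW ?_)
  conv_lhs => rw [← h.stable]
  refine commutator_le.mpr fun w hw k hk => ?_
  by_cases hwX : w ∈ X
  · rw [show ⁅w, k⁆ = w * (k * w⁻¹ * k⁻¹) by rw [commutatorElement_def]; group]
    exact mul_mem hwX (conj_mem hK hk (inv_mem hwX))
  -- two elements outside `X` differ by an element of `X`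
  have hcoset : ∀ a ∈ W, a ∉ X → ∀ b ∈ W, b ∉ X → a * b ∈ X := by
    have hidx : (X.subgroupOf W).index = 2 := by
      have := (X.subgroupOf W).card_mul_index
      rw [Nat.card_congr (subgroupOfEquivOfLe hXW).toEquiv, h2, mul_comm 2] at this
      exact Nat.eq_of_mul_eq_mul_left Nat.card_pos this
    intro a ha ha' b hb hb'
    have := (Subgroup.mul_mem_iff_of_index_two hidx (a := ⟨a, ha⟩) (b := ⟨b, hb⟩)).mpr (iff_of_false ha' hb')
    exact this
  have hkw : k * w * k⁻¹ ∈ W := conj_mem h.norm hk hw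
  have hkw' : k * w * k⁻¹ ∉ X := fun e => hwX (by
    have := conj_mem hK (inv_mem hk) e
    convert this using 1
    group)
  rw [show ⁅w, k⁆ = w * (k * w * k⁻¹)⁻¹ by rw [commutatorElement_def]; group, h.inv_eq hkw]
  exact hcoset w hw hwX _ hkw hkw'

theorem mdl_three {K W : Subgroup G} (h : Core K W) (h3 : W.relIndex K = 3)
    (h4 : Nat.card W = 4 * Nat.card ↥(W ⊓ centralizer (K : Set G))) : Mdl K W := by
  obtain ⟨Z, hZ⟩ : ∃ Z, Z = W ⊓ centralizer (K : Set G) := ⟨_, rfl⟩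
  rw [← hZ] at h4
  have hne : W ≠ ⊥ := fun e => by
    have h1 : Nat.card W = 1 := by rw [e, card_bot]
    have : 0 < Nat.card Z := Nat.card_pos
    omega
  refine { toCore := h, irr := fun X hZX hXW hK => ?_, faith := ?_, ne := hne }
  · rw [← hZ] at hZX ⊢
    obtain ⟨a, ha⟩ := card_dvd_of_le hZX
    obtain ⟨b, hb⟩ := card_dvd_of_le hXW
    have hpos : 0 < Nat.card Z := Nat.card_pos
    rw [ha, h4, mul_comm 4, mul_assoc] at hb
    have hab : a * b = 4 := (Nat.eq_of_mul_eq_mul_left hpos hb).symm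
    have : a = 1 ∨ a = 2 ∨ a = 4 := by
      have hd : a ∈ Nat.divisors 4 := Nat.mem_divisors.mpr ⟨⟨b, hab.symm⟩, by norm_num⟩
      rw [show Nat.divisors 4 = {1, 2, 4} by decide] at hd
      simpa using hd
    rcases this with rfl | rfl | rfl
    · exact Or.inl (eq_of_le_of_card_ge hZX (by omega)).symm
    · exact (h.not_index_two hXW hK (by omega)).elim
    · exact Or.inr (eq_of_le_of_card_ge hXW (by omega))
  · intro k hk
    have hp : (W.subgroupOf K).index = 3 := h3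
    obtain ⟨Y, hY⟩ : ∃ Y, Y = (K ⊓ centralizer (W : Set G)).subgroupOf K := ⟨_, rfl⟩
    have hWY : W.subgroupOf K ≤ Y := fun w hw => hY ▸ mem_subgroupOf.mpr ⟨w.2,
      mem_centralizer_iff.mpr fun v hv => h.comm v hv _ hw⟩
    have hd := Subgroup.index_dvd_of_le hWY
    rw [hp] at hd
    rcases (Nat.dvd_prime Nat.prime_three).mp hd with h1 | h1
    · exfalso
      refine hne (le_bot_iff.mp ?_)
      rw [index_eq_one] at h1
      conv_lhs => rw [← h.stable]
      refine commutator_le.mpr fun w hw y hy => ?_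
      have hy' : (⟨y, hy⟩ : K) ∈ Y := h1 ▸ mem_top _
      rw [hY, mem_subgroupOf] at hy'
      rw [mem_bot, commutatorElement_eq_one_iff_mul_comm]
      exact mem_centralizer_iff.mp hy'.2 w hw
    · have hmul := Subgroup.relIndex_mul_index hWY
      rw [h1, hp] at hmul
      have : Y ≤ W.subgroupOf K := relIndex_eq_one.mp (by omega)
      exact this (show (⟨k, hk.1⟩ : K) ∈ Y by rw [hY]; exact hk)

theorem mdl_perm {K W : Subgroup G} (h : Core K W) (P : PermMod K W) : Mdl K W := by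
  classical
  refine { toCore := h, irr := fun X hZX hXW hK => ?_, faith := ?_, ne := ?_ }
  · by_cases hc : ∀ x : ↥W, (x : G) ∈ X → P.ψ x = 1
    · exact Or.inl (le_antisymm (fun x hx => ⟨hXW hx, (P.kerψ ⟨x, hXW hx⟩).mp (hc _ hx)⟩) hZX)
    push Not at hc
    obtain ⟨x, hx, hx1⟩ := hc
    refine Or.inr (le_antisymm hXW fun w hw => ?_)
    let U : AddSubgroup (Fin 5 → ZMod 2) :=
      { carrier := {v | ∃ y : ↥W, (y : G) ∈ X ∧ Multiplicative.toAdd (P.ψ y) = v}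
        zero_mem' := ⟨1, one_mem _, by simp⟩
        add_mem' := fun {a b} ⟨y, hy, hya⟩ ⟨z, hz, hzb⟩ =>
          ⟨y * z, X.mul_mem hy hz, by rw [map_mul, toAdd_mul, hya, hzb]⟩
        neg_mem' := fun {a} ⟨y, hy, hya⟩ => ⟨y⁻¹, X.inv_mem hy, by rw [map_inv, toAdd_inv, hya]⟩ }
    have hall := even_top U (fun v ⟨y, _, hy⟩ => hy ▸ P.even y) (fun σ hσ v hv => by
        obtain ⟨y, hy, rfl⟩ := hv
        obtain ⟨k, hk⟩ : σ⁻¹ ∈ P.ρ.range := by
          rw [P.rangeρ, Equiv.Perm.mem_alternatingGroup, Equiv.Perm.sign_inv, hσ]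
        have hm : (k : G) * y * (k : G)⁻¹ ∈ W := conj_mem h.norm k.2 y.2
        refine ⟨⟨_, hm⟩, conj_mem hK k.2 hy, funext fun i => ?_⟩
        rw [P.act k y hm i, hk, inv_inv])
      ⟨_, ⟨x, hx, rfl⟩, fun e => hx1 (Multiplicative.toAdd.injective (by rw [e]; rfl))⟩ _ (P.even ⟨w, hw⟩)
    obtain ⟨y, hy, hyw⟩ := hall
    have hd : ((y⁻¹ * ⟨w, hw⟩ : ↥W) : G) ∈ centralizer (K : Set G) := by
      refine (P.kerψ _).mp ?_
      rw [map_mul, map_inv, Multiplicative.toAdd.injective hyw, inv_mul_cancel]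
    have := X.mul_mem hy (hZX ⟨(y⁻¹ * ⟨w, hw⟩ : ↥W).2, hd⟩)
    simpa using this
  · intro k hk
    refine (P.kerρ ⟨k, hk.1⟩).mp (Equiv.ext fun i => ?_)
    rw [Equiv.Perm.coe_one, id_eq]
    by_contra hne
    obtain ⟨j, hji, hjk⟩ : ∃ j : Fin 5, j ≠ i ∧ j ≠ P.ρ ⟨k, hk.1⟩ i := by
      have key : ∀ i a : Fin 5, ∃ j, j ≠ i ∧ j ≠ a := by decide
      exact key i (P.ρ ⟨k, hk.1⟩ i)
    obtain ⟨u, hu⟩ := P.surjψ (Pi.single i 1 + Pi.single j 1) (by
      simp only [Pi.add_apply, Finset.sum_add_distrib, Finset.sum_pi_single', Finset.mem_univ, if_true]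
      exact CharTwo.add_self_eq_zero 1)
    have hconj : k * u * k⁻¹ = (u : G) := by
      rw [← mem_centralizer_iff.mp hk.2 u u.2, mul_inv_cancel_right]
    have hm : k * (u : G) * k⁻¹ ∈ W := by rw [hconj]; exact u.2
    have h1 := P.act ⟨k, hk.1⟩ u hm (P.ρ ⟨k, hk.1⟩ i)
    rw [show (⟨k * (u : G) * k⁻¹, hm⟩ : ↥W) = u from Subtype.ext hconj, hu] at h1
    simp [hne, Ne.symm hjk, Ne.symm hji] at h1
  · intro e
    obtain ⟨u, hu⟩ := P.surjψ (pairVec 0 1) (by decide)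
    rw [show u = 1 from Subtype.ext (mem_bot.mp (e.le u.2)), map_one] at hu
    have := congrFun hu 0
    simp [pairVec] at this

theorem mdl_nat {K W : Subgroup G} (h : Core K W) {F : Type} [Field F] [Fintype F] (P : NatMod K W F) : Mdl K W := by
  classical
  refine { toCore := h, irr := fun X hZX hXW hK => ?_, faith := ?_, ne := ?_ }
  · by_cases hc : ∀ x : ↥W, (x : G) ∈ X → P.ψ x = 1
    · exact Or.inl (le_antisymm (fun x hx => ⟨hXW hx, (P.kerψ ⟨x, hXW hx⟩).mp (hc _ hx)⟩) hZX)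
    push Not at hc
    obtain ⟨x, hx, hx1⟩ := hc
    refine Or.inr (le_antisymm hXW fun w hw => ?_)
    obtain ⟨v, hv⟩ : ∃ v, v = Multiplicative.toAdd (P.ψ x) := ⟨_, rfl⟩
    have hv0 : v ≠ 0 := fun e => hx1 (Multiplicative.toAdd.injective (by rw [← hv, e]; rfl))
    obtain ⟨k₁, hk₁⟩ := Fus.RootPair.exists_map hv0
    -- every vector is a value on `X`
    have hval : ∀ v' : Fin 2 → F, ∃ y : ↥W, (y : G) ∈ X ∧ Multiplicative.toAdd (P.ψ y) = v' := by
      intro v'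
      by_cases h0 : v' = 0
      · exact ⟨1, one_mem _, by simp [h0]⟩
      obtain ⟨k₂, hk₂⟩ := Fus.RootPair.exists_map h0
      obtain ⟨k, hk⟩ := P.surjρ (k₂ * k₁⁻¹)
      have hm : (k : G) * x * (k : G)⁻¹ ∈ W := conj_mem h.norm k.2 x.2
      refine ⟨⟨_, hm⟩, conj_mem hK k.2 hx, ?_⟩
      rw [P.act k x hm, hk, ← hv, ← hk₁, Matrix.mulVec_mulVec, ← Matrix.SpecialLinearGroup.coe_mul,
        inv_mul_cancel_right, hk₂]
    obtain ⟨y, hy, hyw⟩ := hval (Multiplicative.toAdd (P.ψ ⟨w, hw⟩))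
    have hd : ((y⁻¹ * ⟨w, hw⟩ : ↥W) : G) ∈ centralizer (K : Set G) := by
      refine (P.kerψ _).mp ?_
      rw [map_mul, map_inv, Multiplicative.toAdd.injective hyw, inv_mul_cancel]
    have := X.mul_mem hy (hZX ⟨(y⁻¹ * ⟨w, hw⟩ : ↥W).2, hd⟩)
    simpa using this
  · intro k hk
    refine (P.kerρ ⟨k, hk.1⟩).mp (Subtype.ext (Matrix.ext_of_mulVec_single fun i => ?_))
    obtain ⟨u, hu⟩ := P.surjψ (Multiplicative.ofAdd (Pi.single i 1))
    have hconj : k * u * k⁻¹ = (u : G) := by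
      rw [← mem_centralizer_iff.mp hk.2 u u.2, mul_inv_cancel_right]
    have hm : k * (u : G) * k⁻¹ ∈ W := by rw [hconj]; exact u.2
    have h1 := P.act ⟨k, hk.1⟩ u hm
    rw [show (⟨k * (u : G) * k⁻¹, hm⟩ : ↥W) = u from Subtype.ext hconj, hu] at h1
    rw [Matrix.SpecialLinearGroup.coe_one, Matrix.one_mulVec]
    exact h1.symm
  · intro e
    obtain ⟨u, hu⟩ := P.surjψ (Multiplicative.ofAdd fun _ => (1 : F))
    rw [show u = 1 from Subtype.ext (mem_bot.mp (e.le u.2)), map_one] at hu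
    exact one_ne_zero (congrFun (congrArg Multiplicative.toAdd hu) 0).symm

/-- A derivation killed on a subgroup of odd index is inner. -/
theorem exists_inner {K W P : Subgroup G} (h : Core K W) (hodd : Odd (P.relIndex K)) {p : G}
    (hpW : ∀ k ∈ K, p * k * p⁻¹ * k⁻¹ ∈ W) (hpP : ∀ x ∈ P, p * x = x * p) :
    ∃ w ∈ W, w * p ∈ centralizer (K : Set G) := by
  classical
  haveI : Fintype (↥K ⧸ P.subgroupOf K) := Fintype.ofFinite _
  letI : CommGroup ↥W := { (inferInstance : Group ↥W) with mul_comm := fun a b => Subtype.ext (h.comm a a.2 b b.2) }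
  let δ : ↥K → ↥W := fun k => ⟨p * k * p⁻¹ * (k : G)⁻¹, hpW k k.2⟩
  let act : ↥K → ↥W →* ↥W := fun k =>
    { toFun := fun w => ⟨(k : G) * w * (k : G)⁻¹, conj_mem h.norm k.2 w.2⟩
      map_one' := Subtype.ext (show (k : G) * (1 : G) * (k : G)⁻¹ = 1 by group)
      map_mul' := fun a b => Subtype.ext (show (k : G) * ((a : G) * b) * (k : G)⁻¹ =
        (k : G) * a * (k : G)⁻¹ * ((k : G) * b * (k : G)⁻¹) by group) }
  have hcoc : ∀ a b, δ (a * b) = δ a * act a (δ b) := fun a b => Subtype.ext (by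
    show p * ((a : G) * b) * p⁻¹ * ((a : G) * b)⁻¹ = p * a * p⁻¹ * (a : G)⁻¹ * ((a : G) * (p * b * p⁻¹ * (b : G)⁻¹) * (a : G)⁻¹)
    group)
  let β : ↥K ⧸ P.subgroupOf K → ↥W := Quotient.lift δ fun a b hab => by
    have h1 : a⁻¹ * b ∈ P.subgroupOf K := QuotientGroup.leftRel_apply.mp hab
    have h2 : δ (a⁻¹ * b) = 1 := Subtype.ext (by
      show p * ((a⁻¹ * b : ↥K) : G) * p⁻¹ * ((a⁻¹ * b : ↥K) : G)⁻¹ = 1
      have h3 : ((a⁻¹ * b : ↥K) : G) ∈ P := h1
      rw [hpP _ h3]; group)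
    have := hcoc a (a⁻¹ * b)
    rw [mul_inv_cancel_left, h2, map_one, mul_one] at this
    exact this.symm
  obtain ⟨w0, hw0⟩ : ∃ w0, w0 = ∏ x, β x := ⟨_, rfl⟩
  have hkey : ∀ a : ↥K, δ a = w0 * act a w0 := by
    intro a
    have hperm : ∏ x, β (a • x) = w0 := hw0 ▸ Fintype.prod_equiv (MulAction.toPerm a) _ _ (fun _ => rfl)
    have hsm : ∀ x, β (a • x) = δ a * act a (β x) := fun x => Quotient.inductionOn x fun b => hcoc a b
    rw [Finset.prod_congr rfl (fun x _ => hsm x), Finset.prod_mul_distrib, ← map_prod, ← hw0, Finset.prod_const,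
      Finset.card_univ, ← Nat.card_eq_fintype_card] at hperm
    have hsq : ∀ x : ↥W, x * x = 1 := fun x => Subtype.ext (h.exp x x.2)
    have hm : δ a ^ Nat.card (↥K ⧸ P.subgroupOf K) = δ a := by
      obtain ⟨j, hj⟩ := hodd
      rw [show Nat.card (↥K ⧸ P.subgroupOf K) = 2 * j + 1 from hj, pow_add, pow_mul, pow_two, hsq, one_pow,
        one_mul, pow_one]
    rw [hm] at hperm
    calc δ a = δ a * (act a w0 * act a w0) := by rw [hsq, mul_one]
      _ = δ a * act a w0 * act a w0 := (mul_assoc _ _ _).symm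
      _ = w0 * act a w0 := by rw [hperm]
  refine ⟨w0, w0.2, mem_centralizer_iff.mpr fun k hk => ?_⟩
  have h1 : p * k * p⁻¹ * k⁻¹ = (w0 : G) * (k * w0 * k⁻¹) := congrArg Subtype.val (hkey ⟨k, hk⟩)
  have h2 : p * k * p⁻¹ = (w0 : G) * k * w0 := by
    rw [show p * k * p⁻¹ = p * k * p⁻¹ * k⁻¹ * k by group, h1]; group
  have h3 : (w0 : G) * w0 = 1 := h.exp _ w0.2
  calc k * ((w0 : G) * p) = ((w0 : G) * w0) * k * w0 * p := by rw [h3, one_mul, mul_assoc]
    _ = w0 * (w0 * k * w0) * p := by group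
    _ = w0 * (p * k * p⁻¹) * p := by rw [h2]
    _ = w0 * p * k := by group

namespace Hyp

variable {H K M Q T W : Subgroup G} (h : Hyp H K M Q T) (hm : Mdl K W)
include h hm

theorem W_le_Q : W ≤ Q := hm.eq ▸ h.K_core_le

theorem W_le_T : W ≤ T := (h.W_le_Q hm).trans h.Q_le_T

theorem W_norm : H ≤ normalizer (W : Set G) := by
  refine norm_le fun x hx w hw => ?_
  rw [hm.eq] at hw ⊢
  refine le_core2 (N := cjS x (core2 K)) ?_ (isPGroup_cjS (core2_isPGroup K)) ?_ (conj_mem_cjS hw)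
  · rintro _ ⟨c, hc, rfl⟩
    exact conj_mem h.norm_K hx (core2_le K hc)
  · intro k hk y hy
    rw [mem_cjS] at hy ⊢
    have hk' : x⁻¹ * k * x ∈ K := by
      have := conj_mem h.norm_K (inv_mem hx) hk
      rwa [inv_inv] at this
    have := core2_norm K _ hk' _ hy
    convert this using 1
    group

theorem Q_move' {q k : G} (hq : q ∈ Q) (hk : k ∈ K) : q * k * q⁻¹ * k⁻¹ ∈ W := hm.eq ▸ h.Q_move hq hk

theorem Q_cent : Q ≤ centralizer (W : Set G) := by
  intro q hq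
  obtain ⟨Z, hZ⟩ : ∃ Z, Z = W ⊓ centralizer (K : Set G) := ⟨_, rfl⟩
  have hqW : ∀ w ∈ W, q * w * q⁻¹ * w⁻¹ ∈ W := fun w hw =>
    W.mul_mem (conj_mem (h.W_norm hm) (h.Q_le_H hq) hw) (W.inv_mem hw)
  have hequi : ∀ k ∈ K, ∀ w ∈ W, k * (q * w * q⁻¹ * w⁻¹) * k⁻¹ = q * (k * w * k⁻¹) * q⁻¹ * (k * w * k⁻¹)⁻¹ := by
    intro k hk w hw
    obtain ⟨c, hc⟩ : ∃ c, c = q * k * q⁻¹ * k⁻¹ := ⟨_, rfl⟩
    have hcW : c ∈ W := hc ▸ h.Q_move' hm hq hk
    have hx : k * (q * w * q⁻¹) * k⁻¹ ∈ W := conj_mem hm.norm hk (conj_mem (h.W_norm hm) (h.Q_le_H hq) hw)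
    have e : q * (k * w * k⁻¹) * q⁻¹ = c * (k * (q * w * q⁻¹) * k⁻¹) * c⁻¹ := by rw [hc]; group
    rw [e, hm.comm c hcW _ hx, mul_inv_cancel_right]
    group
  -- the image of `w ↦ [q, w]`
  let δ : ↥W →* G :=
    { toFun := fun w => q * w * q⁻¹ * (w : G)⁻¹
      map_one' := by simp
      map_mul' := fun a b => by
        have hb := hqW b b.2
        have ha : (a : G)⁻¹ ∈ W := inv_mem a.2
        show q * ((a : G) * b) * q⁻¹ * ((a : G) * b)⁻¹ = q * a * q⁻¹ * (a : G)⁻¹ * (q * b * q⁻¹ * (b : G)⁻¹)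
        rw [show q * ((a : G) * b) * q⁻¹ * ((a : G) * b)⁻¹ = q * a * q⁻¹ * ((q * b * q⁻¹ * (b : G)⁻¹) * (a : G)⁻¹) by group,
          hm.comm _ hb _ ha, ← mul_assoc] }
  obtain ⟨X, hX⟩ : ∃ X, X = δ.range ⊔ Z := ⟨_, rfl⟩
  have hrW : δ.range ≤ W := by rintro _ ⟨w, rfl⟩; exact hqW w w.2
  have hKX : K ≤ normalizer (X : Set G) := hX ▸ norm_sup
    (norm_le fun k hk x hx => by
      obtain ⟨w, rfl⟩ := hx
      exact ⟨⟨_, conj_mem hm.norm hk w.2⟩, (hequi k hk w w.2).symm⟩)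
    (hZ ▸ norm_inf hm.norm (norm_cent le_normalizer))
  have hXW : X ≤ W := hX ▸ sup_le hrW (hZ ▸ inf_le_left)
  have hXne : X ≠ W := fun e => by
    -- the action of a 2-element on a 2-group is not onto
    obtain ⟨n, hn⟩ : ∃ n, q ^ 2 ^ n = 1 := by
      obtain ⟨n, hn⟩ := h.Q_p ⟨q, hq⟩
      exact ⟨n, congrArg Subtype.val hn⟩
    have hstep : ∀ j : ℕ, ∀ w ∈ W, ∃ v ∈ W, ∃ z ∈ Z, w = q ^ 2 ^ j * v * (q ^ 2 ^ j)⁻¹ * v⁻¹ * z := by
      intro j
      induction j with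
      | zero =>
        intro w hw
        have hw' : w ∈ δ.range ⊔ Z := hX ▸ e.ge hw
        rw [← SetLike.mem_coe, coe_mul_of_left_le_normalizer_right δ.range Z] at hw'
        · obtain ⟨_, ⟨v, rfl⟩, z, hz, rfl⟩ := hw'
          exact ⟨v, v.2, z, hz, by rw [pow_zero, pow_one]; rfl⟩
        · refine fun x hx => mem_norm fun z hz => ?_
          rw [hm.comm x (hrW hx) z (hZ.le hz).1, mul_inv_cancel_right]
          exact hz
      | succ j ih =>
        intro w hw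
        obtain ⟨v, hv, z, hz, rfl⟩ := ih w hw
        obtain ⟨u, hu, z', hz', rfl⟩ := ih v hv
        obtain ⟨r, hr⟩ : ∃ r, r = q ^ 2 ^ j := ⟨_, rfl⟩
        have hrH : r ∈ H := hr ▸ pow_mem (h.Q_le_H hq) _
        have hz'K : z' ∈ centralizer (K : Set G) := (hZ.le hz').2
        -- `r` fixes the fixed points modulo themselves
        have hrz : r * z' * r⁻¹ ∈ Z := hZ ▸ conj_mem (norm_inf (h.W_norm hm)
          (norm_cent h.norm_K)) hrH (hZ.le hz')
        obtain ⟨a, ha⟩ : ∃ a, a = r * u * r⁻¹ := ⟨_, rfl⟩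
        obtain ⟨b, hb⟩ : ∃ b, b = r * a * r⁻¹ := ⟨_, rfl⟩
        have haW : a ∈ W := ha ▸ conj_mem (h.W_norm hm) hrH hu
        have hbW : b ∈ W := hb ▸ conj_mem (h.W_norm hm) hrH haW
        refine ⟨u, hu, (r * z' * r⁻¹ * z'⁻¹) * z, mul_mem (mul_mem hrz (inv_mem hz')) hz, ?_⟩
        rw [pow_succ, pow_mul, ← hr, pow_two]
        have e1 : r * (r * u * r⁻¹ * u⁻¹ * z') * r⁻¹ * (r * u * r⁻¹ * u⁻¹ * z')⁻¹ * z =
            (b * a⁻¹) * (r * z' * r⁻¹) * (z'⁻¹ * (u * a⁻¹)) * z := by rw [hb, ha]; group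
        have e2 : r * r * u * (r * r)⁻¹ * u⁻¹ = b * u⁻¹ := by rw [hb, ha]; group
        rw [e1, e2, hm.inv_eq haW]
        have hzW : r * z' * r⁻¹ ∈ W := (hZ.le hrz).1
        have hz'W : z'⁻¹ ∈ W := W.inv_mem (hZ.le hz').1
        have hu' : u⁻¹ = u := hm.inv_eq hu
        have hua : u * a ∈ W := W.mul_mem hu haW
        rw [hm.comm z'⁻¹ hz'W (u * a) hua, show b * a * (r * z' * r⁻¹) * (u * a * z'⁻¹) =
          b * (a * (r * z' * r⁻¹) * (u * a)) * z'⁻¹ by group,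
          hm.comm a haW _ hzW, show r * z' * r⁻¹ * a * (u * a) = r * z' * r⁻¹ * (a * u * a) by group,
          hm.comm a haW u hu, mul_assoc u a a, hm.exp a haW, mul_one, hm.comm _ hzW u hu, hu']
        group
    obtain hc := hstep n
    refine hm.ne (le_bot_iff.mp ?_)
    conv_lhs => rw [← hm.stable]
    refine commutator_le.mpr fun w hw k hk => ?_
    obtain ⟨v, -, z, hz, rfl⟩ := hc w hw
    rw [hn, one_mul, inv_one, mul_one, mul_inv_cancel, one_mul, mem_bot, commutatorElement_eq_one_iff_mul_comm]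
    exact (mem_centralizer_iff.mp (hZ.le hz).2 k hk).symm
  have hXZ : X = Z := hZ ▸ ((hm.irr X (by rw [hX, hZ]; exact le_sup_right) hXW hKX).resolve_right hXne)
  -- `δ` kills commutators
  refine mem_centralizer_iff.mpr fun w hw => ?_
  obtain ⟨D, hD⟩ : ∃ D : Subgroup G, D = δ.ker.map W.subtype := ⟨_, rfl⟩
  have hWD : W ≤ D := by
    conv_lhs => rw [← hm.stable]
    refine commutator_le.mpr fun v hv k hk => ?_
    have hc : ⁅v, k⁆ ∈ W := hm.stable.le (commutator_mem_commutator hv hk)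
    have hv' : k * v⁻¹ * k⁻¹ ∈ W := conj_mem hm.norm hk (W.inv_mem hv)
    have hδ : q * v * q⁻¹ * v⁻¹ ∈ centralizer (K : Set G) := by
      have h1 : δ ⟨v, hv⟩ ∈ X := by rw [hX]; exact mem_sup_left ⟨_, rfl⟩
      rw [hXZ, hZ] at h1
      exact h1.2
    rw [hD]
    refine ⟨⟨_, hc⟩, ?_, rfl⟩
    rw [SetLike.mem_coe, MonoidHom.mem_ker, show (⟨⁅v, k⁆, hc⟩ : ↥W) = ⟨v, hv⟩ * ⟨k * v⁻¹ * k⁻¹, hv'⟩ from
      Subtype.ext (show ⁅v, k⁆ = v * (k * v⁻¹ * k⁻¹) by rw [commutatorElement_def]; group), map_mul]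
    have e2 : δ ⟨k * v⁻¹ * k⁻¹, hv'⟩ = k * δ (⟨v, hv⟩⁻¹) * k⁻¹ := (hequi k hk v⁻¹ (W.inv_mem hv)).symm
    rw [e2, map_inv]
    have hcm : k * (δ ⟨v, hv⟩)⁻¹ * k⁻¹ = (δ ⟨v, hv⟩)⁻¹ := by
      have := mem_centralizer_iff.mp (inv_mem hδ) k hk
      show k * (q * v * q⁻¹ * v⁻¹)⁻¹ * k⁻¹ = (q * v * q⁻¹ * v⁻¹)⁻¹
      rw [this, mul_inv_cancel_right]
    rw [hcm, mul_inv_cancel]
  obtain ⟨w', hw', hwe⟩ := hD.le (hWD hw)
  have h1 : q * w * q⁻¹ * w⁻¹ = 1 := by
    rw [← hwe]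
    exact MonoidHom.mem_ker.mp hw'
  rw [mul_inv_eq_one, mul_inv_eq_iff_eq_mul] at h1
  exact h1.symm

theorem T_cent : T ⊓ centralizer (W : Set G) = Q := by
  refine le_antisymm ?_ (le_inf h.Q_le_T (h.Q_cent hm))
  refine h.mem_Q (h.T_p.to_le inf_le_left) (inf_le_left.trans (h.T_le.trans h.H_le_M))
    (inf_le_left.trans (h.T_le.trans h.Q_norm)) fun s hs k hk => ?_
  rw [← hm.eq]
  refine hm.faith ⟨K.mul_mem (conj_mem h.norm_K (h.T_le hs.1) hk) (K.inv_mem hk), mem_centralizer_iff.mpr fun w hw => ?_⟩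
  have hs' := hs.2
  have hsc : ∀ x ∈ W, s * x * s⁻¹ = x := fun x hx => by
    rw [← mem_centralizer_iff.mp hs' x hx, mul_inv_cancel_right]
  have h1 : k⁻¹ * w * k⁻¹⁻¹ ∈ W := conj_mem hm.norm (inv_mem hk) hw
  have h2 : s⁻¹ * (k⁻¹ * w * k⁻¹⁻¹) * s = k⁻¹ * w * k⁻¹⁻¹ := by
    conv_lhs => rw [← hsc _ h1]
    group
  have h3 : s * k * s⁻¹ * k⁻¹ * w * (s * k * s⁻¹ * k⁻¹)⁻¹ = w := by
    rw [show s * k * s⁻¹ * k⁻¹ * w * (s * k * s⁻¹ * k⁻¹)⁻¹ = s * (k * (s⁻¹ * (k⁻¹ * w * k⁻¹⁻¹) * s) * k⁻¹) * s⁻¹ by group,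
      h2, show k * (k⁻¹ * w * k⁻¹⁻¹) * k⁻¹ = w by group, hsc w hw]
  exact (mul_inv_eq_iff_eq_mul.mp h3).symm

variable {g : G} (hgT : g ∈ normalizer (T : Set G)) (hgM : g ∉ M)
include hgT hgM

theorem W'_le_T : cjS g W ≤ T := by
  have := cjS_mono (g := g) (h.W_le_T hm)
  rwa [cjS_eq_iff.mpr hgT] at this

/-- The conjugate module is not in `Q`. -/
theorem W'_not : ¬ cjS g W ≤ Q := by
  intro hle
  have hne := hm.ne
  have hWW : W ⊔ cjS g W ≤ Q := sup_le (h.W_le_Q hm) hle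
  refine hne (le_bot_iff.mp (le_sup_left.trans (h.no_common hgT hgM (h.Q_p.to_le hWW) ?_ ?_).le))
  · refine h.sup.trans (sup_le (norm_le fun k hk x hx => ?_) ?_)
    · rw [← mul_inv_cancel_right (k * x * k⁻¹) x,
        show k * x * k⁻¹ * x * x⁻¹ = (k * x * k⁻¹ * x⁻¹) * x by group]
      refine mul_mem (mem_sup_left ?_) hx
      have h1 := inv_mem (h.Q_move' hm (hWW hx) hk)
      convert h1 using 1
      group
    · refine norm_sup (h.T_le.trans (h.W_norm hm)) ?_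
      rw [normalizer_cjS, ← cjS_eq_iff.mpr hgT]
      exact cjS_mono (h.T_le.trans (h.W_norm hm))
  · have hWQ' : W ≤ cjS g Q := by
      refine fun w hw => ?_
      rw [mem_cjS]
      refine (h.T_cent hm).le ⟨?_, mem_centralizer_iff.mpr fun v hv => ?_⟩
      · have := h.W_le_T hm hw
        rw [← cjS_eq_iff.mpr hgT, mem_cjS] at this
        exact this
      · have := mem_centralizer_iff.mp (h.Q_cent hm (hle (conj_mem_cjS (g := g) hv))) w hw
        calc v * (g⁻¹ * w * g) = g⁻¹ * (g * v * g⁻¹ * w) * g := by group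
          _ = g⁻¹ * (w * (g * v * g⁻¹)) * g := by rw [this]
          _ = g⁻¹ * w * g * v := by group
    refine (cjS_mono h.sup).trans ?_
    rw [cjS_sup]
    refine sup_le (norm_le fun k hk x hx => ?_) ?_
    · have hxQ : x ∈ cjS g Q := (sup_le hWQ' (cjS_mono (h.W_le_Q hm))) hx
      rw [mem_cjS] at hk hxQ
      rw [show k * x * k⁻¹ = (k * x * k⁻¹ * x⁻¹) * x by group]
      refine mul_mem (mem_sup_right ?_) hx
      rw [mem_cjS]
      have h1 := inv_mem (h.Q_move' hm hxQ hk)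
      convert h1 using 1
      group
    · rw [cjS_eq_iff.mpr hgT]
      refine norm_sup (h.T_le.trans (h.W_norm hm)) ?_
      rw [normalizer_cjS, ← cjS_eq_iff.mpr hgT]
      exact cjS_mono (h.T_le.trans (h.W_norm hm))

end Hyp

end Cfsg.Agent.Invol.PushNorm
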