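import Cfsg.Agent.Lib.Invol.PushNorm.Setup
import Cfsg.Agent.Lib.Invol.PushUp.Frame
import Cfsg.Agent.Lib.Invol.NaturalSL2
import Cfsg.Agent.Lib.Fus.PushBlocks.Transfer

/-!
# The rank one subgroup has a unique maximal overgroup of its Sylow subgroup
-/

set_option autoImplicit false
set_option linter.style.haveILetI false
set_option linter.unusedSectionVars false

namespace Cfsg.Agent.Invol.PushNorm

open Subgroup
open Cfsg.Agent.Transfer.QRC (core2 core2_le core2_norm le_core2 core2_isPGroup norm_of_conj pCore_normal_two)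
open Cfsg.Agent.Invol.Nat2 (upG mem_upG)

universe u

variable {G : Type u} [Group G] [Finite G]

/-- The two possibilities for `K` modulo its core. -/
def Star (K : Subgroup G) : Prop :=
  ∃ (Y : Type) (_ : Group Y) (φ : ↥K →* Y), Function.Surjective φ ∧ φ.ker = Cfsg.pCore 2 ↥K ∧
    (Nat.card Y = 3 ∨ ∃ n : ℕ, 1 ≤ n ∧ Nonempty (Y ≃* Matrix.SpecialLinearGroup (Fin 2) (GaloisField 2 n)))

theorem ker_equiv {A B C : Type*} [Group A] [Group B] [Group C] (f : A →* B) (e : B ≃* C) :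
    (e.toMonoidHom.comp f).ker = f.ker := by
  ext x
  simp [MonoidHom.mem_ker]

theorem star_of (K : Subgroup G) [hn : (Cfsg.pCore 2 ↥K).Normal]
    (h : Nonempty (↥K ⧸ Cfsg.pCore 2 ↥K ≃* Multiplicative (ZMod 3)) ∨
      ∃ n : ℕ, 1 ≤ n ∧
        Nonempty (↥K ⧸ Cfsg.pCore 2 ↥K ≃* Matrix.SpecialLinearGroup (Fin 2) (GaloisField 2 n))) : Star K := by
  rcases h with ⟨⟨e⟩⟩ | ⟨n, hn1, ⟨e⟩⟩
  · exact ⟨_, inferInstance, e.toMonoidHom.comp (QuotientGroup.mk' _),
      e.surjective.comp (QuotientGroup.mk'_surjective _),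
      by rw [ker_equiv, QuotientGroup.ker_mk'],
      Or.inl (by simp)⟩
  · exact ⟨_, inferInstance, e.toMonoidHom.comp (QuotientGroup.mk' _),
      e.surjective.comp (QuotientGroup.mk'_surjective _),
      by rw [ker_equiv, QuotientGroup.ker_mk'],
      Or.inr ⟨n, hn1, ⟨MulEquiv.refl _⟩⟩⟩

/-- In `SL₂` over a field of characteristic two the normaliser of a Sylow 2-subgroup is the only maximal
subgroup over it. -/
theorem le_norm_sylow {F : Type} [Field F] [Finite F] [CharP F 2]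
    (P : Sylow 2 (Matrix.SpecialLinearGroup (Fin 2) F)) {X : Subgroup (Matrix.SpecialLinearGroup (Fin 2) F)}
    (hP : (P : Subgroup _) ≤ X) (hX : X ≠ ⊤) :
    X ≤ normalizer ((P : Subgroup (Matrix.SpecialLinearGroup (Fin 2) F)) : Set (Matrix.SpecialLinearGroup (Fin 2) F)) ∧
      normalizer ((P : Subgroup (Matrix.SpecialLinearGroup (Fin 2) F)) : Set (Matrix.SpecialLinearGroup (Fin 2) F)) ≠ ⊤ := by
  obtain ⟨g, hg⟩ := Nat2.exists_conj_upG (F := F) 2 P
  obtain ⟨X', hX'⟩ : ∃ X', X' = cjS g⁻¹ X := ⟨_, rfl⟩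
  have hU : (upG : Subgroup (Matrix.SpecialLinearGroup (Fin 2) F)) = cjS g⁻¹ (P : Subgroup _) := by
    rw [hg]; exact (cjS_cancel g _).symm
  have hX'ne : X' ≠ ⊤ := fun e => hX (by
    rw [← cjS_cancel' g X, ← hX', e, eq_top_iff]
    exact fun y _ => mem_cjS.mpr (mem_top _))
  have hle := PushUp.le_bor (M := X') (by rw [hU, hX']; exact cjS_mono hP) hX'ne
  have hbor : (PushUp.bor : Subgroup (Matrix.SpecialLinearGroup (Fin 2) F)) ≤
      normalizer ((upG : Subgroup (Matrix.SpecialLinearGroup (Fin 2) F)) : Set (Matrix.SpecialLinearGroup (Fin 2) F)) := fun b hb =>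
    Nat2.normalizes_upG hb
  refine ⟨?_, fun e => ?_⟩
  · have := cjS_mono (g := g) (hle.trans hbor)
    rwa [hX', cjS_cancel', ← normalizer_cjS, hU, cjS_cancel'] at this
  · have hw : (SL2Nat.wel : Matrix.SpecialLinearGroup (Fin 2) F) ∈
        normalizer ((upG : Subgroup (Matrix.SpecialLinearGroup (Fin 2) F)) : Set (Matrix.SpecialLinearGroup (Fin 2) F)) := by
      rw [hU, normalizer_cjS, mem_cjS, e]
      exact mem_top _
    have h1 := (mem_normalizer_iff.mp hw _).mp (mem_upG.mpr ⟨1, rfl⟩)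
    obtain ⟨t, ht⟩ := mem_upG.mp h1
    have h2 : (SL2Nat.wel : Matrix.SpecialLinearGroup (Fin 2) F) * Grp.SL2.up 1 =
        Grp.SL2.up t * SL2Nat.wel := by rw [ht]; group
    exact PushUp.wel_not_bor (PushUp.mem_bor.mpr (Nat2.upper_of_conj_up one_ne_zero h2))

namespace Hyp

variable {H K M Q T : Subgroup G} (h : Hyp H K M Q T)
include h

/-- `T ∩ K` is a Sylow subgroup of `K`. -/
theorem exists_sylow_K : ∃ P : Sylow 2 ↥K, (P : Subgroup ↥K) = T.subgroupOf K := by
  have hp : IsPGroup 2 (T.subgroupOf K) := h.T_p.comap_of_injective K.subtype K.subtype_injective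
  obtain ⟨P, hP⟩ := hp.exists_le_sylow
  haveI : Fact (Nat.Prime 2) := ⟨Nat.prime_two⟩
  refine ⟨P, le_antisymm ?_ hP⟩
  -- every 2-subgroup of `K` lies in a conjugate of `T` inside `H`
  have hTs : IsPGroup 2 (T.subgroupOf H) := h.T_p.comap_of_injective H.subtype H.subtype_injective
  obtain ⟨S, hS⟩ := hTs.exists_le_sylow
  have hSeq : (S : Subgroup ↥H).map H.subtype = T := h.T_max _ (S.isPGroup'.map _) (map_subtype_le _)
    fun t ht => ⟨⟨t, h.T_le ht⟩, hS ht, rfl⟩
  have hPp : IsPGroup 2 (((P : Subgroup ↥K).map K.subtype).subgroupOf H) :=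
    (P.isPGroup'.map _).comap_of_injective H.subtype H.subtype_injective
  obtain ⟨S', hS'⟩ := hPp.exists_le_sylow
  obtain ⟨x, hx⟩ := MulAction.exists_smul_eq ↥H S' S
  have hPK : (P : Subgroup ↥K).map K.subtype ≤ K := map_subtype_le _
  have hmove : cjS (x : G) ((P : Subgroup ↥K).map K.subtype) ≤ T ⊓ K := by
    rintro _ ⟨y, hy, rfl⟩
    refine ⟨?_, conj_mem h.norm_K x.2 (hPK hy)⟩
    rw [← hSeq]
    refine ⟨x * ⟨y, h.K_le (hPK hy)⟩ * x⁻¹, ?_, rfl⟩
    rw [← hx, Sylow.coe_subgroup_smul]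
    exact ⟨_, hS' (mem_subgroupOf.mpr hy), rfl⟩
  have hcard : Nat.card (P : Subgroup ↥K) ≤ Nat.card (T.subgroupOf K) := by
    rw [← card_map_of_injective K.subtype_injective (K := (P : Subgroup ↥K)),
      ← card_cjS (x : G), ← card_map_of_injective K.subtype_injective (K := T.subgroupOf K),
      subgroupOf_map_subtype]
    exact card_le_of_le hmove
  exact (eq_of_le_of_card_ge hP hcard).ge

/-- A proper overgroup of `T` in `H` lies in a fixed proper subgroup. -/
theorem exists_top (hs : Star K) : ∃ B : Subgroup G, B ≤ H ∧ B ≠ H ∧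
    ∀ X : Subgroup G, T ≤ X → X ≤ H → X ≠ H → X ≤ B := by
  classical
  haveI : Fact (Nat.Prime 2) := ⟨Nat.prime_two⟩
  haveI hcn : (Cfsg.pCore 2 ↥K).Normal := pCore_normal_two ↥K
  obtain ⟨Y, _, φ, hφ, hker, hY⟩ := hs
  obtain ⟨P, hP⟩ := h.exists_sylow_K
  have hCP : Cfsg.pCore 2 ↥K ≤ (P : Subgroup ↥K) := sSup_le fun N hN => by
    obtain ⟨hNn, hNp⟩ := hN
    exact hNp.le_sylow_of_normal P
  have hfull : ∀ X : Subgroup G, T ≤ X → X ≤ H → K ≤ X → X = H := fun X hT hX hK =>
    le_antisymm hX (h.sup.trans (sup_le hK hT))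
  have hprop : ∀ X : Subgroup G, T ≤ X → X ≤ H → X ≠ H → (X.subgroupOf K).map φ ≠ ⊤ := fun X hT hX hne e => by
    refine hne (hfull X hT hX fun k hk => ?_)
    obtain ⟨k', hk', he⟩ := e.ge (mem_top (φ ⟨k, hk⟩))
    have hmem : k'⁻¹ * ⟨k, hk⟩ ∈ φ.ker := by rw [MonoidHom.mem_ker, map_mul, map_inv, he, inv_mul_cancel]
    rw [hker] at hmem
    have h2 : (k' : G)⁻¹ * k ∈ T := by
      have h3 := hCP hmem
      rw [hP] at h3
      exact h3
    have := X.mul_mem (show (k' : G) ∈ X from hk') (hT h2)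
    rwa [mul_inv_cancel_left] at this
  rcases hY with h3 | ⟨n, hn, ⟨e⟩⟩
  · -- three: `T` itself
    refine ⟨T, h.T_le, fun he => h.T_ne (he ▸ le_normalizer), fun X hT hX hne x hx => ?_⟩
    have hx2 := h.sup (hX hx)
    rw [← SetLike.mem_coe, coe_mul_of_right_le_normalizer_left K T (h.T_le.trans h.norm_K)] at hx2
    obtain ⟨k, hk, t, ht, rfl⟩ := hx2
    have hkX : k ∈ X := by
      have := X.mul_mem hx (X.inv_mem (hT ht))
      rwa [mul_inv_cancel_right] at this
    have hbot : (X.subgroupOf K).map φ = ⊥ := by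
      haveI : Finite Y := Finite.of_surjective φ hφ
      have hd := ((X.subgroupOf K).map φ).card_subgroup_dvd_card
      rw [h3] at hd
      rcases (Nat.dvd_prime Nat.prime_three).mp hd with h1 | h1
      · exact card_eq_one.mp h1
      · exact absurd (eq_top_of_card_eq _ (h1.trans h3.symm)) (hprop X hT hX hne)
    have h1 : φ ⟨k, hk⟩ = 1 := mem_bot.mp (hbot ▸ mem_map_of_mem φ (show (⟨k, hk⟩ : K) ∈ X.subgroupOf K from hkX))
    have hkT : k ∈ T := by
      have : (⟨k, hk⟩ : K) ∈ φ.ker := MonoidHom.mem_ker.mpr h1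
      rw [hker] at this
      have h3 := hCP this
      rw [hP] at h3
      exact h3
    exact mul_mem hkT ht
  · -- the normaliser of `T ∩ K`
    haveI : Fintype (GaloisField 2 n) := Fintype.ofFinite _
    obtain ⟨ψ, hψ⟩ : ∃ ψ, ψ = e.toMonoidHom.comp φ := ⟨_, rfl⟩
    have hψs : Function.Surjective ψ := hψ ▸ e.surjective.comp hφ
    have hψk : ψ.ker = Cfsg.pCore 2 ↥K := by rw [hψ, ker_equiv, hker]
    obtain ⟨P', hP'⟩ : ∃ P', P' = Sylow.mapSurjective hψs P := ⟨_, rfl⟩
    have hPmap : (P' : Subgroup _) = (T.subgroupOf K).map ψ := by rw [hP', Sylow.coe_mapSurjective, hP]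
    have hback : ((T.subgroupOf K).map ψ).comap ψ = T.subgroupOf K :=
      comap_map_eq_self (by rw [hψk, ← hP]; exact hCP)
    -- the image of the normaliser of `T ∩ K`
    have himg : ∀ k : K, ψ k ∈ normalizer ((P' : Subgroup (Matrix.SpecialLinearGroup (Fin 2) (GaloisField 2 n))) : Set (Matrix.SpecialLinearGroup (Fin 2) (GaloisField 2 n))) →
        (k : G) ∈ normalizer ((T ⊓ K : Subgroup G) : Set G) := fun k hk => by
      refine mem_norm fun y hy => ⟨?_, K.mul_mem (K.mul_mem k.2 hy.2) (K.inv_mem k.2)⟩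
      have h1 : ψ (k * ⟨y, hy.2⟩ * k⁻¹) ∈ (P' : Subgroup _) := by
        rw [map_mul, map_mul, map_inv]
        refine (mem_normalizer_iff.mp hk _).mp ?_
        rw [hPmap]
        exact mem_map_of_mem ψ (show (⟨y, hy.2⟩ : K) ∈ T.subgroupOf K from hy.1)
      rw [hPmap, ← mem_comap, hback] at h1
      exact h1
    have hTn : T ≤ normalizer ((T ⊓ K : Subgroup G) : Set G) :=
      norm_inf le_normalizer (h.T_le.trans h.norm_K)
    refine ⟨H ⊓ normalizer ((T ⊓ K : Subgroup G) : Set G), inf_le_left, fun he => ?_, fun X hT hX hne x hx => ?_⟩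
    · have htop : normalizer ((P' : Subgroup (Matrix.SpecialLinearGroup (Fin 2) (GaloisField 2 n))) : Set (Matrix.SpecialLinearGroup (Fin 2) (GaloisField 2 n))) = ⊤ := by
        refine eq_top_iff.mpr fun y _ => ?_
        obtain ⟨k, rfl⟩ := hψs y
        refine mem_norm fun z hz => ?_
        rw [hPmap] at hz ⊢
        obtain ⟨t, ht, rfl⟩ := hz
        have hk : (k : G) ∈ normalizer ((T ⊓ K : Subgroup G) : Set G) := inf_eq_left.mp he (h.K_le k.2)
        refine ⟨k * t * k⁻¹, ?_, by simp⟩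
        exact ((mem_normalizer_iff.mp hk t).mp ⟨ht, t.2⟩).1
      have hne : (P' : Subgroup (Matrix.SpecialLinearGroup (Fin 2) (GaloisField 2 n))) ≠ ⊤ := fun e => by
        have hcard := Cfsg.Agent.Invol.Nat2.exists_conj_upG (F := GaloisField 2 n) 2 P'
        obtain ⟨g, hg⟩ := hcard
        have hw : g * SL2Nat.wel * g⁻¹ ∈ (P' : Subgroup (Matrix.SpecialLinearGroup (Fin 2) (GaloisField 2 n))) :=
          e.ge (mem_top _)
        rw [hg] at hw
        obtain ⟨u, hu, hu'⟩ := hw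
        obtain ⟨t, rfl⟩ := mem_upG.mp hu
        have : (Grp.SL2.up t : Matrix.SpecialLinearGroup (Fin 2) (GaloisField 2 n)) = SL2Nat.wel := by
          have h2 : g * Grp.SL2.up t * g⁻¹ = g * SL2Nat.wel * g⁻¹ := hu'
          exact mul_left_cancel (mul_right_cancel h2)
        exact PushUp.wel_not_bor (this ▸ PushUp.up_bor t)
      exact (le_norm_sylow P' le_rfl hne).2 htop
    · refine ⟨hX hx, ?_⟩
      have hx2 := h.sup (hX hx)
      rw [← SetLike.mem_coe, coe_mul_of_right_le_normalizer_left K T (h.T_le.trans h.norm_K)] at hx2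
      obtain ⟨k, hk, t, ht, rfl⟩ := hx2
      have hkX : k ∈ X := by
        have := X.mul_mem hx (X.inv_mem (hT ht))
        rwa [mul_inv_cancel_right] at this
      have hne2 : (X.subgroupOf K).map ψ ≠ ⊤ := fun e2 => hprop X hT hX hne (by
        rw [hψ, ← Subgroup.map_map] at e2
        exact (Subgroup.map_injective e.injective) (e2.trans (Subgroup.map_top_of_surjective _ e.surjective).symm))
      have hle := (le_norm_sylow P' (X := (X.subgroupOf K).map ψ)
        (by rw [hPmap]; exact map_mono fun y hy => hT hy) hne2).1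
      exact mul_mem (himg ⟨k, hk⟩ (hle (mem_map_of_mem ψ (show (⟨k, hk⟩ : K) ∈ X.subgroupOf K from hkX))))
        (hTn ht)

end Hyp

end Cfsg.Agent.Invol.PushNorm
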