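import Cfsg.Agent.Lib.Invol.PushNorm.SwapCase
import Cfsg.Agent.Lib.Invol.NatPair.CentZ
import Cfsg.Agent.Lib.Invol.NatPair.RankFour

/-!
# The natural block: sectional rank at most four
-/

set_option autoImplicit false
set_option linter.style.haveILetI false
set_option linter.unusedSectionVars false

namespace Cfsg.Agent.Invol.PushNorm

open Subgroup Matrix
open Cfsg.Agent.Grp.SL2 (up)
open Cfsg.Agent.Invol.NatPair (Mod Pair)

universe u

variable {G : Type u} [Group G] [Finite G] {F : Type} [Field F] [Finite F] [CharP F 2]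

/-- A natural module carried along by a conjugation. -/
def conjMod {L V J J' : Subgroup G} (m : Mod L V J F) (g : G) (hJ : cjS g J = J') :
    Mod (cjS g L) (cjS g V) J' F where
  le := cjS_mono m.le
  norm := (normalizer_cjS g V).symm ▸ cjS_mono m.norm
  ρ :=
    { toFun := fun l => m.ρ ⟨g⁻¹ * (l : G) * g, mem_cjS.mp l.2⟩
      map_one' := by
        rw [← map_one m.ρ]
        exact congrArg m.ρ (Subtype.ext (show g⁻¹ * (1 : G) * g = 1 by group))
      map_mul' := fun a b => by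
        rw [← map_mul]
        exact congrArg m.ρ (Subtype.ext (show g⁻¹ * ((a : G) * b) * g = g⁻¹ * a * g * (g⁻¹ * b * g) by group)) }
  surj A := by
    obtain ⟨l, hl⟩ := m.surj A
    refine ⟨⟨g * (l : G) * g⁻¹, conj_mem_cjS l.2⟩, ?_⟩
    refine Eq.trans (congrArg m.ρ (Subtype.ext ?_)) hl
    show g⁻¹ * (g * (l : G) * g⁻¹) * g = l
    group
  ker l := (m.ker _).trans mem_cjS.symm
  ψ :=
    { toFun := fun v => m.ψ (Additive.ofMul ⟨g⁻¹ * ((Additive.toMul v : ↥(cjS g V)) : G) * g,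
        mem_cjS.mp (Additive.toMul v).2⟩)
      invFun := fun x => Additive.ofMul ⟨g * ((Additive.toMul (m.ψ.symm x) : ↥V) : G) * g⁻¹,
        conj_mem_cjS (Additive.toMul (m.ψ.symm x)).2⟩
      left_inv := fun v => by
        simp only [AddEquiv.symm_apply_apply, toMul_ofMul]
        exact Additive.toMul.injective (Subtype.ext (show g * (g⁻¹ * _ * g) * g⁻¹ = _ by group))
      right_inv := fun x => by
        refine (congrArg m.ψ ?_).trans (m.ψ.apply_symm_apply x)
        exact Additive.toMul.injective (Subtype.ext (show g⁻¹ * (g * _ * g⁻¹) * g = _ by group))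
      map_add' := fun v w => by
        rw [← map_add]
        exact congrArg m.ψ (Additive.toMul.injective (Subtype.ext
          (show g⁻¹ * (((Additive.toMul v : ↥(cjS g V)) : G) * (Additive.toMul w : ↥(cjS g V))) * g =
            g⁻¹ * (Additive.toMul v : ↥(cjS g V)) * g * (g⁻¹ * (Additive.toMul w : ↥(cjS g V)) * g) by group))) }
  act l v h := by
    have h' : g⁻¹ * (l : G) * g * (g⁻¹ * (v : G) * g) * (g⁻¹ * (l : G) * g)⁻¹ ∈ V := by
      have := mem_cjS.mp h
      convert this using 1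
      group
    refine Eq.trans ?_ (m.act ⟨g⁻¹ * (l : G) * g, mem_cjS.mp l.2⟩ ⟨_, mem_cjS.mp v.2⟩ h')
    refine congrArg (fun u : ↥V => m.ψ (Additive.ofMul u)) (Subtype.ext ?_)
    show g⁻¹ * ((l : G) * v * (l : G)⁻¹) * g = g⁻¹ * (l : G) * g * (g⁻¹ * (v : G) * g) * (g⁻¹ * (l : G) * g)⁻¹
    group
  Jle := hJ ▸ cjS_mono m.Jle
  mem_J l := by
    rw [← hJ, mem_cjS]
    exact m.mem_J ⟨_, mem_cjS.mp l.2⟩

namespace Fr

variable {H K M Q T W : Subgroup G} (R : Fr H K M Q T W F)
include R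

/-- The module of the first block when there are no fixed points. -/
noncomputable def mod (hZ : R.Z = ⊥) : Mod K W R.J F where
  le := R.W_le_K
  norm := R.mdl.norm
  ρ := R.P.ρ
  surj := R.P.surjρ
  ker := R.P.kerρ
  ψ := AddEquiv.ofBijective
    ({ toFun := fun v => R.co ((Additive.toMul v : ↥W) : G)
       map_zero' := R.co_one
       map_add' := fun a b => R.co_mul (Additive.toMul a).2 (Additive.toMul b).2 } : Additive ↥W →+ (Fin 2 → F))
    ⟨fun a b e => Additive.toMul.injective (Subtype.ext (by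
      have h := (R.co_eq_iff (Additive.toMul a).2 (Additive.toMul b).2).mp e
      rw [hZ, mem_bot] at h
      rw [eq_inv_of_mul_eq_one_left h, R.mdl.inv_eq (Additive.toMul b).2])),
    fun x => ⟨Additive.ofMul ⟨R.lift x, R.lift_mem x⟩, R.co_lift x⟩⟩
  act l v _ := R.co_conj l v.2
  Jle := R.J_le_K
  mem_J l := ⟨fun h => (R.hT l).mp h.1, fun h => ⟨(R.hT l).mpr h, l.2⟩⟩

/-- The pair of parabolics when there are no fixed points. -/
theorem exists_pair (hZ : R.Z = ⊥) : Nonempty (Pair K (cjS R.g K) W R.W' R.J T F) := by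
  haveI : Fact (Nat.Prime 2) := ⟨Nat.prime_two⟩
  haveI : Fintype F := Fintype.ofFinite F
  obtain ⟨e, -, hF⟩ := FiniteField.card F 2
  have hF' : Nat.card F = 2 ^ (e : ℕ) := Nat.card_eq_fintype_card.trans hF
  refine ⟨{ m1 := R.mod hZ, m2 := conjMod (R.mod hZ) R.g R.cjJ, Jeq := R.J_eq, e := e, he := ?_, hF := hF'
            nL1 := R.N_W.le.trans R.hyp.M_norm, nL2 := ?_, TV1 := R.T_le_M.trans R.M_W, TV2 := R.T_norm_W'
            core := fun D hD _ _ hT hK hK' => ?_, char2 := R.hyp.char2 }⟩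
  · by_contra hlt
    have h1 := Nat.pow_le_pow_right (n := 2) (by norm_num) (show (e : ℕ) ≤ 1 by omega)
    have := R.q4
    omega
  · show normalizer (cjS R.g W : Set G) ≤ normalizer (cjS R.g K : Set G)
    rw [normalizer_cjS, normalizer_cjS]
    exact cjS_mono (R.N_W.le.trans R.hyp.M_norm)
  · refine R.hyp.no_common R.gT R.gM hD (R.hyp.sup.trans (sup_le hK hT)) ((cjS_mono R.hyp.sup).trans ?_)
    rw [cjS_sup, R.cjT]
    exact sup_le hK' hT

/-- The natural block forces sectional rank at most four. -/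
theorem natural_rank : Cfsg.SectionalPRankLE 2 4 G := by
  by_cases hsmall : R.Z = ⊥ ∧ Nat.card F = 4
  · obtain ⟨P⟩ := R.exists_pair hsmall.1
    exact P.sectional_le_four hsmall.2
  exfalso
  have h8F : R.Z = ⊥ → 8 ≤ Nat.card F := fun hZ => by
    haveI : Fintype F := Fintype.ofFinite F
    obtain ⟨e, -, hF⟩ := FiniteField.card F 2
    have hF' : Nat.card F = 2 ^ (e : ℕ) := Nat.card_eq_fintype_card.trans hF
    have hq := R.q4
    have hne : Nat.card F ≠ 4 := fun e => hsmall ⟨hZ, e⟩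
    by_contra hlt
    have h2 : (e : ℕ) ≤ 2 := by
      by_contra hc
      have := Nat.pow_le_pow_right (n := 2) (by norm_num) (show 3 ≤ (e : ℕ) by omega)
      omega
    have := e.pos
    interval_cases h : (e : ℕ) <;> omega
  have hbig : R.Z ≠ ⊥ ∨ 8 ≤ Nat.card F := (em (R.Z = ⊥)).elim (fun h => Or.inr (h8F h)) Or.inl
  have h8 : 8 ≤ Nat.card R.Y := by
    rw [R.card_Y]
    rcases R.card_Z with h | h
    · rw [h, card_bot, one_mul]; exact h8F h
    · rw [h]
      have := Nat.mul_le_mul R.q4 R.q4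
      omega
  have hCL : R.Z = ⊥ → ∀ y ∈ R.Y, y ≠ 1 → centralizer ({y} : Set G) ≤ normalizer (R.J : Set G) :=
    fun hZ y hy hy1 c hc => by
      obtain ⟨P⟩ := R.exists_pair hZ
      exact P.centralizer_Z_le (h8F hZ) hy hy1 (mem_cent.mp hc)
  by_cases hBJ : ∀ n ∈ R.Bor, IsPGroup 2 (zpowers n) → n ∈ R.J
  · refine R.false_swap hBJ hbig h8 fun t htJ htM ht2 i hi hi1 hti => ?_
    by_cases hZ : R.Z = ⊥
    · exact hCL hZ i hi hi1
    · exact R.CI_S hBJ htJ htM ht2 hZ hi hi1 hti
  · push Not at hBJ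
    obtain ⟨n, hn, hn2, hnJ⟩ := hBJ
    obtain ⟨f, P, hf2, hfJ, hfP, hTP, hPB, hP⟩ := R.exists_outer hn hnJ hn2
    by_cases hZ : R.Z = ⊥
    · exact R.false_fL (hPB hfP) hf2 hfJ hZ (h8F hZ) (hCL hZ)
    · exact R.false_fS (hPB hfP) hf2 hfJ hZ hP hTP hPB hfP

end Fr

end Cfsg.Agent.Invol.PushNorm
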