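import Cfsg.Agent.Lib.Invol.PushNorm.Conj
import Cfsg.Agent.Lib.Transfer.QRC.CharTwoLocal
import Cfsg.Agent.Lib.Fus.PushBlocks.Transfer
import Cfsg.Agent.Lib.Grp.Coprime
import Cfsg.Prelude.Def_Quasithin
import Cfsg.Prelude.Def_CaseTheorems

/-!
# A rank one subgroup over a unique maximal 2-local subgroup
-/

set_option autoImplicit false
set_option linter.style.haveILetI false
set_option linter.unusedSectionVars false

namespace Cfsg.Agent.Invol.PushNorm

open Subgroup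
open Cfsg.Agent.Transfer.QRC (core2 core2_le core2_norm le_core2 core2_isPGroup norm_of_conj)
open scoped commutatorElement

universe u

variable {G : Type u} [Group G] [Finite G]

/-- The hypotheses. -/
structure Hyp (H K M Q T : Subgroup G) : Prop where
  char2 : Cfsg.IsCharacteristicTwoType G
  hK : K = Cfsg.oddGenerated H
  hM : M = normalizer (K : Set G)
  hQ : Q = core2 H
  T_le : T ≤ H
  T_p : IsPGroup 2 T
  T_max : ∀ P : Subgroup G, IsPGroup 2 P → P ≤ H → T ≤ P → P = T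
  sup : H ≤ K ⊔ T
  hsyl : ∀ S : Subgroup G, IsPGroup 2 S → Q ≤ S → S ≤ M →
    (∀ s ∈ S, ∀ k ∈ K, s * k * s⁻¹ * k⁻¹ ∈ core2 K) → S = Q
  uniq : Cfsg.maxTwoLocalsContaining H = {M}
  T_ne : ¬ H ≤ normalizer (T : Set G)

theorem oddGen_le (H : Subgroup G) : Cfsg.oddGenerated H ≤ H := (closure_le _).mpr fun _ hx => hx.1

theorem oddGen_norm (H : Subgroup G) : H ≤ normalizer (Cfsg.oddGenerated H : Set G) := by
  intro h hh
  refine mem_norm fun x hx => ?_
  have hle : Cfsg.oddGenerated H ≤ (Cfsg.oddGenerated H).comap (MulAut.conj h).toMonoidHom :=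
    (closure_le _).mpr fun a ha => subset_closure ⟨mul_mem (mul_mem hh ha.1) (inv_mem hh), by
      show Odd (orderOf (MulAut.conj h a))
      rw [MulEquiv.orderOf_eq]; exact ha.2⟩
  exact hle hx

/-- A 2-local subgroup lies in a maximal one. -/
theorem exists_maxLocal {N : Subgroup G} (hN : Cfsg.IsTwoLocal N) :
    ∃ M, Cfsg.IsMaximalTwoLocal M ∧ N ≤ M := by
  obtain ⟨M, hle, hM⟩ := Finite.exists_le_maximal (p := fun X : Subgroup G => Cfsg.IsTwoLocal X) hN
  exact ⟨M, ⟨hM.prop, fun X hX hMX => le_antisymm (hM.le_of_ge hX hMX) hMX⟩, hle⟩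

namespace Hyp

variable {H K M Q T : Subgroup G} (h : Hyp H K M Q T)
include h

theorem K_le : K ≤ H := h.hK ▸ oddGen_le H

theorem norm_K : H ≤ normalizer (K : Set G) := h.hK ▸ oddGen_norm H

theorem H_le_M : H ≤ M := h.hM ▸ h.norm_K

theorem M_norm : M ≤ normalizer (K : Set G) := h.hM.le

theorem mem_max : Cfsg.IsMaximalTwoLocal M ∧ H ≤ M := by
  have : M ∈ Cfsg.maxTwoLocalsContaining H := by rw [h.uniq]; rfl
  exact this

/-- Normalisers of 2-subgroups normalised by `H` lie in `M`. -/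
theorem le_M {D : Subgroup G} (hD : IsPGroup 2 D) (hne : D ≠ ⊥) (hH : H ≤ normalizer (D : Set G)) :
    normalizer (D : Set G) ≤ M := by
  obtain ⟨N, hN, hle⟩ := exists_maxLocal ⟨D, hD, hne, rfl⟩
  have hmem : N ∈ Cfsg.maxTwoLocalsContaining H := ⟨hN, hH.trans hle⟩
  rw [h.uniq] at hmem
  exact hle.trans (Set.mem_singleton_iff.mp hmem).le

theorem self_norm : normalizer (M : Set G) ≤ M := by
  obtain ⟨⟨⟨D, hD, hne, hMD⟩, hmax⟩, hHM⟩ := h.mem_max
  have hpM : IsPGroup 2 (core2 M) := core2_isPGroup M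
  have hne' : core2 M ≠ ⊥ := fun e => hne (le_bot_iff.mp (e ▸ le_core2 (hMD ▸ le_normalizer) hD
    fun g hg n hn => conj_mem hMD.le hg hn))
  have hN : normalizer (core2 M : Set G) ≤ M := h.le_M hpM hne' (hHM.trans (norm_of_conj (core2_norm M)))
  refine fun g hg => hN (mem_norm fun x hx => ?_)
  refine le_core2 (N := cjS g (core2 M)) ?_ (isPGroup_cjS hpM) ?_ (conj_mem_cjS hx)
  · intro y hy
    obtain ⟨c, hc, rfl⟩ := hy
    exact (mem_normalizer_iff.mp hg c).mp (core2_le M hc)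
  · intro m hm y hy
    rw [mem_cjS] at hy ⊢
    have hm' : g⁻¹ * m * g ∈ M := by
      have := (mem_normalizer_iff.mp (inv_mem hg) m).mp hm
      rwa [inv_inv] at this
    have := core2_norm M _ hm' _ hy
    convert this using 1
    group

theorem Q_le_H : Q ≤ H := h.hQ ▸ core2_le H

theorem Q_p : IsPGroup 2 Q := h.hQ ▸ core2_isPGroup H

theorem Q_norm : H ≤ normalizer (Q : Set G) := h.hQ ▸ norm_of_conj (core2_norm H)

theorem Q_le_T : Q ≤ T := by
  have hp : IsPGroup 2 ↥(T ⊔ Q) := IsPGroup.to_sup_of_normal_right' h.T_p h.Q_p (h.T_le.trans h.Q_norm)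
  exact le_sup_right.trans (h.T_max _ hp (sup_le h.T_le h.Q_le_H) le_sup_left).le

theorem K_core_le : core2 K ≤ Q := h.hQ ▸ le_core2 ((core2_le K).trans h.K_le) (core2_isPGroup K)
  fun g hg n hn => by
    refine le_core2 (N := cjS g (core2 K)) ?_ (isPGroup_cjS (core2_isPGroup K)) ?_ (conj_mem_cjS hn)
    · intro y hy
      obtain ⟨c, hc, rfl⟩ := hy
      exact conj_mem h.norm_K hg (core2_le K hc)
    · intro k hk y hy
      rw [mem_cjS] at hy ⊢
      have hk' : g⁻¹ * k * g ∈ K := by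
        have := conj_mem h.norm_K (inv_mem hg) hk
        rwa [inv_inv] at this
      have := core2_norm K _ hk' _ hy
      convert this using 1
      group

/-- `Q` centralises `K` modulo its core. -/
theorem Q_move {q k : G} (hq : q ∈ Q) (hk : k ∈ K) : q * k * q⁻¹ * k⁻¹ ∈ core2 K := by
  have h1 : q * k * q⁻¹ * k⁻¹ ∈ Q ⊓ K := by
    refine ⟨?_, K.mul_mem (conj_mem h.norm_K (h.Q_le_H hq) hk) (K.inv_mem hk)⟩
    rw [show q * k * q⁻¹ * k⁻¹ = q * (k * q⁻¹ * k⁻¹) by group]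
    exact mul_mem hq (conj_mem h.Q_norm (h.K_le hk) (inv_mem hq))
  exact le_core2 inf_le_right (h.Q_p.to_le inf_le_left)
    (fun g hg n hn => ⟨conj_mem h.Q_norm (h.K_le hg) hn.1, K.mul_mem (K.mul_mem hg hn.2) (K.inv_mem hg)⟩) h1

/-- A 2-subgroup of `M` over `Q` centralising `K` modulo its core is `Q`. -/
theorem mem_Q {S : Subgroup G} (hS : IsPGroup 2 S) (hle : S ≤ M) (hn : S ≤ normalizer (Q : Set G))
    (hc : ∀ s ∈ S, ∀ k ∈ K, s * k * s⁻¹ * k⁻¹ ∈ core2 K) : S ≤ Q := by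
  have hp : IsPGroup 2 ↥(S ⊔ Q) := IsPGroup.to_sup_of_normal_right' hS h.Q_p hn
  refine le_sup_left.trans (h.hsyl _ hp le_sup_right (sup_le hle (h.Q_le_H.trans h.H_le_M)) ?_).le
  intro s hs k hk
  let X : Subgroup G :=
    { carrier := {s | s ∈ M ∧ ∀ k ∈ K, s * k * s⁻¹ * k⁻¹ ∈ core2 K}
      one_mem' := ⟨one_mem _, fun k hk => by simp⟩
      mul_mem' := fun {a b} ha hb => ⟨mul_mem ha.1 hb.1, fun k hk => by
        rw [show a * b * k * (a * b)⁻¹ * k⁻¹ =
          a * (b * k * b⁻¹) * a⁻¹ * (b * k * b⁻¹)⁻¹ * (b * k * b⁻¹ * k⁻¹) by group]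
        exact mul_mem (ha.2 _ (conj_mem h.M_norm hb.1 hk)) (hb.2 k hk)⟩
      inv_mem' := fun {a} ha => ⟨inv_mem ha.1, fun k hk => by
        have hk' : a⁻¹ * k * a ∈ K := by
          have := conj_mem h.M_norm (inv_mem ha.1) hk
          rwa [inv_inv] at this
        have h2 := inv_mem (ha.2 _ hk')
        convert h2 using 1
        group⟩ }
  have hXle : S ⊔ Q ≤ X := sup_le (fun s hs => ⟨hle hs, hc s hs⟩)
    fun q hq => ⟨(h.H_le_M) (h.Q_le_H hq), fun k hk => h.Q_move hq hk⟩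
  exact (hXle hs).2 k hk

/-- The core of `M` lies in `Q`. -/
theorem core_M_le : core2 M ≤ Q := by
  have hn : M ≤ normalizer (core2 M : Set G) := norm_of_conj (core2_norm M)
  have hp : IsPGroup 2 ↥(Q ⊔ core2 M) :=
    IsPGroup.to_sup_of_normal_right' h.Q_p (core2_isPGroup M) ((h.Q_le_H.trans h.H_le_M).trans hn)
  refine le_sup_right.trans (h.hsyl _ hp le_sup_left
    (sup_le (h.Q_le_H.trans h.H_le_M) (core2_le M)) ?_).le
  intro s hs k hk
  rw [← SetLike.mem_coe, coe_mul_of_left_le_normalizer_right Q (core2 M) ((h.Q_le_H.trans h.H_le_M).trans hn)] at hs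
  obtain ⟨q, hq, c, hc, rfl⟩ := hs
  have hc' : ∀ k ∈ K, c * k * c⁻¹ * k⁻¹ ∈ core2 K := fun k hk => by
    refine le_core2 (N := core2 M ⊓ K) inf_le_right ((core2_isPGroup M).to_le inf_le_left)
      (fun g hg n hn' => ⟨core2_norm M g (h.H_le_M (h.K_le hg)) n hn'.1,
        K.mul_mem (K.mul_mem hg hn'.2) (K.inv_mem hg)⟩)
      ⟨?_, K.mul_mem (conj_mem h.M_norm (core2_le M hc) hk) (K.inv_mem hk)⟩
    rw [show c * k * c⁻¹ * k⁻¹ = c * (k * c⁻¹ * k⁻¹) by group]
    exact mul_mem hc (core2_norm M k (h.H_le_M (h.K_le hk)) _ (inv_mem hc))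
  show q * c * k * (q * c)⁻¹ * k⁻¹ ∈ core2 K
  rw [show q * c * k * (q * c)⁻¹ * k⁻¹ =
    q * (c * k * c⁻¹) * q⁻¹ * (c * k * c⁻¹)⁻¹ * (c * k * c⁻¹ * k⁻¹) by group]
  exact mul_mem (h.Q_move hq (conj_mem h.M_norm (core2_le M hc) hk)) (hc' k hk)

/-- `M` has characteristic two. -/
theorem cent_core_M : M ⊓ centralizer (core2 M : Set G) ≤ core2 M := by
  obtain ⟨D, hD, hne, hMD⟩ := h.mem_max.1.1
  intro x hx
  have hc := h.char2.2 D hD hne
  rw [← hMD] at hc
  refine ⟨⟨x, hx.1⟩, hc ?_, rfl⟩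
  exact mem_centralizer_iff.mpr fun y hy => Subtype.ext (mem_centralizer_iff.mp hx.2 _ ⟨y, hy, rfl⟩)

theorem cent_Q : M ⊓ centralizer (Q : Set G) ≤ Q :=
  (inf_le_inf_left M (centralizer_le h.core_M_le)).trans (h.cent_core_M.trans h.core_M_le)

theorem Q_ne : Q ≠ ⊥ := fun e => by
  obtain ⟨D, hD, hne, hMD⟩ := h.mem_max.1.1
  exact hne (le_bot_iff.mp (((le_core2 (hMD ▸ le_normalizer) hD
    fun g hg n hn => conj_mem hMD.le hg hn).trans h.core_M_le).trans e.le))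

variable {g : G} (hgT : g ∈ normalizer (T : Set G)) (hgM : g ∉ M)
include hgT hgM

/-- No nontrivial subgroup normalised by `H` is fixed by `g`. -/
theorem no_fix {D : Subgroup G} (hD : IsPGroup 2 D) (hH : H ≤ normalizer (D : Set G))
    (hg : cjS g D = D) : D = ⊥ :=
  by_contra fun hne => hgM (h.le_M hD hne hH (cjS_eq_iff.mp hg))

/-- No nontrivial 2-subgroup is normalised by `H` and its conjugate. -/
theorem no_common {D : Subgroup G} (hD : IsPGroup 2 D) (hH : H ≤ normalizer (D : Set G))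
    (hH' : cjS g H ≤ normalizer (D : Set G)) : D = ⊥ := by
  by_contra hne
  refine hgM (h.self_norm ?_)
  obtain ⟨⟨hloc, hmax⟩, -⟩ := h.mem_max
  have hM' : cjS g H ≤ M := hH'.trans (h.le_M hD hne hH)
  have h2 : H ≤ cjS g⁻¹ M := by
    have := cjS_mono (g := g⁻¹) hM'
    rwa [cjS_cancel] at this
  have hloc' : Cfsg.IsMaximalTwoLocal (cjS g⁻¹ M) := by
    obtain ⟨E, hE, hEne, hME⟩ := hloc
    refine ⟨⟨cjS g⁻¹ E, isPGroup_cjS hE, cjS_ne_bot hEne, by rw [normalizer_cjS, ← hME]⟩, fun N hN hle => ?_⟩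
    obtain ⟨E', hE', hne', hNE⟩ := hN
    have hN' : Cfsg.IsTwoLocal (cjS g N) :=
      ⟨cjS g E', isPGroup_cjS hE', cjS_ne_bot hne', by rw [normalizer_cjS, ← hNE]⟩
    have hle' : M ≤ cjS g N := by
      have := cjS_mono (g := g) hle
      rwa [cjS_cancel'] at this
    rw [← hmax _ hN' hle', cjS_cancel]
  have hmem : cjS g⁻¹ M ∈ Cfsg.maxTwoLocalsContaining H := ⟨hloc', h2⟩
  rw [h.uniq] at hmem
  have e := congrArg (cjS g) (Set.mem_singleton_iff.mp hmem)
  rw [cjS_cancel'] at e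
  exact cjS_eq_iff.mp e.symm

end Hyp

end Cfsg.Agent.Invol.PushNorm
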