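import Cfsg.Agent.Lib.Invol.PushNorm.Single

/-!
# The three shapes of the block
-/

set_option autoImplicit false
set_option linter.style.haveILetI false
set_option linter.unusedSectionVars false

namespace Cfsg.Agent.Invol.PushNorm

open Subgroup
open Cfsg.Agent.Transfer.QRC (core2 core2_le core2_norm le_core2 core2_isPGroup norm_of_conj pCore_normal_two)
open scoped commutatorElement Matrix

universe u

variable {G : Type u} [Group G] [Finite G]

/-- A natural module over `F` for `K` modulo its core, up to fixed points. -/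
structure NatMod (K W : Subgroup G) (F : Type) [Field F] where
  ρ : ↥K →* Matrix.SpecialLinearGroup (Fin 2) F
  surjρ : Function.Surjective ρ
  kerρ : ∀ k : ↥K, ρ k = 1 ↔ (k : G) ∈ W
  ψ : ↥W →* Multiplicative (Fin 2 → F)
  surjψ : Function.Surjective ψ
  kerψ : ∀ u : ↥W, ψ u = 1 ↔ (u : G) ∈ centralizer (K : Set G)
  act : ∀ (k : ↥K) (u : ↥W) (hm : (k : G) * u * (k : G)⁻¹ ∈ W),
    Multiplicative.toAdd (ψ ⟨_, hm⟩) =
      (ρ k : Matrix (Fin 2) (Fin 2) F).mulVec (Multiplicative.toAdd (ψ u))

/-- The even weight module on five points for `K` modulo its core, up to fixed points. -/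
structure PermMod (K W : Subgroup G) where
  ρ : ↥K →* Equiv.Perm (Fin 5)
  rangeρ : ρ.range = alternatingGroup (Fin 5)
  kerρ : ∀ k : ↥K, ρ k = 1 ↔ (k : G) ∈ W
  ψ : ↥W →* Multiplicative (Fin 5 → ZMod 2)
  even : ∀ u : ↥W, ∑ i, Multiplicative.toAdd (ψ u) i = 0
  surjψ : ∀ v : Fin 5 → ZMod 2, ∑ i, v i = 0 → ∃ u : ↥W, Multiplicative.toAdd (ψ u) = v
  kerψ : ∀ u : ↥W, ψ u = 1 ↔ (u : G) ∈ centralizer (K : Set G)
  act : ∀ (k : ↥K) (u : ↥W) (hm : (k : G) * u * (k : G)⁻¹ ∈ W) (i : Fin 5),
    Multiplicative.toAdd (ψ ⟨_, hm⟩) i = Multiplicative.toAdd (ψ u) ((ρ k)⁻¹ i)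

/-- The core of `K` is an elementary abelian module with `[W, K] = W`. -/
structure Core (K W : Subgroup G) : Prop where
  eq : W = core2 K
  comm : ∀ a ∈ W, ∀ b ∈ W, a * b = b * a
  exp : ∀ a ∈ W, a * a = 1
  stable : ⁅W, K⁆ = W

theorem upinj {F : Type*} [Field F] {s t : F}
    (h : (Grp.SL2.up s : Matrix.SpecialLinearGroup (Fin 2) F) = Grp.SL2.up t) : s = t := by
  simpa [Grp.SL2.up] using congrArg (fun g : Matrix.SpecialLinearGroup (Fin 2) F =>
    (g : Matrix (Fin 2) (Fin 2) F) 0 1) h

theorem card_even_three : Nat.card {v : Fin (2 * 1 + 1) → ZMod 2 // ∑ i, v i = 0} = 4 := by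
  rw [Nat.card_eq_fintype_card]
  decide

theorem no_four_alt {m : ℕ} (hm : 3 ≤ m) :
    ∃ c : alternatingGroup (Fin (2 * m + 1)), c ^ 4 = 1 ∧ c ^ 2 ≠ 1 := by
  obtain ⟨ι, hι⟩ : ∃ ι : Fin 6 ↪ Fin (2 * m + 1), True := ⟨Fin.castLEEmb (by omega), trivial⟩
  obtain ⟨c6, hc6⟩ : ∃ c : Equiv.Perm (Fin 6), c = Equiv.swap 0 1 * Equiv.swap 1 2 * Equiv.swap 2 3 * Equiv.swap 4 5 :=
    ⟨_, rfl⟩
  have h4 : c6 ^ 4 = 1 := by subst hc6; decide
  have h2 : c6 ^ 2 ≠ 1 := by subst hc6; decide
  have hs : Equiv.Perm.sign c6 = 1 := by subst hc6; decide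
  refine ⟨⟨Equiv.Perm.viaEmbeddingHom ι c6, ?_⟩, ?_, ?_⟩
  · rw [Equiv.Perm.mem_alternatingGroup, Equiv.Perm.viaEmbeddingHom_apply]
    unfold Equiv.Perm.viaEmbedding
    rw [Equiv.Perm.sign_extendDomain, hs]
  · refine Subtype.ext ?_
    rw [SubgroupClass.coe_pow]
    show (Equiv.Perm.viaEmbeddingHom ι c6) ^ 4 = 1
    rw [← map_pow, h4, map_one]
  · intro e
    have := congrArg Subtype.val e
    rw [SubgroupClass.coe_pow] at this
    change (Equiv.Perm.viaEmbeddingHom ι c6) ^ 2 = 1 at this
    rw [← map_pow] at this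
    exact h2 (Equiv.Perm.viaEmbeddingHom_injective ι (this.trans (map_one _).symm))

theorem sl_no_four {F : Type} [Field F] [CharP F 2] (c : Matrix.SpecialLinearGroup (Fin 2) F) (h : c ^ 4 = 1) :
    c ^ 2 = 1 := by
  obtain ⟨X, hX⟩ : ∃ X : Matrix (Fin 2) (Fin 2) F, X = ↑c := ⟨_, rfl⟩
  have hd : X 0 0 * X 1 1 - X 0 1 * X 1 0 = 1 := by
    subst hX; rw [← Matrix.det_fin_two]; exact Matrix.SpecialLinearGroup.det_coe c
  obtain ⟨s, hs⟩ : ∃ s, s = X 0 0 + X 1 1 := ⟨_, rfl⟩
  have hsq : ∀ Y : Matrix (Fin 2) (Fin 2) F, Y 0 0 * Y 1 1 - Y 0 1 * Y 1 0 = 1 →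
      Y * Y = (Y 0 0 + Y 1 1) • Y - 1 := fun Y hY => by
    ext i j
    fin_cases i <;> fin_cases j <;> simp [Matrix.mul_apply, Fin.sum_univ_two] <;>
      first | ring1 | linear_combination hY | linear_combination -hY
  have h4 : X * X * (X * X) = 1 := by
    have := congrArg (fun g : Matrix.SpecialLinearGroup (Fin 2) F => (g : Matrix (Fin 2) (Fin 2) F)) h
    simp only [Matrix.SpecialLinearGroup.coe_pow, Matrix.SpecialLinearGroup.coe_one] at this
    rw [← this, hX, pow_succ, pow_succ, pow_succ, pow_one]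
    simp only [mul_assoc]
  have e1 := hsq X hd
  rw [← hs] at e1
  have hXX : (X * X) 0 0 + (X * X) 1 1 = s * s := by
    rw [e1, hs]
    simp
    linear_combination -(CharTwo.two_eq_zero (R := F))
  have hd2 : (X * X) 0 0 * (X * X) 1 1 - (X * X) 0 1 * (X * X) 1 0 = 1 := by
    simp [Matrix.mul_apply, Fin.sum_univ_two]
    linear_combination (X 0 0 * X 1 1 - X 0 1 * X 1 0 + 1) * hd
  have e2 := hsq (X * X) hd2
  rw [hXX, h4] at e2
  have hss : (s * s) • (X * X) = 0 := by
    have : (s * s) • (X * X) = 1 + 1 := by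
      conv_rhs => enter [1]; rw [e2]
      abel
    rw [this]
    ext i j
    simp [CharTwo.add_self_eq_zero]
  refine Subtype.ext ?_
  rw [Matrix.SpecialLinearGroup.coe_pow, Matrix.SpecialLinearGroup.coe_one, ← hX, pow_two]
  rcases eq_or_ne s 0 with h0 | h0
  · rw [e1, h0, zero_smul, zero_sub]
    ext i j
    simp [CharTwo.neg_eq]
  · exfalso
    have hz : X * X = 0 := by
      rcases smul_eq_zero.mp hss with h1 | h1
      · exact absurd h1 (mul_ne_zero h0 h0)
      · exact h1
    rw [hz, zero_mul] at h4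
    exact zero_ne_one h4

namespace Hyp

variable {H K M Q T : Subgroup G} (h : Hyp H K M Q T)
variable {g : G} (hgT : g ∈ normalizer (T : Set G)) (hgM : g ∉ M)
include h hgT hgM

theorem shapes (hs : Star K) : Core K (core2 K) ∧
    ((((core2 K).relIndex K = 3 ∧
        Nat.card ↥(core2 K) = 4 * Nat.card ↥(core2 K ⊓ centralizer (K : Set G))) ∨
      Nonempty (PermMod K (core2 K))) ∨
      ∃ (F : Type) (_ : Field F) (_ : Fintype F) (n : ℕ), 2 ≤ n ∧ Fintype.card F = 2 ^ n ∧
        Nonempty (NatMod K (core2 K) F)) := by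
  classical
  haveI : Fact (Nat.Prime 2) := ⟨Nat.prime_two⟩
  haveI hcn : (Cfsg.pCore 2 ↥K).Normal := pCore_normal_two ↥K
  obtain ⟨-, -, hstab, -, hshape⟩ := h.block hgT hgM hs
  change ⁅core2 K, K⁆ = core2 K at hstab
  have hW : core2 K = Cfsg.omegaOneCenter 2 (core2 K) := by
    rcases hshape with ⟨F', _, _, n', -, -, -, (h1 | ⟨h32, -⟩)⟩ | ⟨-, m, -, -, h1⟩
    · exact h1
    · exact absurd h32 (by norm_num)
    · exact h1
  have hcore : Core K (core2 K) := by
    refine ⟨rfl, fun a ha b hb => ?_, fun a ha => ?_, hstab⟩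
    · rw [hW] at ha
      exact (mem_centralizer_iff.mp (Invol.BlockPair.omegaOneCenter_le _ ha).2 b hb).symm
    · have ha' : a ∈ Cfsg.omegaOneCenter 2 (core2 K) := hW ▸ ha
      refine closure_induction (p := fun x _ => x * x = 1 ∧ x ∈ core2 K ⊓ centralizer (core2 K : Set G))
        (fun x hx => ⟨by rw [← pow_two]; exact hx.2, hx.1⟩) ⟨by simp, one_mem _⟩
        (fun x y _ _ hx hy => ⟨?_, mul_mem hx.2 hy.2⟩)
        (fun x _ hx => ⟨by rw [← mul_inv_rev, hx.1, inv_one], inv_mem hx.2⟩) ha' |>.1
      have hc : y * x = x * y := (mem_centralizer_iff.mp hy.2.2 x hx.2.1).symm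
      rw [show x * y * (x * y) = x * (y * x) * y by group, hc, show x * (x * y) * y = x * x * (y * y) by group,
        hx.1, hy.1, one_mul]
  refine ⟨hcore, ?_⟩
  obtain ⟨Y, _, φ, hφ, hker, hY⟩ := h.star_ge_two hs
  haveI : Finite Y := Finite.of_surjective φ hφ
  have hWker : ∀ k : ↥K, φ k = 1 ↔ (k : G) ∈ core2 K := fun k => by
    rw [← MonoidHom.mem_ker, hker]
    exact ⟨fun hk => ⟨k, hk, rfl⟩, fun ⟨c, hc, hce⟩ => by rwa [← K.subtype_injective hce]⟩
  have hWK : K ≤ normalizer (core2 K : Set G) := norm_of_conj (core2_norm K)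
  have hrel : (core2 K).relIndex K = Nat.card Y := by
    have e : (core2 K).subgroupOf K = φ.ker := by ext k; rw [mem_subgroupOf, MonoidHom.mem_ker, hWker]
    rw [Subgroup.relIndex, e, Subgroup.index_ker, MonoidHom.range_eq_top.mpr hφ, card_top]
  have hindex : ∀ {V : Type} [Group V] [Finite V] (ψ : ↥(core2 K) →* V),
      (∀ u, ψ u = 1 ↔ (u : G) ∈ core2 K ⊓ centralizer (K : Set G)) →
      Nat.card ↥(core2 K) = Nat.card ψ.range * Nat.card ↥(core2 K ⊓ centralizer (K : Set G)) := fun {V} _ _ ψ hψ => by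
    have e : ψ.ker = (core2 K ⊓ centralizer (K : Set G)).subgroupOf (core2 K) := by
      ext u; rw [MonoidHom.mem_ker, hψ, mem_subgroupOf]
    rw [← Subgroup.index_ker ψ, e, ← (Nat.card_congr (subgroupOfEquivOfLe
      (inf_le_left : core2 K ⊓ centralizer (K : Set G) ≤ core2 K)).toEquiv), mul_comm]
    exact (Subgroup.card_mul_index _).symm
  rcases hshape with ⟨F, fF, fT, n, hcard, ⟨e⟩, hact, -⟩ | ⟨-, m, ⟨e⟩, hact, -⟩
  · -- linear
    change Cfsg.ActsAsSL2OnSection F _ K (Cfsg.omegaOneCenter 2 (core2 K))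
      (Cfsg.omegaOneCenter 2 (core2 K) ⊓ centralizer (K : Set G)) at hact
    rw [← hW] at hact
    obtain ⟨-, -, ρ, ψ, hρ, hψ, hkψ, hact⟩ := hact
    rcases hY with h3 | ⟨n0, hn0, ⟨e0⟩⟩
    · refine Or.inl (Or.inl ⟨hrel.trans h3, ?_⟩)
      have hFcard : Fintype.card F = 2 := by
        by_contra hne
        have h4 : 4 ≤ Fintype.card F := by
          have h1 : 1 < Fintype.card F := Fintype.one_lt_card
          rw [hcard] at h1 hne ⊢
          rcases n with _ | _ | n
          · simp at h1
          · simp at hne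
          · calc 4 = 2 ^ 2 := by norm_num
              _ ≤ 2 ^ (n + 1 + 1) := Nat.pow_le_pow_right (by norm_num) (by omega)
        have hperf : commutator (Matrix.SpecialLinearGroup (Fin 2) F) = ⊤ :=
          Classical.SL_commutator_eq_top fun _ => Classical.exists_sq_ne_one_field h4
        have hc := Nat.card_congr e.toEquiv
        rw [hperf, card_top, ← Nat.card_congr (QuotientGroup.quotientMulEquivOfEq hker).toEquiv,
          Nat.card_congr (QuotientGroup.quotientKerEquivOfSurjective φ hφ).toEquiv, h3] at hc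
        haveI := Nat2.charP_of_card (F := F) (p := 2) hcard
        have : Fintype.card F ≤ Nat.card (Matrix.SpecialLinearGroup (Fin 2) F) := by
          rw [← Nat.card_eq_fintype_card]
          exact Nat.card_le_card_of_injective _ (fun a b hab => upinj hab)
        omega
      rw [hindex ψ hkψ, MonoidHom.range_eq_top.mpr hψ, card_top, Nat.card_eq_fintype_card,
        Fintype.card_multiplicative, Fintype.card_fun, Fintype.card_fin, hFcard]
      norm_num
    · have hn2 : 2 ≤ n := by
        by_contra hn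
        have hF2 : Fintype.card F ≤ 2 := by
          rw [hcard]
          exact (Nat.pow_le_pow_right (by norm_num) (by omega : n ≤ 1)).trans (by norm_num)
        have h2 : Fintype.card F = 2 := le_antisymm hF2 Fintype.one_lt_card
        obtain ⟨⟨a3⟩, -⟩ := Fus.PushBlocks.sl_two_facts (F := F) h2
        have hc := Nat.card_congr (e.trans a3).toEquiv
        rw [← Nat.card_congr (QuotientGroup.quotientMulEquivOfEq hker).toEquiv,
          Nat.card_congr (QuotientGroup.quotientKerEquivOfSurjective φ hφ).toEquiv, Nat.card_congr e0.toEquiv] at hc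
        haveI : Fintype (GaloisField 2 n0) := Fintype.ofFinite _
        have hge : Nat.card (GaloisField 2 n0) ≤ Nat.card (Matrix.SpecialLinearGroup (Fin 2) (GaloisField 2 n0)) :=
          Nat.card_le_card_of_injective _ (fun a b hab => upinj hab)
        rw [GaloisField.card 2 n0 (by omega), hc, Nat.card_eq_fintype_card] at hge
        have h4 : 4 ≤ 2 ^ n0 := le_trans (by norm_num) (Nat.pow_le_pow_right (by norm_num : 0 < 2) hn0)
        have : Fintype.card (alternatingGroup (Fin 3)) = 3 := by decide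
        omega
      refine Or.inr ⟨F, fF, fT, n, hn2, hcard, ?_⟩
      · have hF4 : 4 ≤ Fintype.card F :=
          hcard ▸ le_trans (by norm_num) (Nat.pow_le_pow_right (by norm_num : 0 < 2) hn2)
        have hperf : commutator (Matrix.SpecialLinearGroup (Fin 2) F) = ⊤ :=
          Classical.SL_commutator_eq_top fun _ => Classical.exists_sq_ne_one_field hF4
        have hρs : Function.Surjective ρ := MonoidHom.range_eq_top.mp (hρ.trans hperf)
        have hle : (core2 K).subgroupOf K ≤ ρ.ker := fun k hk => by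
          rw [MonoidHom.mem_ker]
          refine Subtype.ext (Matrix.ext_of_mulVec_single fun i => ?_)
          obtain ⟨u, hu⟩ := hψ (Multiplicative.ofAdd (Pi.single i 1))
          obtain ⟨w, hw, hw2⟩ := hact k u
          have : w = u := Subtype.ext (by
          rw [hw, hcore.comm (k : G) hk (u : G) u.2, mul_inv_cancel_right])
          rw [this, hu] at hw2
          rw [Matrix.SpecialLinearGroup.coe_one, Matrix.one_mulVec]
          exact hw2.symm
        have heq : (core2 K).subgroupOf K = ρ.ker := by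
          refine eq_of_le_of_card_ge hle ?_
          have h1 := ((core2 K).subgroupOf K).card_mul_index
          have h2 := ρ.ker.card_mul_index
          have h3 : ((core2 K).subgroupOf K).index = ρ.ker.index := by
            rw [Subgroup.index_ker, MonoidHom.range_eq_top.mpr hρs, card_top]
            change (core2 K).relIndex K = _
            rw [hrel, ← Nat.card_congr (QuotientGroup.quotientKerEquivOfSurjective φ hφ).toEquiv,
              Nat.card_congr (QuotientGroup.quotientMulEquivOfEq hker).toEquiv, Nat.card_congr e.toEquiv, hperf, card_top]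
          rw [h3] at h1
          exact (Nat.eq_of_mul_eq_mul_right (Nat.pos_of_ne_zero index_ne_zero_of_finite) (h2.trans h1.symm)).le
        exact ⟨⟨ρ, hρs, fun k => by rw [← MonoidHom.mem_ker, ← heq, mem_subgroupOf], ψ, hψ,
          fun u => ⟨fun hu => ((hkψ u).mp hu).2, fun hu => (hkψ u).mpr ⟨u.2, hu⟩⟩, fun k u hm => by
            obtain ⟨w, hw, hw2⟩ := hact k u
            rw [← hw2]
            exact congrArg (fun x => Multiplicative.toAdd (ψ x)) (Subtype.ext hw.symm)⟩⟩
  · -- alternating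
    change Cfsg.ActsAsOddPermModuleOnSection (2 * m + 1) _ K (Cfsg.omegaOneCenter 2 (core2 K))
      (Cfsg.omegaOneCenter 2 (core2 K) ⊓ centralizer (K : Set G)) at hact
    rw [← hW] at hact
    obtain ⟨-, -, ρ, ψ, hρ, heven, hψ, hkψ, hact⟩ := hact
    have e' : Y ≃* alternatingGroup (Fin (2 * m + 1)) :=
      ((QuotientGroup.quotientKerEquivOfSurjective φ hφ).symm.trans (QuotientGroup.quotientMulEquivOfEq hker)).trans e
    have hcardAlt : 2 ≤ 2 * m + 1 → 2 * Nat.card (alternatingGroup (Fin (2 * m + 1))) = (2 * m + 1).factorial := by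
      intro h2
      haveI : Nontrivial (Fin (2 * m + 1)) := Fin.nontrivial_iff_two_le.mpr h2
      rw [Nat.card_eq_fintype_card, two_mul_card_alternatingGroup, Fintype.card_perm, Fintype.card_fin]
    have hm : m = 1 ∨ m = 2 := by
      by_contra hne
      rcases Nat.eq_zero_or_pos m with h0 | h0
      · subst h0
        haveI : Subsingleton (alternatingGroup (Fin (2 * 0 + 1))) :=
          ⟨fun a b => Subtype.ext (Equiv.ext fun i => Fin.ext (by omega))⟩
        haveI : Subsingleton Y := e'.toEquiv.subsingleton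
        rcases hY with h3 | ⟨n0, hn0, ⟨e0⟩⟩
        · rw [Nat.card_of_subsingleton (1 : Y)] at h3; omega
        · haveI : Subsingleton (Matrix.SpecialLinearGroup (Fin 2) (GaloisField 2 n0)) := e0.symm.toEquiv.subsingleton
          exact zero_ne_one (α := GaloisField 2 n0) (by
            simpa [Grp.SL2.up] using congrArg (fun g : Matrix.SpecialLinearGroup (Fin 2) (GaloisField 2 n0) =>
              (g : Matrix (Fin 2) (Fin 2) (GaloisField 2 n0)) 0 1)
              (Subsingleton.elim (1 : Matrix.SpecialLinearGroup (Fin 2) (GaloisField 2 n0)) (Grp.SL2.up 1)))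
      obtain ⟨c, hc4, hc2⟩ := no_four_alt (m := m) (by omega)
      rcases hY with h3 | ⟨n0, hn0, ⟨e0⟩⟩
      · have hd : orderOf (e'.symm c) ∣ Nat.gcd 4 3 :=
          Nat.dvd_gcd (orderOf_dvd_of_pow_eq_one (by rw [← map_pow, hc4, map_one])) (h3 ▸ orderOf_dvd_natCard _)
        rw [show Nat.gcd 4 3 = 1 by norm_num, Nat.dvd_one, orderOf_eq_one_iff] at hd
        exact hc2 (by rw [← e'.apply_symm_apply c, hd, map_one, one_pow])
      · refine hc2 ((e'.symm.trans e0).injective ?_)
        rw [map_pow, map_one]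
        exact sl_no_four _ (by rw [← map_pow, hc4, map_one])
    rcases hm with rfl | rfl
    · refine Or.inl (Or.inl ⟨?_, ?_⟩)
      · rw [hrel, Nat.card_congr e'.toEquiv]
        have := hcardAlt (by norm_num)
        norm_num [Nat.factorial] at this ⊢
        omega
      · rw [hindex ψ hkψ]
        congr 1
        let V3 := {v : Fin (2 * 1 + 1) → ZMod 2 // ∑ i, v i = 0}
        have hc : Nat.card ψ.range = Nat.card V3 := by
          refine Nat.card_congr (Equiv.ofBijective (fun x : ψ.range => (⟨Multiplicative.toAdd (x : Multiplicative _), ?_⟩ : V3)) ⟨?_, ?_⟩)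
          · obtain ⟨u, hu⟩ := x.2
            rw [← hu]
            exact heven u
          · intro a b hab
            have h2 := congrArg Subtype.val hab
            exact Subtype.ext (Multiplicative.toAdd.injective h2)
          · rintro ⟨v, hv⟩
            obtain ⟨u, hu⟩ := hψ v hv
            exact ⟨⟨ψ u, u, rfl⟩, Subtype.ext hu⟩
        rw [hc]
        exact card_even_three
    · refine Or.inl (Or.inr ?_)
      have hle : (core2 K).subgroupOf K ≤ ρ.ker := fun k hk => by
        rw [MonoidHom.mem_ker]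
        refine Equiv.ext fun i => ?_
        rw [Equiv.Perm.coe_one, id_eq]
        by_contra hne
        obtain ⟨j, hji, hjk⟩ : ∃ j : Fin 5, j ≠ i ∧ j ≠ ρ k i := by
          have key : ∀ i a : Fin 5, ∃ j, j ≠ i ∧ j ≠ a := by decide
          exact key i (ρ k i)
        obtain ⟨u, hu⟩ := hψ (Pi.single i 1 + Pi.single j 1) (by
          simp only [Pi.add_apply, Finset.sum_add_distrib, Finset.sum_pi_single', Finset.mem_univ, if_true]
          exact CharTwo.add_self_eq_zero 1)
        obtain ⟨w, hw, hw2⟩ := hact k u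
        have : w = u := Subtype.ext (by
          rw [hw, hcore.comm (k : G) hk (u : G) u.2, mul_inv_cancel_right])
        have h1 := hw2 (ρ k i)
        rw [this, hu] at h1
        simp [hne, Ne.symm hjk, Ne.symm hji] at h1
      have heq : (core2 K).subgroupOf K = ρ.ker := by
        refine eq_of_le_of_card_ge hle ?_
        have h1 := ((core2 K).subgroupOf K).card_mul_index
        have h2 := ρ.ker.card_mul_index
        have h3 : ((core2 K).subgroupOf K).index = ρ.ker.index := by
          rw [Subgroup.index_ker, hρ]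
          change (core2 K).relIndex K = _
          rw [hrel, Nat.card_congr e'.toEquiv]
        rw [h3] at h1
        exact (Nat.eq_of_mul_eq_mul_right (Nat.pos_of_ne_zero index_ne_zero_of_finite) (h2.trans h1.symm)).le
      exact ⟨⟨ρ, hρ, fun k => by rw [← MonoidHom.mem_ker, ← heq, mem_subgroupOf], ψ, heven, hψ,
        fun u => ⟨fun hu => ((hkψ u).mp hu).2, fun hu => (hkψ u).mpr ⟨u.2, hu⟩⟩, fun k u hm i => by
          obtain ⟨w, hw, hw2⟩ := hact k u
          rw [← hw2 i]
          exact congrArg (fun x => Multiplicative.toAdd (ψ x) i) (Subtype.ext hw.symm)⟩⟩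

end Hyp

end Cfsg.Agent.Invol.PushNorm
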