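import Cfsg.Agent.Lib.Invol.PushNorm.Minimal
import Cfsg.Agent.Lib.Transfer.QRC.CommonNormal
import Cfsg.Agent.Lib.Fus.LocalCStar.GTrans
import Cfsg.Agent.S2982
import Cfsg.Agent.Lib.Invol.PushUp.Near
import Cfsg.Agent.Lib.Invol.SmallFixed

/-!
# The odd residual is a single block
-/

set_option autoImplicit false
set_option linter.style.haveILetI false
set_option linter.unusedSectionVars false

namespace Cfsg.Agent.Invol.PushNorm

open Subgroup
open Cfsg.Agent.Transfer.QRC (core2 core2_le core2_norm le_core2 core2_isPGroup norm_of_conj pCore_normal_two)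
open scoped commutatorElement

universe u

theorem order_three_top {Y : Type*} [Group Y] [Finite Y] (h : Nat.card Y = 3) (X : Subgroup Y) (hX : X ≠ ⊥) : X = ⊤ := by
  have hd := X.card_subgroup_dvd_card
  rw [h] at hd
  rcases (Nat.dvd_prime Nat.prime_three).mp hd with h1 | h1
  · exact absurd (card_eq_one.mp h1) hX
  · exact eq_top_of_card_eq _ (h1.trans h.symm)

/-- A normal subgroup of a normal subgroup of `Y` covers `Y` or is trivial, for the groups in question. -/
theorem simple_or_three {Y : Type} [Group Y] [Finite Y]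
    (hY : Nat.card Y = 3 ∨ ∃ n : ℕ, 2 ≤ n ∧ Nonempty (Y ≃* Matrix.SpecialLinearGroup (Fin 2) (GaloisField 2 n))) :
    Nat.card Y = 3 ∨ (commutator Y = ⊤ ∧ ∀ A : Subgroup Y, A.Normal → A ≠ ⊥ → A = ⊤) := by
  rcases hY with h | ⟨n, hn, ⟨e⟩⟩
  · exact Or.inl h
  refine Or.inr ?_
  haveI : Fintype (GaloisField 2 n) := Fintype.ofFinite _
  have hq : 4 ≤ Fintype.card (GaloisField 2 n) := by
    rw [← Nat.card_eq_fintype_card, GaloisField.card 2 n (by omega)]
    exact le_trans (by norm_num) (Nat.pow_le_pow_right (by norm_num : 0 < 2) hn)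
  haveI : CharP (GaloisField 2 n) 2 := inferInstance
  have hperf : commutator (Matrix.SpecialLinearGroup (Fin 2) (GaloisField 2 n)) = ⊤ :=
    Classical.SL_commutator_eq_top fun _ => Classical.exists_sq_ne_one_field hq
  have hcen : center (Matrix.SpecialLinearGroup (Fin 2) (GaloisField 2 n)) = ⊥ := by
    refine eq_bot_iff.mpr fun z hz => mem_bot.mpr ?_
    have h01 := congrArg (fun m : Matrix.SpecialLinearGroup (Fin 2) (GaloisField 2 n) =>
      (m : Matrix (Fin 2) (Fin 2) (GaloisField 2 n)) 0 1) (mem_center_iff.mp hz (Grp.SL2.up 1))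
    have h10 := congrArg (fun m : Matrix.SpecialLinearGroup (Fin 2) (GaloisField 2 n) =>
      (m : Matrix (Fin 2) (Fin 2) (GaloisField 2 n)) 1 1) (mem_center_iff.mp hz (Grp.SL2.up 1))
    simp only [Matrix.SpecialLinearGroup.coe_mul] at h01 h10
    simp [Grp.SL2.up, Matrix.mul_apply, Fin.sum_univ_two] at h01 h10
    have hl := congrArg (fun m : Matrix.SpecialLinearGroup (Fin 2) (GaloisField 2 n) =>
      (m : Matrix (Fin 2) (Fin 2) (GaloisField 2 n)) 0 0) (mem_center_iff.mp hz (Grp.SL2.low 1))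
    simp only [Matrix.SpecialLinearGroup.coe_mul] at hl
    simp [Grp.SL2.low, Matrix.mul_apply, Fin.sum_univ_two] at hl
    have hd := Matrix.SpecialLinearGroup.det_coe z
    rw [Matrix.det_fin_two] at hd
    refine Subtype.ext ?_
    have hsq : (z : Matrix (Fin 2) (Fin 2) (GaloisField 2 n)) 0 0 *
        (z : Matrix (Fin 2) (Fin 2) (GaloisField 2 n)) 0 0 = 1 := by
      have h11 : (z : Matrix (Fin 2) (Fin 2) (GaloisField 2 n)) 1 1 =
          (z : Matrix (Fin 2) (Fin 2) (GaloisField 2 n)) 0 0 := by linear_combination h01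
      rw [h10, hl, h11] at hd
      simpa using hd
    have h00 : (z : Matrix (Fin 2) (Fin 2) (GaloisField 2 n)) 0 0 = 1 := by
      rcases mul_self_eq_one_iff.mp hsq with h1 | h1
      · exact h1
      · rw [h1, CharTwo.neg_eq]
    ext i j
    fin_cases i <;> fin_cases j <;> simp_all
  refine ⟨?_, fun A hA hne => ?_⟩
  · exact map_injective (f := e.toMonoidHom) e.injective (by
      rw [_root_.commutator_def, Subgroup.map_commutator, map_top_of_surjective e.toMonoidHom e.surjective, ← _root_.commutator_def,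
        hperf])
  · haveI := hA.map e.toMonoidHom e.surjective
    haveI := Classical.PSL_isSimple (F := GaloisField 2 n) (n := 2) le_rfl fun _ => hq
    have htop : A.map e.toMonoidHom = ⊤ := Classical.SL_normal_eq_top hperf _ fun hle => hne (by
      rw [hcen, le_bot_iff, Subgroup.map_eq_bot_iff] at hle
      refine le_bot_iff.mp fun a ha => ?_
      exact mem_bot.mpr (e.injective ((MonoidHom.mem_ker.mp (hle ha)).trans (map_one _).symm)))
    exact map_injective (f := e.toMonoidHom) e.injective (htop.trans (map_top_of_surjective e.toMonoidHom e.surjective).symm)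

variable {G : Type u} [Group G] [Finite G]

namespace Hyp

variable {H K M Q T : Subgroup G} (h : Hyp H K M Q T)
include h

theorem exists_sylow_H : ∃ S : Sylow 2 ↥H, (S : Subgroup ↥H).map H.subtype = T := by
  have hTs : IsPGroup 2 (T.subgroupOf H) := h.T_p.comap_of_injective H.subtype H.subtype_injective
  obtain ⟨S, hS⟩ := hTs.exists_le_sylow
  exact ⟨S, h.T_max _ (S.isPGroup'.map _) (map_subtype_le _) fun t ht => ⟨⟨t, h.T_le ht⟩, hS ht, rfl⟩⟩

theorem sub_K_eq : (Cfsg.pResidual 2 ↥H).map H.subtype = K := by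
  rw [h.hK, Cfsg.pResidual, MonoidHom.map_closure, Cfsg.oddGenerated]
  congr 1
  ext x
  constructor
  · rintro ⟨y, hy, rfl⟩
    exact ⟨y.2, by rw [coe_subtype, orderOf_coe]; exact Nat.coprime_two_right.mp hy⟩
  · rintro ⟨hx, hodd⟩
    exact ⟨⟨x, hx⟩, by rw [Set.mem_setOf_eq, orderOf_mk]; exact Nat.coprime_two_right.mpr hodd, rfl⟩

/-- `K` is generated by its elements of odd order. -/
theorem K_le_of_odd {X : Subgroup G} (hX : ∀ k ∈ K, Odd (orderOf k) → k ∈ X) : K ≤ X := by
  intro k hk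
  rw [h.hK] at hk
  refine (closure_le X).mpr (fun x hx => ?_) hk
  exact hX x (by rw [h.hK]; exact subset_closure hx) hx.2

theorem res_K : Cfsg.pResidualOf 2 K = K :=
  le_antisymm (map_subtype_le _) (h.K_le_of_odd fun k hk hodd =>
    ⟨⟨k, hk⟩, subset_closure (by rw [Set.mem_setOf_eq, orderOf_mk]; exact Nat.coprime_two_right.mpr hodd), rfl⟩)

theorem star_ge_two (hs : Star K) :
    ∃ (Y : Type) (_ : Group Y) (φ : ↥K →* Y), Function.Surjective φ ∧ φ.ker = Cfsg.pCore 2 ↥K ∧
      (Nat.card Y = 3 ∨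
        ∃ n : ℕ, 2 ≤ n ∧ Nonempty (Y ≃* Matrix.SpecialLinearGroup (Fin 2) (GaloisField 2 n))) := by
  obtain ⟨Y, _, φ, hφ, hker, hY⟩ := hs
  refine ⟨Y, _, φ, hφ, hker, ?_⟩
  rcases hY with h3 | ⟨n, hn, ⟨e⟩⟩
  · exact Or.inl h3
  rcases Nat.lt_or_ge 1 n with h2 | h2
  · exact Or.inr ⟨n, h2, ⟨e⟩⟩
  obtain rfl : n = 1 := by omega
  exfalso
  haveI : Fintype (GaloisField 2 1) := Fintype.ofFinite _
  have h6 : Nat.card Y = 6 := by
    rw [Nat.card_congr e.toEquiv]
    exact PushUp.card_SL_two (by rw [← Nat.card_eq_fintype_card, GaloisField.card 2 1 one_ne_zero, pow_one])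
  haveI : Finite Y := Finite.of_surjective φ hφ
  have hgen : closure (φ '' {k : K | Odd (orderOf k)}) = ⊤ := by
    rw [← MonoidHom.map_closure, eq_top_iff]
    have hall : closure {k : K | Odd (orderOf k)} = ⊤ := by
      refine eq_top_iff.mpr fun k _ => ?_
      have hle : K ≤ (closure {k : K | Odd (orderOf k)}).map K.subtype :=
        h.K_le_of_odd fun x hx hodd => ⟨⟨x, hx⟩, subset_closure (by rw [Set.mem_setOf_eq, orderOf_mk]; exact hodd), rfl⟩
      obtain ⟨y, hy, hye⟩ := hle k.2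
      rwa [← K.subtype_injective hye]
    rw [hall, map_top_of_surjective φ hφ]
  haveI : Nontrivial Y := Finite.one_lt_card_iff_nontrivial.mp (by omega)
  have := PushUp.card_three_of_odd h6 ⊤ top_ne_bot _ hgen.symm (by
    rintro _ ⟨k, hk, rfl⟩
    exact Odd.of_dvd_nat hk (orderOf_map_dvd φ k))
  rw [card_top, h6] at this
  omega

variable {g : G} (hgT : g ∈ normalizer (T : Set G)) (hgM : g ∉ M)
include hgT hgM

/-- The odd residual is a block for `T`. -/
theorem block (hs : Star K) : Cfsg.IsBaumannBlock 2 T K := by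
  classical
  haveI : Fact (Nat.Prime 2) := ⟨Nat.prime_two⟩
  obtain ⟨S, hS⟩ := h.exists_sylow_H
  have hι : Function.Injective H.subtype := H.subtype_injective
  obtain ⟨B, hBH, hBne, hB⟩ := h.exists_top hs
  have hnorm : ∀ C : Subgroup ↥H, C.Normal → H ≤ normalizer ((C.map H.subtype : Subgroup G) : Set G) := fun C hC =>
    norm_le fun x hx y hy => by
      obtain ⟨c, hc, rfl⟩ := hy
      exact ⟨_, hC.conj_mem c hc ⟨x, hx⟩, rfl⟩
  -- minimality
  have hmin : Cfsg.IsPMinimal 2 ↥H := by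
    intro S'
    obtain ⟨x, hx⟩ := MulAction.exists_smul_eq ↥H S S'
    have hS' : ((S' : Subgroup ↥H)).map H.subtype = cjS (x : G) T := by
      rw [← hx, Sylow.coe_subgroup_smul, ← hS]
      ext y
      constructor
      · rintro ⟨_, ⟨s, hs, rfl⟩, rfl⟩
        exact ⟨s, ⟨s, hs, rfl⟩, rfl⟩
      · rintro ⟨_, ⟨s, hs, rfl⟩, rfl⟩
        exact ⟨_, ⟨s, hs, rfl⟩, rfl⟩
    have hxH : H ≤ normalizer (H : Set G) := le_normalizer
    refine ⟨fun hn => h.T_ne ?_, ?_⟩
    · have h1 := hnorm _ hn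
      rw [hS', normalizer_cjS] at h1
      intro y hy
      have h2 := h1 (conj_mem hxH x.2 hy)
      rw [mem_cjS] at h2
      convert h2 using 1
      group
    obtain ⟨B', hB'⟩ : ∃ B', B' = (cjS (x : G) B).subgroupOf H := ⟨_, rfl⟩
    have hBle : cjS (x : G) B ≤ H := fun y hy => by
      obtain ⟨b, hb, rfl⟩ := hy
      exact conj_mem hxH x.2 (hBH hb)
    have hB'ne : B' ≠ ⊤ := fun e => hBne (by
      rw [hB', subgroupOf_eq_top] at e
      refine le_antisymm hBH fun y hy => ?_
      have := mem_cjS.mp (e (conj_mem hxH x.2 hy))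
      convert this using 1
      group)
    have key : ∀ N : Subgroup ↥H, N ≠ ⊤ → (S' : Subgroup ↥H) ≤ N → N ≤ B' := fun N hN hle y hy => by
      obtain ⟨N', hN'⟩ : ∃ N', N' = cjS (x : G)⁻¹ (N.map H.subtype) := ⟨_, rfl⟩
      have hTN : T ≤ N' := by
        rw [hN']
        have := cjS_mono (g := (x : G)⁻¹) (hS' ▸ map_mono (f := H.subtype) hle)
        rwa [cjS_cancel] at this
      have hN'H : N' ≤ H := by
        rw [hN']
        rintro _ ⟨b, hb, rfl⟩
        exact conj_mem hxH (inv_mem x.2) (map_subtype_le _ hb)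
      have hne : N' ≠ H := fun e => hN (by
        refine eq_top_iff.mpr fun z _ => ?_
        have : (x : G)⁻¹ * z * x ∈ N' := e.ge (by
          have := conj_mem hxH (inv_mem x.2) z.2
          rwa [inv_inv] at this)
        rw [hN', mem_cjS] at this
        obtain ⟨c, hc, hce⟩ := this
        have : c = z := Subtype.ext (by
          show (c : G) = z
          rw [show (c : G) = (x : G)⁻¹⁻¹ * ((x : G)⁻¹ * z * x) * (x : G)⁻¹ from hce]
          group)
        rwa [← this])
      have hy' : (x : G)⁻¹ * y * x ∈ N' := by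
        rw [hN', mem_cjS]
        exact ⟨y, hy, by show (y : G) = _; group⟩
      rw [hB', mem_subgroupOf, mem_cjS]
      exact hB N' hTN hN'H hne hy'
    obtain ⟨N, hN, hle⟩ := (eq_top_or_exists_le_coatom (S' : Subgroup ↥H)).resolve_left fun e => hB'ne
      (eq_top_iff.mpr (e.ge.trans (by
        have hST : ((cjS (x : G) B).subgroupOf H) ≥ (S' : Subgroup ↥H) := fun y hy => by
          rw [mem_subgroupOf]
          refine cjS_mono (X := T) (fun t ht => hB T le_rfl h.T_le ?_ ht) (hS'.le (mem_map_of_mem _ hy))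
          exact fun e' => h.T_ne (e' ▸ le_normalizer)
        rw [hB']; exact hST)))
    refine ⟨N, ⟨hN, hle⟩, fun N' hN' => ?_⟩
    have h1 := key N hN.1 hle
    have h2 := key N' hN'.1.1 hN'.2
    rw [(hN.le_iff.mp h1).resolve_left hB'ne] at h2
    exact ((hN'.1.le_iff.mp h2).resolve_left hN.1).symm
  -- characteristic two
  have hchar2 : centralizer (Cfsg.pCore 2 ↥H : Set ↥H) ≤ Cfsg.pCore 2 ↥H := fun c hc => by
    have hcc : (c : G) ∈ centralizer (Q : Set G) := by
      rw [h.hQ, mem_centralizer_iff]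
      rintro _ ⟨q, hq, rfl⟩
      exact congrArg Subtype.val (mem_centralizer_iff.mp hc q hq)
    have := h.cent_Q ⟨h.H_le_M c.2, hcc⟩
    rw [h.hQ] at this
    obtain ⟨q, hq, hqc⟩ := this
    rwa [← H.subtype_injective hqc]
  -- no characteristic subgroup of the Baumann subgroup is normal
  have hbau : ∀ {C : Subgroup ↥H}, C ≤ Cfsg.baumannSubgroupOf 2 (S : Subgroup ↥H) →
      (C.subgroupOf (Cfsg.baumannSubgroupOf 2 (S : Subgroup ↥H))).Characteristic → C.Normal → C = ⊥ := by
    intro C hC hch hn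
    have hB' : (Cfsg.baumannSubgroupOf 2 (S : Subgroup ↥H)).map H.subtype = Cfsg.baumannSubgroupOf 2 T := by
      rw [← hS]; exact (Fus.LocalCStar.baumann_map_hom H.subtype hι _).symm
    obtain ⟨B0, hB0⟩ : ∃ B0, B0 = Cfsg.baumannSubgroupOf 2 (S : Subgroup ↥H) := ⟨_, rfl⟩
    rw [← hB0] at hC hch hB'
    have hgB : g ∈ normalizer ((B0.map H.subtype : Subgroup G) : Set G) := by
      refine cjS_eq_iff.mp ?_
      rw [hB']
      show (Cfsg.baumannSubgroupOf 2 T).map (MulAut.conj g).toMonoidHom = _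
      rw [← Fus.LocalCStar.baumann_map_hom _ (MulAut.conj g).injective]
      exact congrArg (Cfsg.baumannSubgroupOf 2) (cjS_eq_iff.mpr hgT)
    have hch' : ((C.map H.subtype).subgroupOf (B0.map H.subtype)).Characteristic := by
      let e : ↥B0 ≃* ↥(B0.map H.subtype) := B0.equivMapOfInjective H.subtype hι
      have he : (C.map H.subtype).subgroupOf (B0.map H.subtype) = (C.subgroupOf B0).map e.toMonoidHom := by
        ext y
        obtain ⟨y, rfl⟩ := e.surjective y
        rw [mem_subgroupOf]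
        constructor
        · rintro ⟨c, hc, hce⟩
          have hcy : c = (y : ↥H) := hι hce
          exact ⟨y, mem_subgroupOf.mpr (hcy ▸ hc), rfl⟩
        · rintro ⟨c, hc, hce⟩
          rw [← e.injective hce]
          exact ⟨c, hc, rfl⟩
      rw [he]
      refine characteristic_iff_map_le.mpr fun ψ => ?_
      rintro _ ⟨_, ⟨c, hc, rfl⟩, rfl⟩
      have := characteristic_iff_map_le.mp hch ((e.trans ψ).trans e.symm) (mem_map_of_mem _ hc)
      exact ⟨_, this, e.apply_symm_apply _⟩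
    have hgC := Transfer.QRC.norm_char (map_mono hC) hch' hgB
    have hCp : IsPGroup 2 (C.map H.subtype) :=
      ((S.isPGroup'.to_le (by rw [hB0] at hC; exact hC.trans inf_le_left)).map _)
    exact (map_eq_bot_iff_of_injective C hι).mp (h.no_fix hgT hgM hCp (hnorm C hn) (cjS_eq_iff.mpr hgC))
  have hchar : ∀ C : Subgroup ↥H, C ≤ Cfsg.baumannSubgroupOf 2 (S : Subgroup ↥H) → C ≠ ⊥ →
      (C.subgroupOf (Cfsg.baumannSubgroupOf 2 (S : Subgroup ↥H))).Characteristic → ¬ C.Normal :=
    fun C hC hne hch hn => hne (hbau hC hch hn)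
  have hSne : (S : Subgroup ↥H) ≠ ⊥ := fun e => h.T_ne (by
    have hT : T = ⊥ := by rw [← hS, e, Subgroup.map_bot]
    exact norm_le fun x hx y hy => by rw [hT, mem_bot] at hy ⊢; simp [hy])
  have hz : ¬ (Cfsg.omegaOneCenter 2 (S : Subgroup ↥H)).Normal := by
    intro hn
    have hle : Cfsg.omegaOneCenter 2 (S : Subgroup ↥H) ≤ (S : Subgroup ↥H) :=
      fun z hz => (Invol.BlockPair.omegaOneCenter_le _ hz).1
    have hgZ : cjS g ((Cfsg.omegaOneCenter 2 (S : Subgroup ↥H)).map H.subtype) =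
        (Cfsg.omegaOneCenter 2 (S : Subgroup ↥H)).map H.subtype := by
      rw [← Fus.LocalCStar.omega_map_hom H.subtype hι, hS, cjS,
        ← Fus.LocalCStar.omega_map_hom _ (MulAut.conj g).injective]
      exact congrArg (Cfsg.omegaOneCenter 2) (cjS_eq_iff.mpr hgT)
    have hbot := (map_eq_bot_iff_of_injective _ hι).mp
      (h.no_fix hgT hgM ((S.isPGroup'.to_le hle).map _) (hnorm _ hn) hgZ)
    haveI : Nontrivial ↥(S : Subgroup ↥H) := (nontrivial_iff_ne_bot _).mpr hSne
    haveI := S.isPGroup'.center_nontrivial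
    obtain ⟨⟨z, hz⟩, hz1⟩ := exists_ne (1 : ↥(center ↥(S : Subgroup ↥H)))
    obtain ⟨k, hk⟩ := (S.isPGroup'.to_subgroup (center _)) ⟨z, hz⟩
    classical
    have hex : ∃ k, z ^ 2 ^ k = 1 := ⟨k, congrArg Subtype.val hk⟩
    have hk0 : Nat.find hex ≠ 0 := fun e => hz1 (Subtype.ext (by
      have := Nat.find_spec hex
      rw [e, pow_zero, pow_one] at this
      exact this))
    obtain ⟨j, hj⟩ := Nat.exists_eq_succ_of_ne_zero hk0
    obtain ⟨w, hw⟩ : ∃ w, w = z ^ 2 ^ j := ⟨_, rfl⟩
    have hw1 : w ≠ 1 := hw ▸ Nat.find_min hex (by omega)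
    have hw2 : w ^ 2 = 1 := by
      rw [hw, ← pow_mul, ← pow_succ]
      have := Nat.find_spec hex
      rwa [hj] at this
    have hmem : (w : ↥H) ∈ Cfsg.omegaOneCenter 2 (S : Subgroup ↥H) := by
      refine subset_closure ⟨⟨w.2, mem_centralizer_iff.mpr fun s hs => ?_⟩, congrArg Subtype.val hw2⟩
      exact congrArg Subtype.val (mem_center_iff.mp (hw ▸ pow_mem hz _ : w ∈ center _) ⟨s, hs⟩)
    rw [hbot, mem_bot] at hmem
    exact hw1 (Subtype.ext hmem)
  obtain ⟨𝓑, hBS, -, hcs⟩ := Cfsg.Agent.S2982.result hmin hchar2 S hchar hz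
  obtain ⟨hblk, hconj, hcomm, htop, -⟩ := hBS
  obtain ⟨Y, _, φ, hφ, hker, hY⟩ := h.star_ge_two hs
  haveI : Finite Y := Finite.of_surjective φ hφ
  -- the members inside `K`
  have hEK : ∀ E ∈ 𝓑, E.map H.subtype ≤ K := fun E hE => by
    rw [← h.sub_K_eq]
    refine map_mono ?_
    rw [← (hblk E hE).1]
    rintro _ ⟨e, he, rfl⟩
    refine (closure_le ((Cfsg.pResidual 2 ↥H).comap E.subtype)).mpr (fun x hx => ?_) he
    exact subset_closure (show Nat.Coprime (orderOf (x : ↥H)) 2 by rw [orderOf_coe]; exact hx)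
  obtain ⟨im, him⟩ : ∃ im : Subgroup ↥H → Subgroup Y,
      im = fun E => ((E.map H.subtype).subgroupOf K).map φ := ⟨_, rfl⟩
  have himmem : ∀ (E : Subgroup ↥H) (e : ↥H), e ∈ E → ∀ (he : (e : G) ∈ K), φ ⟨e, he⟩ ∈ im E :=
    fun E e he heK => by
      rw [him]
      exact mem_map_of_mem φ (show (⟨(e : G), heK⟩ : K) ∈ (E.map H.subtype).subgroupOf K from ⟨e, he, rfl⟩)
  have himne : ∀ E ∈ 𝓑, im E ≠ ⊥ := fun E hE he => by
    obtain ⟨hres, -, hQE, hZ, -⟩ := hblk E hE
    refine hZ ?_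
    have hp : IsPGroup 2 E := by
      refine IsPGroup.to_le (K := (core2 K).subgroupOf H) ?_ fun e heE => ?_
      · exact (core2_isPGroup K).comap_of_injective H.subtype hι
      · have heK : (e : G) ∈ K := hEK E hE ⟨e, heE, rfl⟩
        have h1 : φ ⟨e, heK⟩ = 1 := mem_bot.mp (he ▸ himmem E e heE heK)
        rw [← MonoidHom.mem_ker, hker] at h1
        exact ⟨_, h1, rfl⟩
    have hE1 : E = ⊥ := by
      rw [← hres]
      refine le_bot_iff.mp ?_
      rintro _ ⟨x, hx, rfl⟩
      have hbot : Cfsg.pResidual 2 ↥E ≤ ⊥ := (closure_le _).mpr fun y hy => by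
        obtain ⟨k, hk⟩ := IsPGroup.iff_orderOf.mp hp y
        rw [Set.mem_setOf_eq, hk] at hy
        rcases Nat.eq_zero_or_pos k with h0 | h0
        · rw [h0, pow_zero, orderOf_eq_one_iff] at hk
          exact hk
        · exact absurd ((Nat.coprime_pow_left_iff h0 2 2).mp hy) (by norm_num)
      rw [mem_bot, coe_subtype, mem_bot.mp (hbot hx), OneMemClass.coe_one]
    rw [hE1, commutator_bot_left]
  have hIcomm : ∀ E ∈ 𝓑, ∀ F ∈ 𝓑, E ≠ F → ∀ x ∈ im E, ∀ y ∈ im F, x * y = y * x := by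
    intro E hE F hF hne x hx y hy
    rw [him] at hx hy
    obtain ⟨⟨a, ha'⟩, ⟨a', ha, hae⟩, rfl⟩ := hx
    obtain ⟨⟨b, hb'⟩, ⟨b', hb, hbe⟩, rfl⟩ := hy
    rw [← map_mul, ← map_mul]
    refine congrArg φ (Subtype.ext ?_)
    show a * b = b * a
    rw [← show (a' : G) = a from hae, ← show (b' : G) = b from hbe]
    exact congrArg Subtype.val (commutatorElement_eq_one_iff_mul_comm.mp
      (mem_bot.mp ((hcomm E hE F hF hne).le (commutator_mem_commutator ha hb))))
  have hImnorm : ∀ E ∈ 𝓑, ∀ F ∈ 𝓑, im F ≤ normalizer (im E : Set Y) := fun E hE F hF => by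
    rcases eq_or_ne E F with rfl | hne
    · exact le_normalizer
    · refine fun y hy => mem_norm fun x hx => ?_
      rw [← hIcomm E hE F hF hne x hx y hy, mul_inv_cancel_right]
      exact hx
  obtain ⟨Uim, hUim⟩ : ∃ Uim, Uim = ⨆ E ∈ 𝓑, im E := ⟨_, rfl⟩
  have hUn : Uim.Normal := by
    refine normalizer_eq_top_iff.mp (eq_top_iff.mpr fun y _ => ?_)
    obtain ⟨k, rfl⟩ := hφ y
    refine mem_norm fun x hx => ?_
    rw [hUim] at hx ⊢
    revert x
    have : (⨆ E ∈ 𝓑, im E) ≤ (⨆ E ∈ 𝓑, im E).comap (MulAut.conj (φ k)).toMonoidHom := iSup₂_le fun E hE x hx => by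
      rw [him] at hx
      obtain ⟨⟨a, haK⟩, ⟨a', ha, hae⟩, rfl⟩ := hx
      obtain ⟨kk, hkk⟩ : ∃ kk : ↥H, kk = ⟨k, h.K_le k.2⟩ := ⟨_, rfl⟩
      refine mem_iSup_of_mem (E.map (MulAut.conj kk).toMonoidHom) (mem_iSup_of_mem (hconj E hE kk) ?_)
      have h2 := himmem (E.map (MulAut.conj kk).toMonoidHom) (kk * a' * kk⁻¹) ⟨a', ha, rfl⟩
        (by subst hkk; exact K.mul_mem (K.mul_mem k.2 (show (a' : G) ∈ K from hEK E hE ⟨a', ha, rfl⟩)) (K.inv_mem k.2))
      show φ k * φ ⟨a, haK⟩ * (φ k)⁻¹ ∈ _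
      rw [← map_inv, ← map_mul, ← map_mul]
      convert h2 using 2
      refine Subtype.ext ?_
      subst hkk
      show (k : G) * a * (k : G)⁻¹ = _
      rw [← show (a' : G) = a from hae]
      rfl
    exact fun x hx => this hx
  have hU1 : ∀ E ∈ 𝓑, im E ≤ Uim := fun E hE => hUim ▸ le_iSup₂_of_le E hE le_rfl
  obtain ⟨E, hE⟩ : 𝓑.Nonempty := by
    by_contra hne
    rw [Set.not_nonempty_iff_eq_empty] at hne
    subst hne
    rw [sSup_empty, sup_bot_eq] at htop
    rw [sSup_empty, htop, inf_bot_eq, bot_sup_eq] at hcs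
    refine h.T_ne ?_
    rw [← hS, ← hcs]
    intro x hx
    refine le_normalizer ⟨⟨x, hx⟩, mem_top _, rfl⟩
  have hEtop : ∀ E ∈ 𝓑, im E = ⊤ := by
    intro E hE
    rcases simple_or_three hY with h3 | ⟨-, hsimp⟩
    · exact order_three_top h3 _ (himne E hE)
    · have hUtop : Uim = ⊤ := hsimp _ hUn fun e => himne E hE (le_bot_iff.mp (e ▸ hU1 E hE))
      refine hsimp _ ?_ (himne E hE)
      refine normalizer_eq_top_iff.mp (eq_top_iff.mpr ?_)
      rw [← hUtop, hUim]
      exact iSup₂_le fun F hF => hImnorm E hE F hF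
  have hone : ∀ F ∈ 𝓑, F = E := by
    intro F hF
    by_contra hne
    have hab : ∀ x y : Y, x * y = y * x := fun x y =>
      hIcomm F hF E hE hne x ((hEtop F hF).ge (mem_top x)) y ((hEtop E hE).ge (mem_top y))
    rcases simple_or_three hY with h3 | ⟨hperf, -⟩
    · -- a common element of order three would be central in `E`
      haveI : Fact (Nat.Prime 3) := ⟨Nat.prime_three⟩
      obtain ⟨y, hy⟩ : ∃ y : Y, y ≠ 1 := by
        haveI : Nontrivial Y := Finite.one_lt_card_iff_nontrivial.mp (by omega)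
        exact exists_ne 1
      have hy3 : orderOf y = 3 := by
        rcases (Nat.dvd_prime Nat.prime_three).mp (h3 ▸ orderOf_dvd_natCard y) with h1 | h1
        · exact absurd (orderOf_eq_one_iff.mp h1) hy
        · exact h1
      -- odd lifts in the two members
      have hlift : ∀ D ∈ 𝓑, ∃ d : ↥H, ∃ hd : (d : G) ∈ K, d ∈ D ∧ φ ⟨d, hd⟩ = y ∧ Odd (orderOf d) := by
        intro D hD
        have hy' := (hEtop D hD).ge (mem_top y)
        rw [him] at hy'
        obtain ⟨⟨a, haK⟩, ⟨a', ha, hae⟩, hay⟩ := hy'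
        obtain ⟨k, m, hm, hkm⟩ := Nat.exists_eq_pow_mul_and_not_dvd (orderOf_pos a').ne' 2 (by norm_num)
        have hcop : Nat.Coprime 3 (2 ^ k) := Nat.Coprime.pow_right k (by norm_num)
        obtain ⟨j, hj⟩ : ∃ j : ℕ, (y ^ 2 ^ k) ^ j = y := by
          have hcy : (2 ^ k).Coprime (orderOf y) := by rw [hy3]; exact hcop.symm
          obtain ⟨j, hj⟩ := exists_pow_eq_self_of_coprime hcy
          exact ⟨j, hj⟩
        refine ⟨a' ^ (2 ^ k * j), by rw [coe_pow]; exact K.pow_mem (hEK D hD ⟨a', ha, rfl⟩) _,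
          D.pow_mem ha _, ?_, ?_⟩
        · have e : (⟨((a' ^ (2 ^ k * j) : ↥H) : G), by rw [coe_pow]; exact K.pow_mem (hEK D hD ⟨a', ha, rfl⟩) _⟩ : K) =
              (⟨a, haK⟩ : K) ^ (2 ^ k * j) := Subtype.ext (by
            show ((a' ^ (2 ^ k * j) : ↥H) : G) = a ^ (2 ^ k * j)
            rw [coe_pow, show (a' : G) = a from hae])
          rw [e, map_pow, hay, pow_mul, hj]
        · refine Odd.of_dvd_nat (Nat.odd_iff.mpr (by omega : m % 2 = 1)) (orderOf_dvd_of_pow_eq_one ?_)
          rw [← pow_mul, mul_assoc, mul_comm j m, ← mul_assoc, pow_mul, ← hkm, pow_orderOf_eq_one, one_pow]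
      obtain ⟨d, hdK, hdE, hdy, hdo⟩ := hlift E hE
      obtain ⟨d', hd'K, hd'F, hd'y, hd'o⟩ := hlift F hF
      have hc : Commute d' d := commutatorElement_eq_one_iff_mul_comm.mp
        (mem_bot.mp ((hcomm F hF E hE hne).le (commutator_mem_commutator hd'F hdE)))
      have hdd : d' = d := by
        have h1 : φ ⟨((d'⁻¹ * d : ↥H) : G), K.mul_mem (K.inv_mem hd'K) hdK⟩ = 1 := by
          have e : (⟨((d'⁻¹ * d : ↥H) : G), K.mul_mem (K.inv_mem hd'K) hdK⟩ : K) =
              (⟨(d' : G), hd'K⟩ : K)⁻¹ * ⟨(d : G), hdK⟩ := rfl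
          rw [e, map_mul, map_inv, hd'y, hdy, inv_mul_cancel]
        rw [← MonoidHom.mem_ker, hker] at h1
        have hmem : ((d'⁻¹ * d : ↥H) : G) ∈ core2 K := ⟨_, h1, rfl⟩
        obtain ⟨k, hk⟩ := IsPGroup.iff_orderOf.mp (core2_isPGroup K) ⟨_, hmem⟩
        rw [← orderOf_coe, Subtype.coe_mk, orderOf_coe] at hk
        have hodd : Odd (orderOf (d'⁻¹ * d)) := by
          refine Odd.of_dvd_nat ?_ (hc.inv_left.orderOf_mul_dvd_mul_orderOf)
          rw [orderOf_inv]; exact hd'o.mul hdo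
        rw [hk] at hodd
        rcases Nat.eq_zero_or_pos k with h0 | h0
        · rw [h0, pow_zero, orderOf_eq_one_iff] at hk
          exact (inv_mul_eq_one.mp hk)
        · exact absurd hodd (Nat.not_odd_iff_even.mpr (Nat.even_pow.mpr ⟨even_two, h0.ne'⟩))
      have hcen : ∀ e ∈ E, Commute d e := fun e he => by
        have := commutatorElement_eq_one_iff_mul_comm.mp
          (mem_bot.mp ((hcomm F hF E hE hne).le (commutator_mem_commutator hd'F he)))
        rwa [hdd] at this
      -- `E` is the product of its core and `⟨d⟩`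
      obtain ⟨-, -, hQE, -, hshape⟩ := hblk E hE
      obtain ⟨P, hP⟩ : ∃ P, P = Cfsg.pCoreOf 2 E := ⟨_, rfl⟩
      haveI hPn : (Cfsg.pCore 2 ↥E).Normal := pCore_normal_two ↥E
      have hgen : ∀ e ∈ E, ∃ p ∈ P, ∃ i : ℤ, e = p * d ^ i := by
        intro e he
        have heK : (e : G) ∈ K := hEK E hE ⟨e, he, rfl⟩
        have hye : φ ⟨e, heK⟩ ∈ zpowers y := by
          rw [order_three_top h3 (zpowers y) (by simpa using hy)]; exact mem_top _
        obtain ⟨i, hi⟩ := mem_zpowers_iff.mp hye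
        refine ⟨e * (d ^ i)⁻¹, ?_, i, by group⟩
        have hmem : e * (d ^ i)⁻¹ ∈ E := E.mul_mem he (E.inv_mem (E.zpow_mem hdE i))
        obtain ⟨x, hx⟩ : ∃ x, x = e * (d ^ i)⁻¹ := ⟨_, rfl⟩
        rw [← hx] at hmem ⊢
        -- `E ∩ core` is a normal 2-subgroup of `E`
        have h1 : (x : G) ∈ core2 K := by
          have e2 : (⟨(x : G), hEK E hE ⟨x, hmem, rfl⟩⟩ : K) = ⟨(e : G), heK⟩ * (⟨(d : G), hdK⟩ ^ i)⁻¹ :=
            Subtype.ext (by subst hx; show ((e * (d ^ i)⁻¹ : ↥H) : G) = _; push_cast; rfl)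
          refine ⟨⟨(x : G), hEK E hE ⟨x, hmem, rfl⟩⟩, ?_, rfl⟩
          rw [← hker, SetLike.mem_coe, MonoidHom.mem_ker, e2, map_mul, map_inv, map_zpow, hdy, hi, mul_inv_cancel]
        obtain ⟨N, hN⟩ : ∃ N, N = ((core2 K).subgroupOf H).subgroupOf E := ⟨_, rfl⟩
        have hNn : N.Normal := ⟨fun a ha b => by
          rw [hN, mem_subgroupOf, mem_subgroupOf] at ha ⊢
          exact core2_norm K _ (hEK E hE ⟨b, b.2, rfl⟩) _ ha⟩
        have hNp : IsPGroup 2 N := hN ▸ ((core2_isPGroup K).comap_of_injective H.subtype hι).comap_of_injective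
          E.subtype E.subtype_injective
        rw [hP]
        exact ⟨⟨x, hmem⟩, (le_sSup ⟨hNn, hNp⟩ : N ≤ Cfsg.pCore 2 ↥E) (by rw [hN, mem_subgroupOf, mem_subgroupOf]; exact h1), rfl⟩
      -- the core is perfect, hence trivial
      rw [← hP] at hQE
      have hPE : P ≤ E := hP ▸ map_subtype_le _
      have hPp : IsPGroup 2 P := hP ▸ Grp.pCore_isPGroup.map _
      have hle : ⁅P, E⁆ ≤ ⁅P, P⁆ := commutator_le.mpr fun p hp e he => by
        obtain ⟨p', hp', i, rfl⟩ := hgen e he
        have hci : Commute p (d ^ i) := ((hcen p (hPE hp)).zpow_left i).symm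
        rw [show ⁅p, p' * d ^ i⁆ = ⁅p, p'⁆ by
          rw [commutatorElement_mul_right_eq_mul_conj, commutatorElement_eq_one_iff_mul_comm.mpr hci.eq]
          group]
        exact commutator_mem_commutator hp hp'
      have hPbot : P = ⊥ := by
        by_contra hne'
        haveI : Nontrivial ↥P := (nontrivial_iff_ne_bot P).mpr hne'
        haveI := hPp.isNilpotent
        have h1 : (⊤ : Subgroup ↥P) ≤ ⁅(⊤ : Subgroup ↥P), ⊤⁆ := by
          refine map_le_map_iff_of_injective P.subtype_injective |>.mp ?_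
          rw [Subgroup.map_commutator, ← MonoidHom.range_eq_map, range_subtype]
          exact hQE.ge.trans hle
        exact top_ne_bot (Invol.eq_bot_of_le_commutator h1)
      have hW : Cfsg.omegaOneCenter 2 (Cfsg.pCoreOf 2 E) = ⊥ := by
        rw [← hP, hPbot]
        exact le_bot_iff.mp fun z hz => (Invol.BlockPair.omegaOneCenter_le _ hz).1
      rcases hshape with ⟨F', _, _, n', hcF, -, ⟨-, -, ρ, ψ, -, hsurj, hkerψ, -⟩, -⟩ | ⟨-, m, ⟨e'⟩, hperm, -⟩
      · obtain ⟨u, hu⟩ := hsurj (Multiplicative.ofAdd fun _ => (1 : F'))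
        have hu1 : u = 1 := Subtype.ext (mem_bot.mp (hW.le u.2))
        rw [hu1, map_one] at hu
        exact one_ne_zero (congrFun (congrArg Multiplicative.toAdd hu) 0).symm
      · obtain ⟨-, -, ρ, ψ, -, -, hsurj, -, -⟩ := hperm
        rcases Nat.eq_zero_or_pos m with hm0 | hm0
        · subst hm0
          refine himne E hE (le_bot_iff.mp ?_)
          intro z hz
          rw [him] at hz
          obtain ⟨⟨a, haK⟩, ⟨a', ha, hae⟩, rfl⟩ := hz
          have hq : (QuotientGroup.mk' (Cfsg.pCore 2 ↥E)) ⟨a', ha⟩ = 1 := e'.injective (by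
            refine Subtype.ext (Equiv.ext fun i => Fin.ext ?_)
            omega)
          rw [QuotientGroup.mk'_apply, QuotientGroup.eq_one_iff] at hq
          have : a' ∈ P := hP ▸ ⟨_, hq, rfl⟩
          rw [hPbot, mem_bot] at this
          subst this
          rw [mem_bot]
          convert map_one φ using 2
          exact Subtype.ext hae.symm
        · obtain ⟨u, hu⟩ := hsurj (Pi.single (⟨0, by omega⟩ : Fin (2 * m + 1)) 1 + Pi.single ⟨1, by omega⟩ 1) (by
            simp only [Pi.add_apply, Finset.sum_add_distrib, Finset.sum_pi_single', Finset.mem_univ, if_true]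
            exact CharTwo.add_self_eq_zero 1)
          have hu1 : u = 1 := Subtype.ext (mem_bot.mp (hW.le u.2))
          rw [hu1, map_one] at hu
          have := congrFun hu ⟨0, by omega⟩
          simp at this
    · have : commutator Y = ⊥ := by
        rw [_root_.commutator_def, commutator_eq_bot_iff_le_centralizer]
        exact fun x _ => mem_centralizer_iff.mpr fun y _ => hab y x
      rw [hperf] at this
      exact himne E hE (le_bot_iff.mp (this ▸ le_top))
  -- the member is normal with 2-power index in `K`, so it is `K`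
  have hEn : E.Normal := normalizer_eq_top_iff.mp (eq_top_iff.mpr fun x _ => mem_norm fun e he =>
    (hone _ (hconj E hE x)).le (mem_map_of_mem (MulAut.conj x).toMonoidHom he))
  have hEmap : E.map H.subtype = K := by
    refine le_antisymm (hEK E hE) (h.K_le_of_odd fun k hk hodd => ?_)
    have hk' := (hEtop E hE).ge (mem_top (φ ⟨k, hk⟩))
    rw [him] at hk'
    obtain ⟨⟨a, haK⟩, ⟨a', ha, hae⟩, hak⟩ := hk'
    obtain ⟨kH, hkH⟩ : ∃ kH : ↥H, kH = ⟨k, h.K_le hk⟩ := ⟨_, rfl⟩
    have hc : (a : G)⁻¹ * k ∈ core2 K := ⟨⟨a, haK⟩⁻¹ * ⟨k, hk⟩, by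
      rw [← hker, SetLike.mem_coe, MonoidHom.mem_ker, map_mul, map_inv, hak, inv_mul_cancel], rfl⟩
    -- the image of `k` modulo `E` has odd and 2-power order
    have h2 : ∃ j : ℕ, (a'⁻¹ * kH) ^ 2 ^ j = 1 := by
      obtain ⟨j, hj⟩ := core2_isPGroup K ⟨_, hc⟩
      refine ⟨j, Subtype.ext ?_⟩
      rw [coe_pow]
      subst hkH
      show ((a' : G)⁻¹ * k) ^ 2 ^ j = 1
      rw [show (a' : G) = a from hae]
      exact congrArg Subtype.val hj
    haveI := hEn
    have he : QuotientGroup.mk' E kH = 1 := by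
      obtain ⟨j, hj⟩ := h2
      have e1 : QuotientGroup.mk' E (a'⁻¹ * kH) = QuotientGroup.mk' E kH := by
        rw [map_mul, map_inv, show QuotientGroup.mk' E a' = 1 from (QuotientGroup.eq_one_iff _).mpr ha, inv_one, one_mul]
      have d1 : orderOf (QuotientGroup.mk' E kH) ∣ 2 ^ j := by
        rw [← e1]; exact orderOf_dvd_of_pow_eq_one (by rw [← map_pow, hj, map_one])
      have d2 : orderOf (QuotientGroup.mk' E kH) ∣ orderOf k := by
        refine (orderOf_map_dvd _ _).trans (dvd_of_eq ?_)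
        rw [hkH, orderOf_mk]
      rw [← orderOf_eq_one_iff]
      exact Nat.eq_one_of_dvd_coprimes ((Nat.coprime_two_left.mpr hodd).pow_left j) d1 d2
    exact ⟨kH, (QuotientGroup.eq_one_iff _).mp he, by rw [hkH]; rfl⟩
  have := (Fus.LocalCStar.block_map_hom_iff H.subtype hι (S : Subgroup ↥H) E).mpr (hblk E hE)
  rwa [hS, hEmap] at this

end Hyp

end Cfsg.Agent.Invol.PushNorm
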