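import Cfsg.Agent.Lib.Invol.PushNorm.Count

/-!
# The structure of a natural block: `Q = W` and `T ∩ K = W W'`
-/

set_option autoImplicit false
set_option linter.style.haveILetI false
set_option linter.unusedSectionVars false

namespace Cfsg.Agent.Invol.PushNorm

open Subgroup Matrix
open Cfsg.Agent.Grp.SL2 (up)
open Cfsg.Agent.Invol.Nat2 (dg dg_up mulVec_up mulVec_dg)

universe u

variable {G : Type u} [Group G] [Finite G] {F : Type} [Field F] [Finite F] [CharP F 2]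

theorem comm_of_exp {A : Subgroup G} (h : ∀ a ∈ A, a * a = 1) {a b : G} (ha : a ∈ A) (hb : b ∈ A) :
    a * b = b * a := by
  rw [← inv_eq_of_mul_eq_one_left (h _ (A.mul_mem ha hb)), _root_.mul_inv_rev,
    inv_eq_of_mul_eq_one_left (h a ha), inv_eq_of_mul_eq_one_left (h b hb)]

theorem mem_mul_of_sup {A X : Subgroup G} (hn : X ≤ normalizer (A : Set G)) {x : G} (hx : x ∈ A ⊔ X) :
    ∃ a ∈ A, ∃ b ∈ X, x = a * b := by
  rw [← SetLike.mem_coe, coe_mul_of_right_le_normalizer_left A X hn] at hx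
  obtain ⟨a, ha, b, hb, e⟩ := hx
  exact ⟨a, ha, b, hb, e.symm⟩

namespace Fr

variable {H K M Q T W : Subgroup G} (R : Fr H K M Q T W F)
include R

theorem cjT : cjS R.g T = T := cjS_eq_iff.mpr R.gT

theorem T_norm_Q : T ≤ normalizer (Q : Set G) := R.hyp.T_le.trans R.hyp.Q_norm

theorem W'_T : cjS R.g W ≤ T := R.hyp.W'_le_T R.mdl R.gT R.gM

theorem W'_exp : ∀ a ∈ cjS R.g W, a * a = 1 := fun a ha => by
  have h := R.mdl.exp _ (mem_cjS.mp ha)
  calc a * a = R.g * (R.g⁻¹ * a * R.g * (R.g⁻¹ * a * R.g)) * R.g⁻¹ := by group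
    _ = 1 := by rw [h]; group

theorem inf_cent_W {A : Subgroup G} (hA : A ≤ T) : A ⊓ Q = A ⊓ centralizer (W : Set G) := by
  rw [← R.hyp.T_cent R.mdl, ← inf_assoc, inf_eq_left.mpr hA]

/-- The two elementary subgroups induce full transvection groups. -/
theorem counts : Q.relIndex (cjS R.g W) = Nat.card F ∧ Q.relIndex (cjS R.g⁻¹ W) = Nat.card F ∧
    (∀ a ∈ cjS R.g W, R.Lin a) ∧ ∀ a ∈ cjS R.g⁻¹ W, R.Lin a := by
  have hgT' := inv_mem R.gT
  have hgM' : R.g⁻¹ ∉ M := fun e => R.gM (by simpa using inv_mem e)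
  have h2T : cjS R.g⁻¹ W ≤ T := R.hyp.W'_le_T R.mdl hgT' hgM'
  have h2exp : ∀ a ∈ cjS R.g⁻¹ W, a * a = 1 := fun a ha => by
    have h := R.mdl.exp _ (mem_cjS.mp ha)
    rw [inv_inv] at h
    calc a * a = R.g⁻¹ * (R.g * a * R.g⁻¹ * (R.g * a * R.g⁻¹)) * R.g := by group
      _ = 1 := by rw [h]; group
  have k1 := card_eq_relIndex_mul Q (cjS R.g W)
  rw [card_cjS, R.inf_cent_W R.W'_T] at k1
  have k2 := card_eq_relIndex_mul Q (cjS R.g⁻¹ W)
  rw [card_cjS, R.inf_cent_W h2T] at k2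
  have i1 := R.card_cent_le R.W'_T R.W'_exp (R.hyp.W'_not R.mdl R.gT R.gM)
  have i2 := R.card_cent_le h2T h2exp (R.hyp.W'_not R.mdl hgT' hgM')
  have e1 : Nat.card ↥(cjS R.g W ⊓ centralizer (W : Set G)) =
      Nat.card ↥(W ⊓ centralizer (cjS R.g⁻¹ W : Set G)) := by
    rw [← card_cjS R.g (W ⊓ centralizer (cjS R.g⁻¹ W : Set G)), cjS_inf, ← centralizer_cjS, cjS_cancel']
  have e2 : Nat.card ↥(cjS R.g⁻¹ W ⊓ centralizer (W : Set G)) =
      Nat.card ↥(W ⊓ centralizer (cjS R.g W : Set G)) := by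
    rw [← card_cjS R.g (cjS R.g⁻¹ W ⊓ centralizer (W : Set G)), cjS_inf, ← centralizer_cjS, cjS_cancel']
  rw [← e1] at i2
  rw [← e2] at i1
  have u1 := R.relIndex_le R.W'_T R.W'_exp
  have u2 := R.relIndex_le h2T h2exp
  have p1 : 0 < Nat.card ↥(cjS R.g W ⊓ centralizer (W : Set G)) := Nat.card_pos
  have p2 : 0 < Nat.card ↥(cjS R.g⁻¹ W ⊓ centralizer (W : Set G)) := Nat.card_pos
  have a1 : Q.relIndex (cjS R.g W) = Nat.card F := le_antisymm u1 (Nat.le_of_mul_le_mul_right (k1 ▸ i2) p1)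
  have a2 : Q.relIndex (cjS R.g⁻¹ W) = Nat.card F := le_antisymm u2 (Nat.le_of_mul_le_mul_right (k2 ▸ i1) p2)
  refine ⟨a1, a2, R.lin_of_card R.W'_T R.W'_exp ?_ ?_, R.lin_of_card h2T h2exp ?_ ?_⟩
  · have := R.q4; omega
  · rw [← e2, ← a2]; exact k2.le
  · have := R.q4; omega
  · rw [← e1, ← a1]; exact k1.le

/-- The linear part of `T`. -/
def J0 (R : Fr H K M Q T W F) : Subgroup G := Q ⊔ cjS R.g W

theorem J0_le_T : R.J0 ≤ T := sup_le R.hyp.Q_le_T R.W'_T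

theorem lin_le {n : G} (hn : n ∈ T) (hl : R.Lin n) {A : Subgroup G} (hA : A ≤ T) (hA2 : ∀ a ∈ A, a * a = 1)
    (hAl : ∀ a ∈ A, R.Lin a) (hi : Q.relIndex A = Nat.card F) : n ∈ Q ⊔ A := by
  obtain ⟨β, hβ⟩ : ∃ β : ↥A → F, β = fun a : ↥A => R.be a := ⟨_, rfl⟩
  have hinj : ∀ a b : ↥A, β a = β b → (a : G)⁻¹ * b ∈ Q := fun a b h => by
    rw [hβ] at h
    have hm : (a : G)⁻¹ * b ∈ T := hA (A.mul_mem (A.inv_mem a.2) b.2)
    refine R.mem_Q_of_triv (R.T_le_M hm) (R.zpowers_p R.hyp.T_p hm) (R.T_norm_Q hm) fun x =>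
      R.mov_inj (R.T_le_M (hA a.2)) ?_
    rw [← R.mov_mul (R.T_le_M (hA a.2)) (R.T_le_M hm), mul_inv_cancel_left,
      R.mov_unip (R.T_le_Bor (hA a.2)) (hAl _ a.2) (R.zpowers_p R.hyp.T_p (hA a.2)),
      R.mov_unip (R.T_le_Bor (hA b.2)) (hAl _ b.2) (R.zpowers_p R.hyp.T_p (hA b.2))]
    simp only at h
    rw [h]
  have hsurj : Function.Surjective β := by
    by_contra hs
    have h1 := relIndex_le_of_map (fun a : ↥A => (⟨β a, a, rfl⟩ : Set.range β)) fun a b h =>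
      hinj a b (congrArg Subtype.val h)
    have hne : Set.range β ≠ Set.univ := fun e => hs (Set.range_eq_univ.mp e)
    have h2 := Set.ncard_lt_ncard (Set.ssubset_univ_iff.mpr hne) (Set.toFinite _)
    rw [Set.ncard_univ, ← Nat.card_coe_set_eq] at h2
    rw [hi] at h1
    exact absurd (h1.trans_lt h2) (lt_irrefl _)
  obtain ⟨a, ha⟩ := hsurj (R.be n)
  rw [hβ] at ha
  simp only at ha
  have hm : n * (a : G)⁻¹ ∈ T := T.mul_mem hn (T.inv_mem (hA a.2))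
  have hQ : n * (a : G)⁻¹ ∈ Q := by
    refine R.mem_Q_of_triv (R.T_le_M hm) (R.zpowers_p R.hyp.T_p hm) (R.T_norm_Q hm) fun x => ?_
    obtain ⟨y, rfl⟩ : ∃ y, R.mov a y = x := ⟨_, R.mov_inv (R.T_le_M (hA a.2)) x⟩
    rw [← R.mov_mul (R.T_le_M hm) (R.T_le_M (hA a.2)), inv_mul_cancel_right,
      R.mov_unip (R.T_le_Bor hn) hl (R.zpowers_p R.hyp.T_p hn),
      R.mov_unip (R.T_le_Bor (hA a.2)) (hAl _ a.2) (R.zpowers_p R.hyp.T_p (hA a.2)), ha]
  simpa using Subgroup.mul_mem_sup hQ a.2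

theorem mem_J0 {n : G} (hn : n ∈ T) (hl : R.Lin n) : n ∈ R.J0 :=
  R.lin_le hn hl R.W'_T R.W'_exp R.counts.2.2.1 R.counts.1

theorem PK_le_J0 : T ⊓ K ≤ R.J0 := fun n hn => R.mem_J0 hn.1 (R.sig_K ⟨n, hn.2⟩)

theorem Q'_le_T : cjS R.g Q ≤ T := (cjS_mono R.hyp.Q_le_T).trans R.cjT.le

theorem Q'_comm_W' {a b : G} (ha : a ∈ cjS R.g Q) (hb : b ∈ cjS R.g W) : a * b = b * a := by
  have h := mem_centralizer_iff.mp (R.hyp.Q_cent R.mdl (mem_cjS.mp ha)) _ (mem_cjS.mp hb)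
  calc a * b = R.g * (R.g⁻¹ * a * R.g * (R.g⁻¹ * b * R.g)) * R.g⁻¹ := by group
    _ = R.g * (R.g⁻¹ * b * R.g * (R.g⁻¹ * a * R.g)) * R.g⁻¹ := by rw [h]
    _ = b * a := by group

theorem Q'_le_J0 : cjS R.g Q ≤ R.J0 := by
  intro a ha
  have haT := R.Q'_le_T ha
  refine R.mem_J0 haT fun c => ?_
  -- every transvection is induced by an element of the conjugate
  have hstep : ∀ t : F, ∃ b ∈ cjS R.g W, ∀ x, R.mov b x = ![x 0 + t * x 1, x 1] := by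
    intro t
    obtain ⟨k, hk⟩ := R.P.surjρ (up t)
    have hkT : (k : G) ∈ T := (R.hT k).mpr ⟨t, hk⟩
    obtain ⟨q, hq, b, hb, hkb⟩ := mem_mul_of_sup (R.W'_T.trans R.T_norm_Q) (R.PK_le_J0 ⟨hkT, k.2⟩)
    exact ⟨b, hb, fun x => by
      rw [← R.mov_Q hq (R.mov b x), ← R.mov_mul (R.hyp.H_le_M (R.hyp.Q_le_H hq)) (R.T_le_M (R.W'_T hb)),
        ← hkb, R.mov_K, hk, mulVec_up]⟩
  have haM := R.T_le_M haT
  have haB := R.T_le_Bor haT
  have hcomm : ∀ b ∈ cjS R.g W, ∀ x, R.mov a (R.mov b x) = R.mov b (R.mov a x) := fun b hb x => by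
    rw [← R.mov_mul haM (R.T_le_M (R.W'_T hb)), ← R.mov_mul (R.T_le_M (R.W'_T hb)) haM, R.Q'_comm_W' ha hb]
  obtain ⟨b1, hb1, hmov1⟩ := hstep 1
  obtain ⟨b, hb, hmov⟩ := hstep c
  have h1 := congrFun (hcomm b1 hb1 ![0, 1]) 0
  have h2 := congrFun (hcomm b hb ![0, 1]) 0
  simp [hmov1, R.mov_eq haB, R.sig_one haM, R.sig_zero haM] at h1
  simp [hmov, R.mov_eq haB, R.sig_one haM, R.sig_zero haM] at h2
  have hde := R.de_ne haB
  have e1 : R.al a = R.de a := by linear_combination h1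
  rw [e1] at h2
  refine sub_eq_zero.mp ((mul_eq_zero.mp (show (R.sig a c - c) * R.de a = 0 from ?_)).resolve_right hde)
  linear_combination h2

theorem cjS_J0 : cjS R.g R.J0 = R.J0 := by
  have h2 : R.J0 = Q ⊔ cjS R.g⁻¹ W := by
    have hgT' := inv_mem R.gT
    have h2T : cjS R.g⁻¹ W ≤ T := R.hyp.W'_le_T R.mdl hgT' fun e => R.gM (by simpa using inv_mem e)
    refine le_antisymm (sup_le le_sup_left fun n hn => ?_) (sup_le le_sup_left fun n hn => ?_)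
    · exact R.lin_le (R.W'_T hn) (R.counts.2.2.1 n hn) h2T (fun a ha => by
        have h := R.mdl.exp _ (mem_cjS.mp ha)
        rw [inv_inv] at h
        calc a * a = R.g⁻¹ * (R.g * a * R.g⁻¹ * (R.g * a * R.g⁻¹)) * R.g := by group
          _ = 1 := by rw [h]; group) R.counts.2.2.2 R.counts.2.1
    · exact R.mem_J0 (h2T hn) (R.counts.2.2.2 n hn)
  refine eq_of_le_of_card_ge ?_ (card_cjS _ _).ge
  conv_lhs => rw [h2]
  rw [cjS_sup, cjS_cancel']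
  exact sup_le R.Q'_le_J0 ((R.hyp.W_le_Q R.mdl).trans le_sup_left)

theorem Q_le_split : Q ≤ (Q ⊓ cjS R.g Q) ⊔ W := by
  intro q hq
  have h : q ∈ cjS R.g Q ⊔ W := by
    have h1 : q ∈ cjS R.g (Q ⊔ cjS R.g⁻¹ W) := by
      have hgT' := inv_mem R.gT
      have h2T : cjS R.g⁻¹ W ≤ T := R.hyp.W'_le_T R.mdl hgT' fun e => R.gM (by simpa using inv_mem e)
      have hq' : R.g⁻¹ * q * R.g ∈ R.J0 := mem_cjS.mp (R.cjS_J0.ge (mem_sup_left hq))
      rw [mem_cjS]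
      refine R.lin_le (R.J0_le_T hq') ?_ h2T (fun a ha => ?_) R.counts.2.2.2 R.counts.2.1
      · obtain ⟨a, ha, b, hb, e⟩ := mem_mul_of_sup (R.W'_T.trans R.T_norm_Q) hq'
        rw [e]
        intro c
        rw [R.sig_comp (R.hyp.H_le_M (R.hyp.Q_le_H ha)) (R.T_le_M (R.W'_T hb)), R.counts.2.2.1 b hb,
          R.lin_Q ha]
      · have h := R.mdl.exp _ (mem_cjS.mp ha)
        rw [inv_inv] at h
        calc a * a = R.g⁻¹ * (R.g * a * R.g⁻¹ * (R.g * a * R.g⁻¹)) * R.g := by group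
          _ = 1 := by rw [h]; group
    rwa [cjS_sup, cjS_cancel'] at h1
  have hn : W ≤ normalizer (cjS R.g Q : Set G) := by
    rw [normalizer_cjS]
    exact (R.hyp.W_le_T R.mdl).trans (R.cjT.ge.trans (cjS_mono R.T_norm_Q))
  obtain ⟨a, ha, w, hw, rfl⟩ := mem_mul_of_sup hn h
  refine Subgroup.mul_mem_sup ⟨?_, ha⟩ hw
  simpa using Q.mul_mem hq (Q.inv_mem (R.hyp.W_le_Q R.mdl hw))

theorem Q'_le_split : cjS R.g Q ≤ (Q ⊓ cjS R.g Q) ⊔ cjS R.g W := by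
  intro a ha
  obtain ⟨q, hq, b, hb, rfl⟩ := mem_mul_of_sup (R.W'_T.trans R.T_norm_Q) (R.Q'_le_J0 ha)
  refine Subgroup.mul_mem_sup ⟨hq, ?_⟩ hb
  simpa using (cjS R.g Q).mul_mem ha ((cjS R.g Q).inv_mem (cjS_mono (R.hyp.W_le_Q R.mdl) hb))

/-- `Q` is elementary abelian. -/
theorem Q_exp : ∀ q ∈ Q, q * q = 1 := by
  obtain ⟨D, hD⟩ : ∃ D, D = closure {y : G | ∃ c ∈ Q ⊓ cjS R.g Q, y = c * c} := ⟨_, rfl⟩
  have hQn : Q ⊓ cjS R.g Q ≤ normalizer (W : Set G) :=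
    inf_le_left.trans (R.hyp.Q_le_H.trans (R.hyp.H_le_M.trans R.M_W))
  have hQn' : Q ⊓ cjS R.g Q ≤ normalizer (cjS R.g W : Set G) := by
    rw [normalizer_cjS]
    exact inf_le_right.trans (cjS_mono (R.hyp.Q_le_H.trans (R.hyp.H_le_M.trans R.M_W)))
  have hsq : ∀ q ∈ Q, ∃ c ∈ Q ⊓ cjS R.g Q, q * q = c * c := fun q hq => by
    have h := R.Q_le_split hq
    rw [sup_comm] at h
    obtain ⟨w, hw, c, hc, rfl⟩ := mem_mul_of_sup hQn h
    refine ⟨c, hc, ?_⟩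
    rw [show w * c * (w * c) = w * (c * w) * c by group,
      ← mem_centralizer_iff.mp (R.hyp.Q_cent R.mdl hc.1) w hw,
      show w * (w * c) * c = w * w * (c * c) by group, R.mdl.exp w hw, one_mul]
  have hsq' : ∀ q ∈ cjS R.g Q, ∃ c ∈ Q ⊓ cjS R.g Q, q * q = c * c := fun q hq => by
    have h := R.Q'_le_split hq
    rw [sup_comm] at h
    obtain ⟨w, hw, c, hc, rfl⟩ := mem_mul_of_sup hQn' h
    refine ⟨c, hc, ?_⟩
    rw [show w * c * (w * c) = w * (c * w) * c by group, R.Q'_comm_W' hc.2 hw,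
      show w * (w * c) * c = w * w * (c * c) by group, R.W'_exp w hw, one_mul]
  have hDQ : D ≤ Q := hD ▸ (closure_le _).mpr (by
    rintro _ ⟨c, hc, rfl⟩; exact Q.mul_mem hc.1 hc.1)
  have hnorm : ∀ x : G, (∀ c ∈ Q ⊓ cjS R.g Q, ∃ c' ∈ Q ⊓ cjS R.g Q, x * (c * c) * x⁻¹ = c' * c') →
      x ∈ normalizer (D : Set G) := fun x hx => mem_norm fun y hy => by
    have hle : D ≤ D.comap (MulAut.conj x).toMonoidHom := by
      nth_rewrite 1 [hD]
      refine (closure_le _).mpr ?_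
      rintro _ ⟨c, hc, rfl⟩
      obtain ⟨c', hc', e⟩ := hx c hc
      show x * (c * c) * x⁻¹ ∈ D
      rw [e, hD]
      exact subset_closure ⟨c', hc', rfl⟩
    exact hle hy
  have hbot := R.hyp.no_common R.gT R.gM (R.hyp.Q_p.to_le hDQ)
    (fun x hx => hnorm x fun c hc => by
      obtain ⟨c', hc', e⟩ := hsq _ (conj_mem R.hyp.Q_norm hx hc.1)
      exact ⟨c', hc', by rw [← e]; group⟩)
    (fun x hx => hnorm x fun c hc => by
      have hx' : cjS R.g H ≤ normalizer (cjS R.g Q : Set G) := by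
        rw [normalizer_cjS]; exact cjS_mono R.hyp.Q_norm
      obtain ⟨c', hc', e⟩ := hsq' _ (conj_mem hx' hx hc.2)
      exact ⟨c', hc', by rw [← e]; group⟩)
  intro q hq
  obtain ⟨c, hc, e⟩ := hsq q hq
  rw [e, ← mem_bot, ← hbot, hD]
  exact subset_closure ⟨c, hc, rfl⟩

theorem Q'_exp : ∀ a ∈ cjS R.g Q, a * a = 1 := fun a ha => by
  have h := R.Q_exp _ (mem_cjS.mp ha)
  calc a * a = R.g * (R.g⁻¹ * a * R.g * (R.g⁻¹ * a * R.g)) * R.g⁻¹ := by group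
    _ = 1 := by rw [h]; group

theorem W_Q'_iff {w : G} (hw : w ∈ W) : w ∈ cjS R.g Q ↔ R.co w 1 = 0 := by
  obtain ⟨b, hb, hbQ⟩ := SetLike.not_le_iff_exists.mp (R.hyp.W'_not R.mdl R.gT R.gM)
  have hsub : ∀ x ∈ W, x ∈ cjS R.g Q → R.co x 1 = 0 := fun x hx hxQ =>
    R.fix_lin (R.W'_T hb) (R.counts.2.2.1 b hb) hbQ (by
      rw [← R.co_mov (R.T_le_M (R.W'_T hb)) hx, ← R.Q'_comm_W' hxQ hb, mul_inv_cancel_right])
  refine ⟨hsub w hw, fun h => ?_⟩
  obtain ⟨L, hL⟩ : ∃ L : Subgroup G, ∀ x, x ∈ L ↔ x ∈ W ∧ R.co x 1 = 0 :=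
    ⟨{ carrier := {x | x ∈ W ∧ R.co x 1 = 0}
       one_mem' := ⟨W.one_mem, by rw [R.co_one]; rfl⟩
       mul_mem' := fun {a c} ha hc => ⟨W.mul_mem ha.1 hc.1, by
         rw [R.co_mul ha.1 hc.1, Pi.add_apply, ha.2, hc.2, add_zero]⟩
       inv_mem' := fun {a} ha => ⟨W.inv_mem ha.1, by rw [R.co_inv ha.1]; exact ha.2⟩ }, fun _ => Iff.rfl⟩
  have hle : W ⊓ cjS R.g Q ≤ L := fun x hx => (hL x).mpr ⟨hx.1, hsub x hx.1 hx.2⟩
  have hcL : Nat.card L ≤ Nat.card R.Z * Nat.card F :=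
    R.card_le_co (fun x hx => ((hL x).mp hx).1) (fun x : ↥L => R.co x 0) fun a c e => by
      funext i
      fin_cases i
      · exact e
      · exact ((hL a).mp a.2).2.trans ((hL c).mp c.2).2.symm
  have hcQ : Nat.card R.Z * Nat.card F ≤ Nat.card ↥(W ⊓ cjS R.g Q) := by
    have e : cjS R.g (cjS R.g⁻¹ W ⊓ Q) = W ⊓ cjS R.g Q := by rw [cjS_inf, cjS_cancel']
    have k := card_eq_relIndex_mul Q (cjS R.g⁻¹ W)
    rw [card_cjS, R.counts.2.1, R.card_W, ← card_cjS R.g (cjS R.g⁻¹ W ⊓ Q), e] at k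
    refine le_of_eq (Nat.eq_of_mul_eq_mul_left (Nat.card_pos (α := F)) (k.symm.trans ?_).symm)
    ring
  exact ((eq_of_le_of_card_ge hle (hcL.trans hcQ)).ge ((hL w).mpr ⟨hw, h⟩)).2

/-- An involution of the linear part lies in `Q` or its conjugate. -/
theorem mem_or_mem {x : G} (hx : x ∈ R.J0) (h2 : x * x = 1) : x ∈ Q ∨ x ∈ cjS R.g Q := by
  obtain ⟨a, ha, b, hb, rfl⟩ := mem_mul_of_sup (R.W'_T.trans R.T_norm_Q) hx
  by_cases hbQ : b ∈ Q
  · exact Or.inl (Q.mul_mem ha hbQ)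
  refine Or.inr ((cjS R.g Q).mul_mem ?_ (cjS_mono (R.hyp.W_le_Q R.mdl) hb))
  have hc : b * a = a * b := by
    calc b * a = b⁻¹ * a⁻¹ := by
          rw [inv_eq_of_mul_eq_one_left (R.W'_exp b hb), inv_eq_of_mul_eq_one_left (R.Q_exp a ha)]
      _ = (a * b)⁻¹ := (_root_.mul_inv_rev a b).symm
      _ = a * b := inv_eq_of_mul_eq_one_left h2
  obtain ⟨c, hcQ, w, hw, rfl⟩ := mem_mul_of_sup (X := W)
    (fun w hw => norm_inf (R.T_norm_Q) (show T ≤ normalizer (cjS R.g Q : Set G) by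
      rw [normalizer_cjS]; exact R.cjT.ge.trans (cjS_mono R.T_norm_Q)) (R.hyp.W_le_T R.mdl hw))
    (R.Q_le_split ha)
  refine (cjS R.g Q).mul_mem hcQ.2 ((R.W_Q'_iff hw).mpr (R.fix_lin (R.W'_T hb) (R.counts.2.2.1 b hb) hbQ ?_))
  rw [← R.co_mov (R.T_le_M (R.W'_T hb)) hw]
  congr 1
  have hbc : b * c = c * b := (R.Q'_comm_W' hcQ.2 hb).symm
  rw [mul_inv_eq_iff_eq_mul]
  refine mul_left_cancel (a := c) ?_
  calc c * (b * w) = b * c * w := by rw [hbc]; group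
    _ = b * (c * w) := by group
    _ = c * w * b := hc
    _ = c * (w * b) := by group

theorem le_or_le {E : Subgroup G} (hE : E ≤ R.J0) (h2 : ∀ x ∈ E, x * x = 1) :
    E ≤ Q ∨ E ≤ cjS R.g Q := by
  by_contra h
  push Not at h
  obtain ⟨⟨x, hx, hx1⟩, ⟨y, hy, hy2⟩⟩ :=
    And.intro (SetLike.not_le_iff_exists.mp h.1) (SetLike.not_le_iff_exists.mp h.2)
  have hx2 := (R.mem_or_mem (hE hx) (h2 x hx)).resolve_left hx1
  have hy1 := (R.mem_or_mem (hE hy) (h2 y hy)).resolve_right hy2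
  rcases R.mem_or_mem (hE (E.mul_mem hx hy)) (h2 _ (E.mul_mem hx hy)) with hm | hm
  · exact hx1 (by simpa using Q.mul_mem hm (Q.inv_mem hy1))
  · exact hy2 (by simpa using (cjS R.g Q).mul_mem ((cjS R.g Q).inv_mem hx2) hm)

theorem Q'_ne : cjS R.g Q ≠ Q := fun e => R.hyp.W'_not R.mdl R.gT R.gM
  ((cjS_mono (R.hyp.W_le_Q R.mdl)).trans e.le)

/-- The conjugating element interchanges `Q` and its conjugate. -/
theorem swap : cjS R.g (cjS R.g Q) = Q := by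
  have hle : cjS R.g (cjS R.g Q) ≤ R.J0 := (cjS_mono R.Q'_le_J0).trans R.cjS_J0.le
  have hexp : ∀ a ∈ cjS R.g (cjS R.g Q), a * a = 1 := fun a ha => by
    have h := R.Q'_exp _ (mem_cjS.mp ha)
    calc a * a = R.g * (R.g⁻¹ * a * R.g * (R.g⁻¹ * a * R.g)) * R.g⁻¹ := by group
      _ = 1 := by rw [h]; group
  rcases R.le_or_le hle hexp with h | h
  · exact eq_of_le_of_card_ge h (by rw [card_cjS, card_cjS])
  · exact absurd (cjS_inj (eq_of_le_of_card_ge h (card_cjS _ _).ge)) R.Q'_ne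

theorem gg_M : R.g * R.g ∈ M := by
  refine R.hyp.le_M R.hyp.Q_p R.hyp.Q_ne R.hyp.Q_norm (cjS_eq_iff.mp ?_)
  rw [← cjS_cjS, R.swap]

theorem cjS_K' : cjS R.g (cjS R.g K) = K := by
  rw [cjS_cjS, cjS_eq_iff.mpr (R.hyp.M_norm R.gg_M)]

theorem cjS_W' : cjS R.g (cjS R.g W) = W := by
  rw [cjS_cjS, cjS_eq_iff.mpr (R.M_W R.gg_M)]

theorem Q_comm {a b : G} (ha : a ∈ Q) (hb : b ∈ Q) : a * b = b * a := comm_of_exp R.Q_exp ha hb

theorem J0_cent {c : G} (h : c ∈ Q ⊓ cjS R.g Q) : R.J0 ≤ centralizer ({c} : Set G) := sup_le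
  (fun q hq => mem_centralizer_iff.mpr fun y hy => by rw [Set.mem_singleton_iff.mp hy]; exact R.Q_comm h.1 hq)
  (fun b hb => mem_centralizer_iff.mpr fun y hy => by rw [Set.mem_singleton_iff.mp hy]; exact R.Q'_comm_W' h.2 hb)

theorem PK_rel_odd : Odd ((T ⊓ K).relIndex K) := by
  haveI : Fact (Nat.Prime 2) := ⟨Nat.prime_two⟩
  obtain ⟨S, hS⟩ := R.hyp.exists_sylow_K
  have h := S.not_dvd_index
  rw [hS] at h
  rw [Subgroup.relIndex, inf_subgroupOf_right]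
  exact Nat.not_even_iff_odd.mp fun e => h e.two_dvd

theorem inner {q : G} (hq : q ∈ Q ⊓ cjS R.g Q) : ∃ w ∈ W, w * q ∈ Q ⊓ centralizer (K : Set G) := by
  obtain ⟨w, hw, hwc⟩ := exists_inner R.mdl.toCore (P := T ⊓ K) R.PK_rel_odd
    (fun k hk => R.hyp.Q_move' R.mdl hq.1 hk)
    (fun x hx => mem_centralizer_iff.mp (R.J0_cent hq (R.PK_le_J0 hx)) q rfl)
  exact ⟨w, hw, Q.mul_mem (R.hyp.W_le_Q R.mdl hw) hq.1, hwc⟩

theorem W'_le_QP : cjS R.g W ≤ Q ⊔ (T ⊓ K) := fun b hb => by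
  obtain ⟨k, hk, hq⟩ := R.lin_mem (R.W'_T hb) (R.counts.2.2.1 b hb)
  simpa using Subgroup.mul_mem _ (mem_sup_right (S := Q) hk) (mem_sup_left (T := T ⊓ K) hq)

theorem C_le : Q ⊓ centralizer (K : Set G) ≤ cjS R.g Q := by
  intro c hc
  have hcJ : cjS R.g W ≤ centralizer ({c} : Set G) := R.W'_le_QP.trans (sup_le
    (fun q hq => mem_centralizer_iff.mpr fun y hy => by rw [Set.mem_singleton_iff.mp hy]; exact R.Q_comm hc.1 hq)
    (fun k hk => mem_centralizer_iff.mpr fun y hy => by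
      rw [Set.mem_singleton_iff.mp hy]; exact (mem_centralizer_iff.mp hc.2 k hk.2).symm))
  have h : cjS R.g (T ⊓ centralizer (W : Set G)) = T ⊓ centralizer (cjS R.g W : Set G) := by
    rw [cjS_inf, R.cjT, centralizer_cjS]
  refine cjS_mono (R.hyp.T_cent R.mdl).le (h.ge ?_)
  exact ⟨R.hyp.Q_le_T hc.1, mem_centralizer_iff.mpr fun v hv => (mem_centralizer_iff.mp (hcJ hv) c rfl).symm⟩

theorem C_disj : (Q ⊓ centralizer (K : Set G)) ⊓ cjS R.g (Q ⊓ centralizer (K : Set G)) = ⊥ := by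
  refine R.hyp.no_common R.gT R.gM (R.hyp.Q_p.to_le (inf_le_left.trans inf_le_left)) ?_ ?_
  · refine R.hyp.sup.trans (sup_le (norm_le fun k hk x hx => ?_) ?_)
    · rw [mem_centralizer_iff.mp hx.1.2 k hk, mul_inv_cancel_right]; exact hx
    · refine norm_inf (R.hyp.T_le.trans (norm_inf R.hyp.Q_norm (norm_cent R.hyp.norm_K))) ?_
      rw [normalizer_cjS]
      exact R.cjT.ge.trans (cjS_mono (R.hyp.T_le.trans (norm_inf R.hyp.Q_norm (norm_cent R.hyp.norm_K))))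
  · refine (cjS_mono R.hyp.sup).trans ?_
    rw [cjS_sup, R.cjT]
    refine sup_le (norm_le fun k hk x hx => ?_) ?_
    · have h := mem_centralizer_iff.mp (mem_cjS.mp hx.2).2 _ (mem_cjS.mp hk)
      have hkx : k * x = x * k := by
        calc k * x = R.g * (R.g⁻¹ * k * R.g * (R.g⁻¹ * x * R.g)) * R.g⁻¹ := by group
          _ = R.g * (R.g⁻¹ * x * R.g * (R.g⁻¹ * k * R.g)) * R.g⁻¹ := by rw [h]
          _ = x * k := by group
      rw [hkx, mul_inv_cancel_right]; exact hx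
    · refine norm_inf (R.hyp.T_le.trans (norm_inf R.hyp.Q_norm (norm_cent R.hyp.norm_K))) ?_
      rw [normalizer_cjS]
      exact R.cjT.ge.trans (cjS_mono (R.hyp.T_le.trans (norm_inf R.hyp.Q_norm (norm_cent R.hyp.norm_K))))

/-- A torus element of `K` normalizes the conjugate of `Q` and the conjugate of `K`. -/
theorem exists_torus {t : F} (ht : t ≠ 0) : ∃ d : ↥K, R.P.ρ d = dg t ht ∧
    (d : G) ∈ normalizer ((T ⊓ K : Subgroup G) : Set G) ∧
    (d : G) ∈ normalizer (cjS R.g Q : Set G) ∧ (d : G) ∈ normalizer (cjS R.g K : Set G) := by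
  obtain ⟨d, hd⟩ := R.P.surjρ (dg t ht)
  have hdP : (d : G) ∈ normalizer ((T ⊓ K : Subgroup G) : Set G) := mem_norm fun k hk => by
    have hkK : (d : G) * k * (d : G)⁻¹ ∈ K := K.mul_mem (K.mul_mem d.2 hk.2) (K.inv_mem d.2)
    refine ⟨?_, hkK⟩
    obtain ⟨s, hs⟩ := (R.hT ⟨k, hk.2⟩).mp hk.1
    exact (R.hT ⟨_, hkK⟩).mpr ⟨t * t * s, by
      rw [show (⟨_, hkK⟩ : ↥K) = d * ⟨k, hk.2⟩ * d⁻¹ from rfl, map_mul, map_mul, map_inv, hd, hs, dg_up,
        mul_inv_cancel_right]⟩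
  have hJ : R.J0 = Q ⊔ (T ⊓ K) := le_antisymm (sup_le le_sup_left R.W'_le_QP) (sup_le le_sup_left R.PK_le_J0)
  have hdQ : (d : G) ∈ normalizer (Q : Set G) := R.hyp.Q_norm (R.hyp.K_le d.2)
  have hdJ : cjS (d : G) R.J0 = R.J0 := by
    rw [hJ, cjS_sup, cjS_eq_iff.mpr hdQ, cjS_eq_iff.mpr hdP]
  have hle : cjS (d : G) (cjS R.g Q) ≤ R.J0 := (cjS_mono R.Q'_le_J0).trans hdJ.le
  have hexp : ∀ a ∈ cjS (d : G) (cjS R.g Q), a * a = 1 := fun a ha => by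
    have h := R.Q'_exp _ (mem_cjS.mp ha)
    calc a * a = (d : G) * ((d : G)⁻¹ * a * d * ((d : G)⁻¹ * a * d)) * (d : G)⁻¹ := by group
      _ = 1 := by rw [h]; group
  have hdQ' : (d : G) ∈ normalizer (cjS R.g Q : Set G) := by
    rcases R.le_or_le hle hexp with h | h
    · refine absurd (cjS_inj (g := (d : G)) ?_) R.Q'_ne
      rw [cjS_eq_iff.mpr hdQ]
      exact eq_of_le_of_card_ge h (by rw [card_cjS, card_cjS])
    · exact cjS_eq_iff.mp (eq_of_le_of_card_ge h (card_cjS _ _).ge)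
  refine ⟨d, hd, hdP, hdQ', ?_⟩
  rw [normalizer_cjS]
  exact cjS_mono ((R.hyp.le_M R.hyp.Q_p R.hyp.Q_ne R.hyp.Q_norm).trans R.hyp.M_norm)
    (show (d : G) ∈ cjS R.g (normalizer (Q : Set G)) by rw [← normalizer_cjS]; exact hdQ')

theorem exists_scalar : ∃ t : F, t ≠ 0 ∧ t ≠ 1 := by
  by_contra hc
  push Not at hc
  have h : Nat.card F ≤ Nat.card Bool := by
    classical
    refine Nat.card_le_card_of_injective (fun x : F => decide (x = 0)) fun a b e => ?_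
    have e' : a = 0 ↔ b = 0 := by simpa using e
    by_cases ha : a = 0
    · rw [ha, e'.mp ha]
    · rw [hc a ha, hc b fun hb => ha (e'.mpr hb)]
  rw [Nat.card_eq_two_iff.mpr ⟨false, true, by decide, by ext b; cases b <;> simp⟩] at h
  have := R.q4
  omega

theorem C'_le_W : cjS R.g (Q ⊓ centralizer (K : Set G)) ≤ W := by
  obtain ⟨t, ht, ht1⟩ := R.exists_scalar
  obtain ⟨d, hd, -, hdQ', hdK'⟩ := R.exists_torus ht
  obtain ⟨C', hC'⟩ : ∃ C', C' = cjS R.g (Q ⊓ centralizer (K : Set G)) := ⟨_, rfl⟩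
  rw [← hC']
  have hQQ : C' ≤ Q ⊓ cjS R.g Q := hC' ▸
    (cjS_mono (le_inf inf_le_left R.C_le)).trans ((cjS_inf _ _ _).trans_le
      (le_inf (inf_le_right.trans R.swap.le) inf_le_left))
  have hdC : (d : G) ∈ normalizer (C' : Set G) := by
    rw [hC', cjS_inf, ← centralizer_cjS]
    exact norm_inf (Y := zpowers (d : G)) (zpowers_le.mpr hdQ')
      (norm_cent (zpowers_le.mpr hdK')) (mem_zpowers _)
  -- the commutator with `d` lands in `W`
  have hsplit : ∀ y ∈ C', ∃ w ∈ W, ∃ c ∈ Q ⊓ centralizer (K : Set G), y = w * c ∧ R.co w 1 = 0 := by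
    intro y hy
    obtain ⟨w, hw, hc⟩ := R.inner (hQQ hy)
    refine ⟨w, hw, w * y, hc, by rw [← mul_assoc, R.mdl.exp w hw, one_mul], (R.W_Q'_iff hw).mp ?_⟩
    simpa using (cjS R.g Q).mul_mem (R.C_le hc) ((cjS R.g Q).inv_mem (hQQ hy).2)
  let f : ↥C' → ↥C' := fun y => ⟨(d : G) * y * (d : G)⁻¹ * y, C'.mul_mem
    ((mem_normalizer_iff.mp hdC _).mp y.2) y.2⟩
  have hcomp : ∀ w ∈ W, ∀ c ∈ Q ⊓ centralizer (K : Set G),
      (d : G) * (w * c) * (d : G)⁻¹ * (w * c) = (d : G) * w * (d : G)⁻¹ * w := by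
    intro w hw c hc
    have h1 : (d : G) * c = c * d := mem_centralizer_iff.mp hc.2 _ d.2
    have h2 : c * w = w * c := R.Q_comm hc.1 (R.hyp.W_le_Q R.mdl hw)
    calc (d : G) * (w * c) * (d : G)⁻¹ * (w * c) = (d : G) * w * (d : G)⁻¹ * ((d : G) * c * (d : G)⁻¹ * (w * c)) := by group
      _ = (d : G) * w * (d : G)⁻¹ * (c * (w * c)) := by rw [h1, mul_inv_cancel_right]
      _ = (d : G) * w * (d : G)⁻¹ * w * (c * c) := by rw [← mul_assoc c w c, h2]; group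
      _ = (d : G) * w * (d : G)⁻¹ * w := by rw [R.Q_exp c hc.1, mul_one]
  have hinj : Function.Injective f := by
    intro a b hab
    have hm : (a : G) * b ∈ C' := C'.mul_mem a.2 b.2
    obtain ⟨w, hw, c, hc, hwc, hw1⟩ := hsplit _ hm
    have hab' : (d : G) * a * (d : G)⁻¹ * a = (d : G) * b * (d : G)⁻¹ * b := congrArg Subtype.val hab
    have hcm : ∀ x ∈ C', ∀ y ∈ C', x * y = y * x := fun x hx y hy => R.Q_comm (hQQ hx).1 (hQQ hy).1
    have hz : (d : G) * (w * c) * (d : G)⁻¹ * (w * c) = 1 := by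
      rw [← hwc]
      calc (d : G) * ((a : G) * b) * (d : G)⁻¹ * ((a : G) * b)
          = (d : G) * a * (d : G)⁻¹ * ((d : G) * b * (d : G)⁻¹ * a) * b := by group
        _ = (d : G) * a * (d : G)⁻¹ * (a * ((d : G) * b * (d : G)⁻¹)) * b := by
          rw [hcm a a.2 _ ((mem_normalizer_iff.mp hdC _).mp b.2)]
        _ = (d : G) * a * (d : G)⁻¹ * a * ((d : G) * b * (d : G)⁻¹ * b) := by group
        _ = 1 := by rw [hab']; exact R.Q_exp _ (hQQ (f b).2).1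
    rw [hcomp w hw c hc] at hz
    have h0 := congrArg R.co hz
    rw [R.co_mul (conj_mem R.mdl.norm d.2 hw) hw, R.co_conj d hw, hd, mulVec_dg, R.co_one] at h0
    have h00 := congrFun h0 0
    simp at h00
    have hw0 : R.co w 0 = 0 := by
      have : (t + 1) * R.co w 0 = 0 := by linear_combination h00
      exact (mul_eq_zero.mp this).resolve_left fun e => ht1 (CharTwo.add_eq_zero.mp e)
    have hwZ : w ∈ Q ⊓ centralizer (K : Set G) := by
      have : w ∈ R.Z := (R.co_eq_zero hw).mp (by ext i; fin_cases i <;> simp [hw0, hw1])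
      exact ⟨R.hyp.W_le_Q R.mdl hw, this.2⟩
    have hbot : (a : G) * b ∈ (Q ⊓ centralizer (K : Set G)) ⊓ C' :=
      ⟨hwc ▸ (Q ⊓ centralizer (K : Set G)).mul_mem hwZ hc, hm⟩
    have hbot' : (a : G) * b = 1 := mem_bot.mp (((inf_le_inf_left _ hC'.le).trans R.C_disj.le) hbot)
    clear hbot
    have hbot := hbot'
    refine Subtype.ext ?_
    rw [eq_inv_of_mul_eq_one_left hbot, inv_eq_of_mul_eq_one_left (R.Q_exp _ (hQQ b.2).1)]
  intro y hy
  obtain ⟨x, hx⟩ := Finite.injective_iff_surjective.mp hinj ⟨y, hy⟩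
  obtain ⟨w, hw, c, hc, hxc, -⟩ := hsplit x x.2
  have hy' : y = (d : G) * x * (d : G)⁻¹ * x := congrArg Subtype.val hx.symm
  rw [hy', hxc, hcomp w hw c hc]
  exact W.mul_mem (conj_mem R.mdl.norm d.2 hw) hw

/-- The kernel of the block is its core. -/
theorem Q_eq : Q = W := by
  refine le_antisymm ?_ (R.hyp.W_le_Q R.mdl)
  obtain ⟨C', hC'⟩ : ∃ C', C' = cjS R.g (Q ⊓ centralizer (K : Set G)) := ⟨_, rfl⟩
  have hCW' : Q ⊓ centralizer (K : Set G) ≤ cjS R.g W := by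
    refine le_trans ?_ (cjS_mono R.C'_le_W)
    rw [cjS_inf, cjS_inf, R.swap, ← centralizer_cjS, ← centralizer_cjS, R.cjS_K']
  have hC'W' : C' ≤ cjS R.g W := by
    intro x hx
    have hxW : x ∈ W := R.C'_le_W (hC' ▸ hx)
    have hx1 : R.co x 1 = 0 := (R.W_Q'_iff hxW).mp (cjS_mono inf_le_left (hC' ▸ hx))
    obtain ⟨k, hk⟩ := R.P.surjρ (up (R.co x 0))
    obtain ⟨q, hq, b, hb, hkb⟩ := mem_mul_of_sup (R.W'_T.trans R.T_norm_Q)
      (R.PK_le_J0 ⟨(R.hT k).mpr ⟨_, hk⟩, k.2⟩)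
    obtain ⟨w, hw⟩ : ∃ w, w = R.lift ![0, 1] := ⟨_, rfl⟩
    have hwW : w ∈ W := hw ▸ R.lift_mem _
    have hbW : b * w * b⁻¹ * w ∈ cjS R.g W := by
      have hwn : W ≤ normalizer (cjS R.g W : Set G) := by
        rw [normalizer_cjS]
        exact (R.hyp.W_le_T R.mdl).trans (R.cjT.ge.trans (cjS_mono (R.T_le_M.trans R.M_W)))
      have h := conj_mem hwn hwW ((cjS R.g W).inv_mem hb)
      rw [R.mdl.inv_eq hwW] at h
      simpa [mul_assoc] using (cjS R.g W).mul_mem hb h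
    have hbW' : b * w * b⁻¹ * w ∈ W := W.mul_mem (conj_mem R.M_W (R.T_le_M (R.W'_T hb)) hwW) hwW
    have hco : R.co (b * w * b⁻¹ * w) = R.co x := by
      rw [R.co_mul (conj_mem R.M_W (R.T_le_M (R.W'_T hb)) hwW) hwW, R.co_mov (R.T_le_M (R.W'_T hb)) hwW,
        ← R.mov_Q hq (R.mov b _), ← R.mov_mul (R.hyp.H_le_M (R.hyp.Q_le_H hq)) (R.T_le_M (R.W'_T hb)), ← hkb,
        R.mov_K, hk, hw, R.co_lift, mulVec_up]
      ext i
      fin_cases i <;> simp [hx1, CharTwo.add_self_eq_zero]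
    have hz := (R.co_eq_iff hbW' hxW).mp hco
    have h := (cjS R.g W).mul_mem ((cjS R.g W).inv_mem hbW) (hCW' ⟨R.hyp.W_le_Q R.mdl hz.1, hz.2⟩)
    rwa [inv_mul_cancel_left] at h
  have hCW : Q ⊓ centralizer (K : Set G) ≤ W := by
    refine le_trans ?_ ((cjS_mono (hC' ▸ hC'W')).trans R.cjS_W'.le)
    rw [cjS_inf, cjS_inf, R.swap, ← centralizer_cjS, ← centralizer_cjS, R.cjS_K']
  refine R.Q_le_split.trans (sup_le (fun q hq => ?_) le_rfl)
  obtain ⟨w, hw, hc⟩ := R.inner hq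
  simpa using W.mul_mem (W.inv_mem hw) (hCW hc)

end Fr

end Cfsg.Agent.Invol.PushNorm
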