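import Cfsg.Agent.Lib.Invol.PushNorm.FCase
import Cfsg.Agent.S3313

/-!
# No involution interchanges the modules
-/

set_option autoImplicit false
set_option linter.style.haveILetI false
set_option linter.unusedSectionVars false

namespace Cfsg.Agent.Invol.PushNorm

open Subgroup Matrix
open Cfsg.Agent.Grp.SL2 (up)
open Cfsg.Agent.Invol.Nat2 (dg mulVec_up mulVec_dg)
open Cfsg.Agent.Invol.NatPair (card_le_fixed_sq)
open Cfsg.Agent.Transfer.QRC (core2 core2_le core2_norm le_core2 core2_isPGroup norm_of_conj)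

universe u

variable {G : Type u} [Group G] [Finite G] {F : Type} [Field F] [Finite F] [CharP F 2]

theorem mul_self_of_comm {s x : G} (hs : s * s = 1) (hx : x * x = 1) (hc : s * x = x * s) :
    s * x * (s * x) = 1 := by
  rw [show s * x * (s * x) = s * (x * s) * x by group, ← hc, show s * (s * x) * x = (s * s) * (x * x) by group,
    hs, hx, one_mul]

namespace Fr

variable {H K M Q T W : Subgroup G} (R : Fr H K M Q T W F)
include R

theorem mem_Bor_of_axis {r : G} (hrM : r ∈ M) (h0 : R.mov r ![1, 0] 1 = 0) : r ∈ R.Bor := by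
  refine ⟨hrM, mem_norm fun j hj => ?_⟩
  have hjK : r * j * r⁻¹ ∈ K := conj_mem R.hyp.M_norm hrM hj.2
  obtain ⟨s, hs⟩ := (R.hT ⟨j, hj.2⟩).mp hj.1
  have h := R.mov_mulVec hrM ⟨j, hj.2⟩ hjK ![1, 0]
  rw [hs, mulVec_up] at h
  obtain ⟨a, ha⟩ : ∃ a, a = R.mov r ![1, 0] 0 := ⟨_, rfl⟩
  have ha' : R.mov r ![1, 0] = a • (![1, 0] : Fin 2 → F) := by
    ext i; fin_cases i <;> simp [← ha, h0]
  have ha0 : a ≠ 0 := fun e => R.e1_ne (R.mov_inj hrM (by rw [ha', e, zero_smul, R.mov_zero hrM]))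
  simp only [Matrix.cons_val_zero, Matrix.cons_val_one, Matrix.cons_val_fin_one, mul_zero, add_zero] at h
  rw [ha', Matrix.mulVec_smul] at h
  exact ⟨(R.hT ⟨_, hjK⟩).mpr (NatPair.eq_up_of_fix (smul_right_injective _ ha0 h).symm), hjK⟩

variable (hBJ : ∀ n ∈ R.Bor, IsPGroup 2 (zpowers n) → n ∈ R.J)
include hBJ

/-- A 2-element of `N(J)` lies in `J` or in the coset of an interchanging one. -/
theorem two_cases {P : Subgroup G} (hP : IsPGroup 2 P) (hPN : P ≤ normalizer (R.J : Set G)) {s x : G} (hs : s ∈ P)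
    (hsM : s ∉ M) (hx : x ∈ P) : x ∈ R.J ∨ s * x ∈ R.J := by
  by_cases hxM : x ∈ M
  · exact Or.inl (hBJ x ⟨hxM, hPN hx⟩ (sq_of_pGroup hP hx))
  · exact Or.inr (hBJ _ (R.swap_pair (hPN hs) (hPN hx) hsM hxM) (sq_of_pGroup hP (P.mul_mem hs hx)))

theorem T_eq : T = R.J := le_antisymm (fun t ht => hBJ t (R.T_le_Bor ht) (sq_of_pGroup R.hyp.T_p ht)) R.J_le_T

variable {s : G} (hsJ : s ∈ normalizer (R.J : Set G)) (hsM : s ∉ M) (hs2 : s * s = 1)
include hsJ hsM hs2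

theorem invol_cases {x : G} (hxJ : x ∈ normalizer (R.J : Set G)) (hx : x * x = 1) (hc : s * x = x * s) :
    x ∈ R.Y ∨ s * x ∈ R.Y := by
  have key : ∀ y ∈ R.J, y * y = 1 → s * y = y * s → y ∈ R.Y := fun y hy hy2 hcy => by
    have hfix : s⁻¹ * y * s = y := by rw [mul_assoc, ← hcy, inv_mul_cancel_left]
    rcases R.mem_W_or hy hy2 with h | h
    · exact ⟨h, (R.swap_W hsJ hsM).le (mem_cjS.mpr (hfix.symm ▸ h))⟩
    · exact ⟨(R.swap_W' hsJ hsM).le (mem_cjS.mpr (hfix.symm ▸ h)), h⟩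
  by_cases hxM : x ∈ M
  · exact Or.inl (key x (hBJ x ⟨hxM, hxJ⟩ (zpowers_invol hx)) hx hc)
  · have h2 := mul_self_of_comm hs2 hx hc
    refine Or.inr (key _ (hBJ _ (R.swap_pair hsJ hxJ hsM hxM) (zpowers_invol h2)) h2 ?_)
    rw [← mul_assoc, mul_assoc s x s, ← hc]; group

/-- The second type: centralizers of fixed points on `Y` normalize `J`. -/
theorem CI_S (hZ : R.Z ≠ ⊥) {i : G} (hi : i ∈ R.Y) (hi1 : i ≠ 1) (hsi : s * i = i * s) :
    centralizer ({i} : Set G) ≤ normalizer (R.J : Set G) := by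
  obtain ⟨C, hC⟩ : ∃ C, C = centralizer ({i} : Set G) := ⟨_, rfl⟩
  obtain ⟨R2, hR2⟩ : ∃ R2, R2 = core2 C := ⟨_, rfl⟩
  rw [← hC]
  have hJC : R.J ≤ C := fun x hx => hC ▸ mem_cent.mpr (R.Y_central hi hx)
  have hsC : s ∈ C := hC ▸ mem_cent.mpr hsi
  have hR2n : C ≤ normalizer (R2 : Set G) := hR2 ▸ norm_of_conj (core2_norm C)
  have hR2C : R2 ≤ C := hR2 ▸ core2_le C
  have hR2p : IsPGroup 2 R2 := hR2 ▸ core2_isPGroup C
  obtain ⟨P, hP⟩ : ∃ P, P = R2 ⊔ (R.J ⊔ zpowers s) := ⟨_, rfl⟩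
  have hPp : IsPGroup 2 P := hP ▸ hR2p.to_sup_of_normal_left'
    (R.J_p.to_sup_of_normal_left' (zpowers_invol hs2) (zpowers_le.mpr hsJ))
    ((sup_le hJC (zpowers_le.mpr hsC)).trans hR2n)
  have hPN : P ≤ normalizer (R.J : Set G) :=
    R.le_norm_J (Or.inl hZ) hPp (hP ▸ le_sup_of_le_right le_sup_left)
  have hsP : s ∈ P := hP ▸ mem_sup_right (mem_sup_right (mem_zpowers s))
  have hR2P : R2 ≤ P := hP ▸ le_sup_left
  have hcases := fun x (hx : x ∈ R2) => R.two_cases hBJ hPp hPN hsP hsM (hR2P hx)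
  have hswapR : ∀ {x : G}, x ∈ R2 → s * x * s⁻¹ ∈ R2 := fun hx => (mem_normalizer_iff.mp (hR2n hsC) _).mp hx
  have hYR : R.Y ≤ R2 := by
    by_cases hRJ : R2 ≤ R.J
    · have hcent := (core_cent R.hyp.char2 (t := i) hi1 (R.mdl.exp i hi.1)).2
      rw [← hC, ← hR2] at hcent
      intro y hy
      exact hcent ⟨hJC (R.W_le_J hy.1), mem_centralizer_iff.mpr fun x hx => R.Y_central hy (hRJ hx)⟩
    · obtain ⟨r, hr, hrJ⟩ := SetLike.not_le_iff_exists.mp hRJ
      have hrN : r ∈ normalizer (R.J : Set G) := hPN (hR2P hr)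
      have hrM : r ∉ M := fun e => hrJ (hBJ r ⟨e, hrN⟩ (sq_of_pGroup hR2p hr))
      have hcom : ∀ b ∈ R.W', ∀ w ∈ W, b * w * b⁻¹ * w⁻¹ ∈ R2 := by
        intro b hb w hw
        obtain ⟨a, ha, rfl⟩ := (R.swap_W hrN hrM).ge hb
        show r * a * r⁻¹ * w * (r * a * r⁻¹)⁻¹ * w⁻¹ ∈ R2
        have hu : r * a * r⁻¹ * a⁻¹ ∈ R2 := by
          rw [show r * a * r⁻¹ * a⁻¹ = r * (a * r⁻¹ * a⁻¹) by group]
          exact R2.mul_mem hr ((mem_normalizer_iff.mp (hR2n (hJC (R.W_le_J ha))) _).mp (R2.inv_mem hr))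
        have hw' := (mem_normalizer_iff.mp (hR2n (hJC (R.W_le_J hw))) _).mp (R2.inv_mem hu)
        have h := R2.mul_mem hu hw'
        convert h using 1
        have haw : a * w = w * a := R.mdl.comm a ha w hw
        calc r * a * r⁻¹ * w * (r * a * r⁻¹)⁻¹ * w⁻¹
            = r * a * r⁻¹ * a⁻¹ * (a * w) * (r * a * r⁻¹)⁻¹ * w⁻¹ := by group
          _ = r * a * r⁻¹ * a⁻¹ * (w * a) * (r * a * r⁻¹)⁻¹ * w⁻¹ := by rw [haw]
          _ = r * a * r⁻¹ * a⁻¹ * (w * (r * a * r⁻¹ * a⁻¹)⁻¹ * w⁻¹) := by group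
      obtain ⟨t, ht, ht1⟩ := R.exists_scalar
      obtain ⟨d, hd, hdP, -, -⟩ := R.exists_torus ht
      have hdB : (d : G) ∈ R.Bor := ⟨R.K_le_M d.2, hdP⟩
      have hZ' : R.Z' ≤ R2 := by
        intro x hx
        obtain ⟨k, hk⟩ := R.P.surjρ (up (R.co x 0 / (t + 1)))
        obtain ⟨a, ha, b, hb, hkb⟩ := R.exists_mul (show (k : G) ∈ R.J from ⟨(R.hT k).mpr ⟨_, hk⟩, k.2⟩)
        obtain ⟨w, hw⟩ : ∃ w, w = R.lift ![0, 1] := ⟨_, rfl⟩
        have hwW : w ∈ W := hw ▸ R.lift_mem _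
        have hbM := R.T_le_M (R.J_le_T (R.W'_le_J hb))
        have hy1 : b * w * b⁻¹ * w⁻¹ ∈ W := W.mul_mem (conj_mem R.M_W hbM hwW) (W.inv_mem hwW)
        have hy2 : b * w * b⁻¹ * w⁻¹ ∈ R.W' := by
          rw [show b * w * b⁻¹ * w⁻¹ = b * (w * b⁻¹ * w⁻¹) by group]
          exact R.W'.mul_mem hb (conj_mem ((R.hyp.W_le_T R.mdl).trans R.T_norm_W') hwW (R.W'.inv_mem hb))
        obtain ⟨y, hy⟩ : ∃ y, y = b * w * b⁻¹ * w⁻¹ := ⟨_, rfl⟩
        have hyR : y ∈ R2 := hy ▸ hcom b hb w hwW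
        have hyc : R.co y = ![R.co x 0 / (t + 1), 0] := by
          rw [hy, R.co_mul (conj_mem R.M_W hbM hwW) (W.inv_mem hwW), R.co_inv hwW, R.co_mov hbM hwW,
            ← R.mov_Q (R.hyp.W_le_Q R.mdl ha) (R.mov b _), ← R.mov_mul (R.K_le_M (R.W_le_K ha)) hbM, ← hkb,
            R.mov_K, hk, hw, R.co_lift, mulVec_up]
          ext i; fin_cases i <;> simp [CharTwo.add_self_eq_zero]
        obtain ⟨z, hz, x', hx', hzx⟩ := R.Y_split hZ (show y ∈ R.Y from hy ▸ ⟨hy1, hy2⟩)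
        have hdy : (d : G) * y * (d : G)⁻¹ ∈ R2 := by
          rw [hy, show (d : G) * (b * w * b⁻¹ * w⁻¹) * (d : G)⁻¹ =
            (d * b * (d : G)⁻¹) * (d * w * (d : G)⁻¹) * (d * b * (d : G)⁻¹)⁻¹ * (d * w * (d : G)⁻¹)⁻¹ by group]
          exact hcom _ (conj_mem R.Bor_norm_W' hdB hb) _ (conj_mem R.mdl.norm d.2 hwW)
        have hm : (d : G) * x' * (d : G)⁻¹ * x' ∈ R2 := by
          have hzd : (d : G) * z * (d : G)⁻¹ = z := by
            rw [mem_centralizer_iff.mp hz.2 d d.2, mul_inv_cancel_right]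
          have hdx : (d : G) * x' * (d : G)⁻¹ ∈ W := conj_mem R.mdl.norm d.2 (R.Z'_le_W hx')
          have h := R2.mul_mem hdy hyR
          rw [hzx, show (d : G) * (z * x') * (d : G)⁻¹ = (d * z * (d : G)⁻¹) * (d * x' * (d : G)⁻¹) by group,
            hzd, R.mdl.comm z hz.1 _ hdx,
            show (d : G) * x' * (d : G)⁻¹ * z * (z * x') = d * x' * (d : G)⁻¹ * (z * z) * x' by group,
            R.mdl.exp z hz.1, mul_one] at h
          exact h
        refine R.co_Z'_inj hx (R.Z'.mul_mem (conj_mem R.Bor_norm_Z' hdB hx') hx') ?_ ▸ hm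
        have hc : R.co x' = R.co y := by
          rw [hzx, R.co_mul hz.1 (R.Z'_le_W hx'), (R.co_eq_zero hz.1).mpr hz, zero_add]
        rw [R.co_mul (conj_mem R.mdl.norm d.2 (R.Z'_le_W hx')) (R.Z'_le_W hx'), R.co_conj d (R.Z'_le_W hx'), hd,
          mulVec_dg, hc, hyc]
        have ht1' : t + 1 ≠ 0 := fun e => ht1 (CharTwo.add_eq_zero.mp e)
        simp only [Pi.add_apply, Matrix.cons_val_zero]
        field_simp
      intro y hy
      obtain ⟨z, hz, x', hx', rfl⟩ := R.Y_split hZ hy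
      refine R2.mul_mem ?_ (hZ' hx')
      have := (R.swap_Z' hsJ hsM).ge hz
      rw [mem_cjS] at this
      simpa [mul_assoc] using hswapR (hZ' this)
  -- the two maximal elementary subgroups
  obtain ⟨E1, hE1⟩ : ∃ E1, E1 = R2 ⊓ W := ⟨_, rfl⟩
  obtain ⟨E2, hE2⟩ : ∃ E2, E2 = R2 ⊓ R.W' := ⟨_, rfl⟩
  have hR2fix : cjS s R2 = R2 := cjS_eq_iff.mpr (hR2n hsC)
  have hsE : cjS s E1 = E2 := by rw [hE1, hE2, cjS_inf, hR2fix, R.swap_W hsJ hsM]
  have hmax : ∀ E : Subgroup G, E ≤ R2 → (∀ x ∈ E, x * x = 1) → Nat.card R.Y ≤ Nat.card E → E ≤ E1 ∨ E ≤ E2 := by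
    intro E hER hE2' hcE
    by_cases hEJ : E ≤ R.J
    · exact (R.le_W_or hEJ hE2').imp (fun h => hE1 ▸ le_inf hER h) fun h => hE2 ▸ le_inf hER h
    exfalso
    obtain ⟨r, hr, hrJ⟩ := SetLike.not_le_iff_exists.mp hEJ
    have hmM : ∀ x ∈ E, x ∉ R.J → x ∉ M := fun x hx hxJ e =>
      hxJ (hBJ x ⟨e, hPN (hR2P (hER hx))⟩ (zpowers_invol (hE2' x hx)))
    have h1 : Nat.card E ≤ 2 * Nat.card ↥(E ⊓ R.J) := card_le_two fun a ha ha' b hb hb' =>
      hBJ _ (R.swap_pair (hPN (hR2P (hER ha))) (hPN (hR2P (hER hb))) (hmM a ha ha') (hmM b hb hb'))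
        (zpowers_invol (hE2' _ (E.mul_mem ha hb)))
    have hrN := hPN (hR2P (hER hr))
    have hrM := hmM r hr hrJ
    have h3 : Nat.card ↥(E ⊓ R.J) ≤ Nat.card F := by
      refine R.swap_fix hrN hrM (fun y hy => ?_) fun y hy => comm_of_exp hE2' hr hy.1
      have hfix : r⁻¹ * y * r = y := by rw [mul_assoc, ← comm_of_exp hE2' hr hy.1, inv_mul_cancel_left]
      rcases R.mem_W_or hy.2 (hE2' y hy.1) with h | h
      · exact ⟨h, (R.swap_W hrN hrM).le (mem_cjS.mpr (hfix.symm ▸ h))⟩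
      · exact ⟨(R.swap_W' hrN hrM).le (mem_cjS.mpr (hfix.symm ▸ h)), h⟩
    rw [R.card_Y, (R.card_Z).resolve_left hZ] at hcE
    have hq := R.q4
    have := Nat.mul_le_mul_right (Nat.card F) hq
    omega
  have hY1 : R.Y ≤ E1 := hE1 ▸ le_inf hYR inf_le_left
  have hY2 : R.Y ≤ E2 := hE2 ▸ le_inf hYR inf_le_right
  have hY12 : E1 ⊓ E2 = R.Y := le_antisymm
    (hE1 ▸ hE2 ▸ fun x hx => ⟨hx.1.2, hx.2.2⟩) (le_inf hY1 hY2)
  have hc12 : Nat.card E2 = Nat.card E1 := by rw [← hsE, card_cjS]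
  have hexpc : ∀ (c : G) (E : Subgroup G), (∀ a ∈ E, a * a = 1) → ∀ a ∈ cjS c E, a * a = 1 := fun c E hE a ha => by
    have h := hE _ (mem_cjS.mp ha)
    calc a * a = c * (c⁻¹ * a * c * (c⁻¹ * a * c)) * c⁻¹ := by group
      _ = 1 := by rw [h]; group
  intro c hc
  have hcR : cjS c R2 = R2 := cjS_eq_iff.mpr (hR2n hc)
  have himg : ∀ E : Subgroup G, E ≤ R2 → (∀ a ∈ E, a * a = 1) → Nat.card R.Y ≤ Nat.card E →
      Nat.card E = Nat.card E1 → cjS c E = E1 ∨ cjS c E = E2 := by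
    intro E hER hE hcE hcard
    rcases hmax (cjS c E) ((cjS_mono hER).trans hcR.le) (hexpc c E hE) (hcE.trans (card_cjS c E).ge) with h | h
    · exact Or.inl (eq_of_le_of_card_ge h (by rw [card_cjS, hcard]))
    · exact Or.inr (eq_of_le_of_card_ge h (by rw [card_cjS, hcard, hc12]))
  have hY : cjS c R.Y = R.Y := by
    rcases himg E1 (hE1 ▸ inf_le_left) (hE1 ▸ fun a ha => R.mdl.exp a ha.2) (card_le_of_le hY1) rfl with a | a <;>
    rcases himg E2 (hE2 ▸ inf_le_left) (hE2 ▸ fun a ha => R.W'_exp' a ha.2) (card_le_of_le hY2) hc12 with b | b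
    all_goals rw [← hY12, cjS_inf, a, b]
    · rw [cjS_inj (a.trans b.symm)]
    · exact inf_comm _ _
    · rw [cjS_inj (a.trans b.symm)]
  -- `N(Y) ≤ N(J)`
  obtain ⟨z, hz, hz1⟩ := (bot_or_exists_ne_one R.Z).resolve_left hZ
  have hfixz : ∀ y : G, y * z = z * y → y ∈ normalizer (zpowers z : Set G) := fun y hy => mem_norm fun w hw => by
    obtain ⟨k, rfl⟩ := mem_zpowers_iff.mp hw
    rw [(show Commute y (z ^ k) from Commute.zpow_right hy k).eq, mul_inv_cancel_right]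
    exact zpow_mem (mem_zpowers z) k
  have hCz : ∀ y : G, y * z = z * y → y ∈ M := fun y hy =>
    R.hyp.le_M (zpowers_invol (R.mdl.exp z hz.1)) (fun e => hz1 (zpowers_eq_bot.mp e))
      (R.hyp.sup.trans (sup_le (fun k hk => hfixz k (mem_centralizer_iff.mp hz.2 k hk))
        fun t ht => hfixz t (R.Y_central (R.Z_le_Y hz) ((R.T_eq hBJ).le ht)))) (hfixz y hy)
  refine R.norm_J_of_conj (Or.inl hZ) fun y hy => ?_
  -- conjugates of `J` centralize `Y`
  have hyY : ∀ w ∈ R.Y, y * w = w * y := by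
    intro w hw
    have hw' : c⁻¹ * w * c ∈ R.Y := mem_cjS.mp (hY.ge hw)
    have h := R.Y_central hw' (mem_cjS.mp hy)
    calc y * w = c * (c⁻¹ * y * c * (c⁻¹ * w * c)) * c⁻¹ := by group
      _ = c * (c⁻¹ * w * c * (c⁻¹ * y * c)) * c⁻¹ := by rw [h]
      _ = w * y := by group
  have hyM : y ∈ M := hCz y (hyY z (R.Z_le_Y hz))
  have hy0 : R.lift ![1, 0] ∈ R.Y := (R.Y_iff).mpr ⟨R.lift_mem _, by rw [R.co_lift]; rfl⟩
  have hyB : y ∈ R.Bor := R.mem_Bor_of_axis hyM (by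
    rw [← R.co_lift ![1, 0], ← R.co_mov hyM (R.lift_mem _), hyY _ hy0, mul_inv_cancel_right, R.co_lift]; rfl)
  exact hyB.2

/-- Two fixed points on `Y`. -/
theorem exists_two_fixed (h8 : 8 ≤ Nat.card R.Y) :
    ∃ a ∈ R.Y, ∃ b ∈ R.Y, a ≠ 1 ∧ b ≠ 1 ∧ a ≠ b ∧ s * a = a * s ∧ s * b = b * s := by
  letI : CommGroup ↥R.Y := { (inferInstance : Group ↥R.Y) with
    mul_comm := fun a b => Subtype.ext (R.mdl.comm a a.2.1 b b.2.1) }
  have hn : ∀ y ∈ R.Y, s * y * s⁻¹ ∈ R.Y := fun y hy => (R.swap_Y hsJ hsM).le (conj_mem_cjS hy)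
  let φ : Additive ↥R.Y →+ Additive ↥R.Y :=
    { toFun := fun y => Additive.ofMul ⟨_, hn _ (Additive.toMul y).2⟩
      map_zero' := congrArg Additive.ofMul (Subtype.ext (show s * (1 : G) * s⁻¹ = 1 by group))
      map_add' := fun x y => congrArg Additive.ofMul (Subtype.ext
        (show s * (((Additive.toMul x : ↥R.Y) : G) * (Additive.toMul y : ↥R.Y)) * s⁻¹ =
          s * (Additive.toMul x : ↥R.Y) * s⁻¹ * (s * (Additive.toMul y : ↥R.Y) * s⁻¹) by group)) }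
  have hge := card_le_fixed_sq φ (fun x => Additive.toMul.injective
    (Subtype.ext (R.mdl.exp _ (Additive.toMul x).2.1))) (fun x => Additive.toMul.injective (Subtype.ext (by
      show s * (s * ((Additive.toMul x : ↥R.Y) : G) * s⁻¹) * s⁻¹ = _
      rw [inv_eq_of_mul_eq_one_left hs2,
        show s * (s * ((Additive.toMul x : ↥R.Y) : G) * s) * s = (s * s) * (Additive.toMul x : ↥R.Y) * (s * s) by group,
        hs2, one_mul, mul_one])))
  rw [Nat.card_congr Additive.toMul] at hge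
  by_contra hc
  push Not at hc
  have hle : Nat.card {x // φ x = x} ≤ 2 := by
    classical
    refine (Nat.card_le_card_of_injective
      (fun x : {x // φ x = x} => decide (((Additive.toMul x.1 : ↥R.Y) : G) = 1)) fun x y e => Subtype.ext ?_).trans
      (le_of_eq (Nat.card_eq_two_iff.mpr ⟨false, true, by decide, by ext b; cases b <;> simp⟩))
    have hsc : ∀ x : {x // φ x = x}, s * ((Additive.toMul x.1 : ↥R.Y) : G) = (Additive.toMul x.1 : ↥R.Y) * s :=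
      fun x => mul_inv_eq_iff_eq_mul.mp (congrArg (fun z : Additive ↥R.Y => ((Additive.toMul z : ↥R.Y) : G)) x.2)
    have e' : ((Additive.toMul x.1 : ↥R.Y) : G) = 1 ↔ ((Additive.toMul y.1 : ↥R.Y) : G) = 1 := by simpa using e
    refine Additive.toMul.injective (Subtype.ext ?_)
    by_cases hx : ((Additive.toMul x.1 : ↥R.Y) : G) = 1
    · rw [hx, e'.mp hx]
    · by_contra hne
      exact hc _ (Additive.toMul x.1).2 _ (Additive.toMul y.1).2 hx (fun h => hx (e'.mpr h)) hne (hsc x) (hsc y)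
  have := Nat.mul_le_mul hle hle
  omega

/-- The centralizer of an interchanging involution normalizes `J`. -/
theorem cent_swap_le (hbig : R.Z ≠ ⊥ ∨ 8 ≤ Nat.card F) (h8 : 8 ≤ Nat.card R.Y)
    (hCI : ∀ i ∈ R.Y, i ≠ 1 → s * i = i * s → centralizer ({i} : Set G) ≤ normalizer (R.J : Set G)) :
    centralizer ({s} : Set G) ≤ normalizer (R.J : Set G) := by
  obtain ⟨a, ha, b, hb, ha1, hb1, hab, hsa, hsb⟩ := R.exists_two_fixed hBJ hsJ hsM hs2 h8
  have hY2 : ∀ y ∈ R.Y, y * y = 1 := fun y hy => R.mdl.exp y hy.1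
  have hab1 : a * b ≠ 1 := fun e => hab (by rw [eq_inv_of_mul_eq_one_left e, R.mdl.inv_eq hb.1])
  have hsab : s * (a * b) = a * b * s := by rw [← mul_assoc, hsa, mul_assoc, hsb, mul_assoc]
  have key : ∀ y u : G, y * s = s * y → u ∈ R.Y → u ≠ 1 → s * u = u * s →
      y * u * y⁻¹ ∈ normalizer (R.J : Set G) → y ∈ normalizer (R.J : Set G) := by
    intro y u hy hu hu1 hsu hv
    have hconj : ∀ x : G, s * x = x * s → s * (y * x * y⁻¹) = y * x * y⁻¹ * s := fun x hx => by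
      have hy' : y⁻¹ * s = s * y⁻¹ := by
        calc y⁻¹ * s = y⁻¹ * (s * y) * y⁻¹ := by group
          _ = y⁻¹ * (y * s) * y⁻¹ := by rw [hy]
          _ = s * y⁻¹ := by group
      calc s * (y * x * y⁻¹) = (s * y) * x * y⁻¹ := by group
        _ = y * (s * x) * y⁻¹ := by rw [← hy]; group
        _ = y * x * (s * y⁻¹) := by rw [hx]; group
        _ = y * x * y⁻¹ * s := by rw [← hy']; group
    obtain ⟨v, hv'⟩ : ∃ v, v = y * u * y⁻¹ := ⟨_, rfl⟩
    rw [← hv'] at hv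
    have hv2 : v * v = 1 := hv' ▸ conj_sq (hY2 u hu)
    have hv1 : v ≠ 1 := fun e => hu1 (conj_eq_one_iff.mp (hv' ▸ e))
    have hsv : s * v = v * s := hv' ▸ hconj u hsu
    -- what commutes with `v` and `s` normalizes `J`
    have hcv : ∀ x : G, x * v = v * x → x * s = s * x → x ∈ normalizer (R.J : Set G) := by
      intro x hxv hxs
      rcases R.invol_cases hBJ hsJ hsM hs2 hv hv2 hsv with h | h
      · exact hCI v h hv1 hsv (mem_cent.mpr hxv)
      · refine hCI (s * v) h (fun e => ?_) ?_ (mem_cent.mpr ?_)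
        · refine hu1 ?_
          have hvs : v = s := by rw [eq_inv_of_mul_eq_one_right e, inv_eq_of_mul_eq_one_left hs2]
          have hus : u = s := by
            calc u = y⁻¹ * v * y := by rw [hv']; group
              _ = y⁻¹ * (s * y) := by rw [hvs]; group
              _ = s := by rw [← hy]; group
          exact absurd (R.K_le_M (R.W_le_K hu.1)) (hus ▸ hsM)
        · rw [mul_assoc s v s, ← hsv]
        · rw [← mul_assoc, hxs, mul_assoc, hxv, mul_assoc]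
    -- images of fixed points
    have himg : ∀ i ∈ R.Y, s * i = i * s → y * i * y⁻¹ ∈ R.Y ∨ s * (y * i * y⁻¹) ∈ R.Y := by
      intro i hi hsi
      refine R.invol_cases hBJ hsJ hsM hs2 (hcv _ ?_ (hconj i hsi).symm) (conj_sq (hY2 i hi)) (hconj i hsi)
      have := R.mdl.comm i hi.1 u hu.1
      rw [hv', show y * i * y⁻¹ * (y * u * y⁻¹) = y * (i * u) * y⁻¹ by group, this]; group
    have hgood : ∀ i ∈ R.Y, i ≠ 1 → s * i = i * s → y * i * y⁻¹ ∈ R.Y → y ∈ normalizer (R.J : Set G) := by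
      intro i hi hi1 hsi hyi
      refine R.norm_J_of_conj hbig ?_
      intro x hx
      rw [mem_cjS] at hx
      refine hCI _ hyi (fun e => hi1 (conj_eq_one_iff.mp e)) (hconj i hsi) (mem_cent.mpr ?_)
      have := R.Y_central hi hx
      calc x * (y * i * y⁻¹) = y * (y⁻¹ * x * y * i) * y⁻¹ := by group
        _ = y * (i * (y⁻¹ * x * y)) * y⁻¹ := by rw [this]
        _ = y * i * y⁻¹ * x := by group
    rcases himg a ha hsa with h | h
    · exact hgood a ha ha1 hsa h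
    rcases himg b hb hsb with h' | h'
    · exact hgood b hb hb1 hsb h'
    refine hgood _ (R.Y.mul_mem ha hb) hab1 hsab ?_
    have h3 := R.Y.mul_mem h h'
    have hc := hconj a hsa
    rw [show s * (y * a * y⁻¹) * (s * (y * b * y⁻¹)) = (s * (y * a * y⁻¹)) * s * (y * b * y⁻¹) by group, hc,
      mul_assoc (y * a * y⁻¹) s s, hs2, mul_one] at h3
    convert h3 using 1
    group
  have hs1 : s ≠ 1 := fun e => hsM (e ▸ M.one_mem)
  obtain ⟨C, hC⟩ : ∃ C, C = centralizer ({s} : Set G) := ⟨_, rfl⟩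
  obtain ⟨R2, hR2⟩ : ∃ R2, R2 = core2 C := ⟨_, rfl⟩
  obtain ⟨hsR, -⟩ := core_cent R.hyp.char2 hs1 hs2
  rw [← hC, ← hR2] at hsR
  have hR2n : C ≤ normalizer (R2 : Set G) := hR2 ▸ norm_of_conj (core2_norm C)
  have hR2p : IsPGroup 2 R2 := hR2 ▸ core2_isPGroup C
  have hR2C : ∀ x ∈ R2, x * s = s * x := fun x hx => mem_cent.mp (hC.le ((hR2 ▸ core2_le C : R2 ≤ C) hx))
  -- a fixed point in the core
  obtain ⟨u, hu, huY, hu1⟩ : ∃ u ∈ R2, u ∈ R.Y ∧ u ≠ 1 := by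
    by_contra hc
    push Not at hc
    refine no_core R.hyp.char2 (N := normalizer (R.J : Set G)) hs1 hs2 hsJ ?_ (hY2 a ha) (hY2 b hb) hsa.symm
      hsb.symm (R.mdl.comm a ha.1 b hb.1) (fun e => hsM (e ▸ R.K_le_M (R.W_le_K ha.1))) ha1 (hCI a ha ha1 hsa)
      (hCI b hb hb1 hsb) (hCI _ (R.Y.mul_mem ha hb) hab1 hsab)
    rintro x ⟨hx, hxJ⟩
    rw [← hC, ← hR2] at hx
    obtain ⟨P, hP⟩ : ∃ P, P = R2 ⊓ normalizer (R.J : Set G) := ⟨_, rfl⟩
    have hPp : IsPGroup 2 P := hP ▸ hR2p.to_le inf_le_left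
    have hsP : s ∈ P := hP ▸ ⟨hsR, hsJ⟩
    have hxP : x ∈ P := hP ▸ ⟨hx, hxJ⟩
    have hbot : R2 ⊓ R.J = ⊥ := by
      by_contra hne
      obtain ⟨w, hw, hw1, hw2⟩ := exists_invol (hR2p.to_le inf_le_left) hne
      rcases R.invol_cases hBJ hsJ hsM hs2 (le_normalizer hw.2) hw2 (hR2C w hw.1).symm with h | h
      · exact hw1 (hc w hw.1 h)
      · exact hsM ((Subgroup.mul_mem_cancel_right M (R.K_le_M hw.2.2)).mp (R.K_le_M (R.W_le_K h.1)))
    rcases R.two_cases hBJ hPp (hP ▸ inf_le_right) hsP hsM hxP with h | h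
    · rw [mem_bot.mp (hbot.le ⟨hx, h⟩)]; exact one_mem _
    · have e := mem_bot.mp (hbot.le ⟨R2.mul_mem hsR hx, h⟩)
      rw [eq_inv_of_mul_eq_one_right e]
      exact inv_mem (mem_zpowers s)
  have hsu : s * u = u * s := (hR2C u hu).symm
  have hRN : R2 ≤ normalizer (R.J : Set G) := by
    by_contra hne
    haveI : Fact (Nat.Prime 2) := ⟨Nat.prime_two⟩
    haveI : Group.IsNilpotent ↥R2 := hR2p.isNilpotent
    obtain ⟨N, hN⟩ : ∃ N, N = (normalizer (R.J : Set G)).subgroupOf R2 := ⟨_, rfl⟩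
    have hlt : N < ⊤ := lt_top_iff_ne_top.mpr fun e => hne (subgroupOf_eq_top.mp (hN ▸ e))
    obtain ⟨⟨x, hxR⟩, hx, hxN⟩ := SetLike.exists_of_lt (Group.normalizerCondition_of_isNilpotent _ hlt)
    refine hxN (hN ▸ mem_subgroupOf.mpr (key x u (hR2C x hxR) huY hu1 hsu ?_))
    have huN : (⟨u, hu⟩ : ↥R2) ∈ N := hN ▸ mem_subgroupOf.mpr (le_normalizer (R.W_le_J huY.1))
    have h := (mem_normalizer_iff.mp hx ⟨u, hu⟩).mp huN
    rw [hN, mem_subgroupOf] at h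
    exact h
  intro c hc
  refine key c u (mem_cent.mp hc) huY hu1 hsu (hRN ?_)
  exact (mem_normalizer_iff.mp (hR2n (hC ▸ hc)) u).mp hu

omit hsJ hsM hs2 in
/-- There is no interchanging involution. -/
theorem false_swap (hbig : R.Z ≠ ⊥ ∨ 8 ≤ Nat.card F) (h8 : 8 ≤ Nat.card R.Y)
    (hCI : ∀ t : G, t ∈ normalizer (R.J : Set G) → t ∉ M → t * t = 1 →
      ∀ i ∈ R.Y, i ≠ 1 → t * i = i * t → centralizer ({i} : Set G) ≤ normalizer (R.J : Set G)) : False := by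
  obtain ⟨s, hsJ, hsM, hs2⟩ := R.exists_swap hBJ
  have hCs : ∀ t : G, t ∈ normalizer (R.J : Set G) → t ∉ M → t * t = 1 →
      centralizer ({t} : Set G) ≤ normalizer (R.J : Set G) := fun t h1 h2 h3 =>
    R.cent_swap_le hBJ h1 h2 h3 hbig h8 (hCI t h1 h2 h3)
  -- an involution of `K` moving the axis
  obtain ⟨k, hk⟩ := R.P.surjρ (up 1)
  obtain ⟨a, ha, b, hb, hkb⟩ := R.exists_mul (show (k : G) ∈ R.J from ⟨(R.hT k).mpr ⟨_, hk⟩, k.2⟩)
  have hbK : b ∈ K := R.J_le_K (R.W'_le_J hb)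
  have hρb : R.P.ρ ⟨b, hbK⟩ = up 1 := by
    rw [← hk, show k = ⟨a, R.W_le_K ha⟩ * ⟨b, hbK⟩ from Subtype.ext hkb, map_mul,
      (R.P.kerρ ⟨a, R.W_le_K ha⟩).mpr ha, one_mul]
  have hbW : b ∉ W := fun e => one_ne_zero (α := F)
    (upinj ((hρb.symm.trans ((R.P.kerρ ⟨b, hbK⟩).mpr e)).trans Grp.SL2.up_zero.symm))
  obtain ⟨l, hl⟩ := R.P.surjρ SL2Nat.wel
  obtain ⟨w, hw⟩ : ∃ w, w = (l : G) * b * (l : G)⁻¹ := ⟨_, rfl⟩
  have hwK : w ∈ K := hw ▸ K.mul_mem (K.mul_mem l.2 hbK) (K.inv_mem l.2)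
  have hw2 : w * w = 1 := hw ▸ conj_sq (R.W'_exp' b hb)
  have hwN : w ∉ normalizer (R.J : Set G) := by
    intro e
    have h := R.mov_line (⟨R.K_le_M hwK, e⟩ : w ∈ R.Bor) 1
    have hρw : R.P.ρ ⟨w, hwK⟩ = SL2Nat.wel * up 1 * SL2Nat.wel⁻¹ := by
      rw [show (⟨w, hwK⟩ : ↥K) = l * ⟨b, hbK⟩ * l⁻¹ from Subtype.ext hw, map_mul, map_mul, map_inv, hl, hρb]
    have hlow : (SL2Nat.wel * up 1 * SL2Nat.wel⁻¹ : Matrix.SpecialLinearGroup (Fin 2) F) = Grp.SL2.low (-1) := by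
      rw [SL2Nat.low_eq, neg_neg]
    rw [show R.mov w = R.mov ((⟨w, hwK⟩ : ↥K) : G) from rfl, R.mov_K, hρw, hlow] at h
    simp [Grp.SL2.low, Matrix.mulVec, dotProduct, Fin.sum_univ_two] at h
  -- it is conjugate to an element of `Y`
  obtain ⟨x, e, he, hwe⟩ : ∃ x : G, ∃ e ∈ R.Y, w = x * e * x⁻¹ := by
    have hb' : R.g⁻¹ * b * R.g ∈ W := mem_cjS.mp hb
    have hv0 : R.co (R.g⁻¹ * b * R.g) ≠ 0 := fun e0 => hbW (by
      have h1 := conj_mem_cjS (g := R.g) ((R.co_eq_zero hb').mp e0)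
      rw [show R.g * (R.g⁻¹ * b * R.g) * R.g⁻¹ = b by group] at h1
      exact R.Z'_le_W h1)
    obtain ⟨A, hA⟩ := Fus.RootPair.exists_map hv0
    obtain ⟨m, hm⟩ := R.P.surjρ A
    refine ⟨(l : G) * (R.g * m), (m : G)⁻¹ * (R.g⁻¹ * b * R.g) * m, (R.Y_iff).mpr ⟨?_, ?_⟩, by rw [hw]; group⟩
    · have := conj_mem R.mdl.norm (K.inv_mem m.2) hb'
      rwa [inv_inv] at this
    · have h := R.co_conj m⁻¹ hb'
      push_cast at h
      rw [inv_inv] at h
      rw [h, map_inv, hm, ← hA, Matrix.mulVec_mulVec, ← Matrix.SpecialLinearGroup.coe_mul, inv_mul_cancel,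
        Matrix.SpecialLinearGroup.coe_one, Matrix.one_mulVec]
      rfl
  have hnot : ¬ IsConj w s := by
    intro hconj
    obtain ⟨y, hy⟩ := isConj_iff.mp hconj
    have hs' : s = y * x * e * (y * x)⁻¹ := by rw [← hy, hwe]; group
    have hyx : y * x ∈ normalizer (R.J : Set G) := R.norm_J_of_conj hbig fun v hv => by
      rw [mem_cjS] at hv
      refine hCs s hsJ hsM hs2 (mem_cent.mpr ?_)
      have h := R.Y_central he hv
      calc v * s = y * x * ((y * x)⁻¹ * v * (y * x) * e) * (y * x)⁻¹ := by rw [hs']; group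
        _ = y * x * (e * ((y * x)⁻¹ * v * (y * x))) * (y * x)⁻¹ := by rw [h]
        _ = s * v := by rw [hs']; group
    exact hsM (hs' ▸ R.K_le_M (R.J_le_K ((mem_normalizer_iff.mp hyx e).mp (R.W_le_J he.1))))
  have hev : ¬ Odd (orderOf (w * s)) := fun ho => hnot (S3313.isConj_of_odd hw2 hs2 ho)
  obtain ⟨n, hn⟩ := Nat.not_odd_iff_even.mp hev
  obtain ⟨c, hc⟩ : ∃ c, c = (w * s) ^ n := ⟨_, rfl⟩
  have hcne : c ≠ 1 := hc ▸ pow_ne_one_of_lt_orderOf (fun e0 => by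
    have := orderOf_pos (w * s); omega) (by have := orderOf_pos (w * s); omega)
  have hc2 : c * c = 1 := by rw [hc, ← pow_add, ← hn, pow_orderOf_eq_one]
  have hwc : w * c = c * w := by
    have h1 : w * c * w⁻¹ = c := by
      have hinv : w * (w * s) * w⁻¹ = (w * s)⁻¹ := by
        rw [_root_.mul_inv_rev, inv_eq_of_mul_eq_one_left hs2, inv_eq_of_mul_eq_one_left hw2, ← mul_assoc w w s,
          hw2, one_mul]
      rw [hc, ← conj_pow, hinv, inv_pow, ← hc, inv_eq_of_mul_eq_one_left hc2]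
    exact mul_inv_eq_iff_eq_mul.mp h1
  have hsc : s * c = c * s := by
    have h1 : c * (w * s) = w * s * c := by rw [hc, ← pow_succ, ← pow_succ']
    refine mul_left_cancel (a := w) ?_
    calc w * (s * c) = w * s * c := (mul_assoc _ _ _).symm
      _ = c * (w * s) := h1.symm
      _ = (c * w) * s := (mul_assoc _ _ _).symm
      _ = (w * c) * s := by rw [hwc]
      _ = w * (c * s) := mul_assoc _ _ _
  have hcN : c ∈ normalizer (R.J : Set G) := hCs s hsJ hsM hs2 (mem_cent.mpr hsc.symm)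
  rcases R.invol_cases hBJ hsJ hsM hs2 hcN hc2 hsc with h | h
  · exact hwN (hCI s hsJ hsM hs2 c h hcne hsc (mem_cent.mpr hwc))
  · have hcM : c ∉ M := fun h' => hsM ((Subgroup.mul_mem_cancel_right M h').mp (R.K_le_M (R.W_le_K h.1)))
    exact hwN (hCs c hcN hcM hc2 (mem_cent.mpr hwc))

end Fr

end Cfsg.Agent.Invol.PushNorm
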